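import Cfsg.Agent.PlaneStab.Kinds

/-!
# The directions are points or flags
-/

set_option autoImplicit false

open Matrix

namespace CfsgLib.PlaneStab

variable {F : Type*} [Field F]

theorem dv_dv (g : L F) : dv (dv g) = g := by
  apply Subtype.ext
  show ((AutPSL.invTransSL (AutPSL.invTransSL g) : L F) : Matrix (Fin 3) (Fin 3) F) = _
  rw [AutPSL.invTransSL_coe, ← map_inv, AutPSL.invTransSL_coe, inv_inv, Matrix.transpose_transpose]

theorem dv_pow_four {g : L F} (hg : g ^ 4 = 1) : dv g ^ 4 = 1 := by rw [← map_pow, hg, map_one]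

theorem dv_mul (g h : L F) : dv (g * h) = dv g * dv h := map_mul _ g h

theorem dv_inv (g : L F) : dv g⁻¹ = (dv g)⁻¹ := map_inv _ g

variable [CharP F 2]

/-- A 2-element fixing the standard flag is upper unitriangular. -/
theorem mem_upper_of_fix {g : L F} (hg : g ^ 4 = 1) (h0 : g • p0 F = p0 F)
    (h2 : dv g • p2 F = p2 F) : g ∈ upper F := by
  rw [smul_pt_eq_iff hg] at h0
  rw [smul_pt_eq_iff (dv_pow_four hg)] at h2
  have h2' : Matrix.vecMul (![0, 0, 1] : Fin 3 → F) (g : Matrix (Fin 3) (Fin 3) F) = ![0, 0, 1] := by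
    simp only [mv, dv, AutPSL.invTransSL_coe, Matrix.mulVec_transpose] at h2
    have := congrArg (fun w => Matrix.vecMul w (g : Matrix (Fin 3) (Fin 3) F)) h2
    simp only [Matrix.vecMul_vecMul, ← Matrix.SpecialLinearGroup.coe_mul, inv_mul_cancel,
      Matrix.SpecialLinearGroup.coe_one, Matrix.vecMul_one] at this
    exact this.symm
  have e00 : (g : Matrix (Fin 3) (Fin 3) F) 0 0 = 1 := by simpa [mv, Matrix.mulVec, dotProduct, Fin.sum_univ_three] using congrFun h0 0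
  have e10 : (g : Matrix (Fin 3) (Fin 3) F) 1 0 = 0 := by simpa [mv, Matrix.mulVec, dotProduct, Fin.sum_univ_three] using congrFun h0 1
  have e20 : (g : Matrix (Fin 3) (Fin 3) F) 2 0 = 0 := by simpa [mv, Matrix.mulVec, dotProduct, Fin.sum_univ_three] using congrFun h0 2
  have e21 : (g : Matrix (Fin 3) (Fin 3) F) 2 1 = 0 := by simpa [Matrix.vecMul, dotProduct, Fin.sum_univ_three] using congrFun h2' 1
  have e22 : (g : Matrix (Fin 3) (Fin 3) F) 2 2 = 1 := by simpa [Matrix.vecMul, dotProduct, Fin.sum_univ_three] using congrFun h2' 2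
  have e11 : (g : Matrix (Fin 3) (Fin 3) F) 1 1 = 1 := by
    have := g.2
    rw [Matrix.det_fin_three] at this
    simp [e00, e10, e20, e21, e22] at this
    exact this
  refine ⟨(g : Matrix (Fin 3) (Fin 3) F) 0 1, (g : Matrix (Fin 3) (Fin 3) F) 1 2,
    (g : Matrix (Fin 3) (Fin 3) F) 0 2, ?_⟩
  ext i j
  fin_cases i <;> fin_cases j <;> simp [uu_coe, e00, e10, e20, e21, e22, e11]

variable [Finite F]

/-- A 2-element fixing a point fixes a line through it. -/
theorem exists_fixed_line {g : L F} (hg : g ^ 4 = 1) {p : Pt F} (hp : g • p = p) :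
    ∃ w, inc p w ∧ dv g • w = w := by
  haveI := Fintype.ofFinite F
  obtain ⟨k, x, y, z, e⟩ := exists_conj_mem_upper hg
  have hp' : uu x y z • (k⁻¹ • p) = k⁻¹ • p := by
    rw [← e, mul_smul, mul_smul, smul_inv_smul, hp]
  obtain ⟨w, hw, hfix⟩ : ∃ w, inc (k⁻¹ • p) w ∧ dv (uu x y z) • w = w := by
    by_cases hxy : x = 0 ∨ y = 0
    · by_cases hne : x ≠ 0 ∨ y ≠ 0 ∨ z ≠ 0
      · obtain ⟨A, C, hCA, hA, hC⟩ := involution_axis hxy hne
        exact ⟨A, (hA _).1 hp', (hC A).2 hCA⟩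
      · simp only [not_or, not_not] at hne
        obtain ⟨w, hw, -⟩ := exists_ne_inc (k⁻¹ • p) (p0 F)
        refine ⟨w, inc_comm.1 hw, ?_⟩
        rw [hne.1, hne.2.1, hne.2.2, uu_zero, dv, map_one, one_smul]
    · rw [not_or] at hxy
      refine ⟨p2 F, ?_, (upper_fix_p0 (uu_mem x y z)).2⟩
      rw [((order_four_fixed hxy.1 hxy.2).1 _).1 hp']
      exact inc_p0_p2
  refine ⟨dv k • w, ?_, ?_⟩
  · have := (inc_smul k _ _).2 hw
    rwa [smul_inv_smul] at this
  · rw [← mul_smul, ← dv_mul, show g * k = k * (k⁻¹ * g * k) by group, e, dv_mul, mul_smul, hfix]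

/-- A 2-element fixing a line fixes a point on it. -/
theorem exists_fixed_point {g : L F} (hg : g ^ 4 = 1) {w : Pt F} (hw : dv g • w = w) :
    ∃ p, inc p w ∧ g • p = p := by
  obtain ⟨p, hp, hfix⟩ := exists_fixed_line (dv_pow_four hg) hw
  exact ⟨p, inc_comm.1 hp, by rwa [dv_dv] at hfix⟩

variable {H : Subgroup (L F)}

omit [Finite F] in
theorem eq_top_of_upper (hu : upper F ≤ H) {h : L F} (hh : h ∈ H) (h2 : mv h ![1, 0, 0] 2 ≠ 0) :
    H = ⊤ := by
  set v := mv h ![1, 0, 0] with hv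
  obtain ⟨k, hkH, hkv⟩ : ∃ k ∈ H, mv k ![1, 0, 0] = ![0, 0, v 2] := by
    refine ⟨uu 0 (v 1 / v 2) (v 0 / v 2) * h, mul_mem (hu (uu_mem _ _ _)) hh, ?_⟩
    rw [mv, Matrix.SpecialLinearGroup.coe_mul, ← Matrix.mulVec_mulVec]
    show mv (uu 0 (v 1 / v 2) (v 0 / v 2)) v = _
    rw [mv_uu]
    ext i
    fin_cases i <;> simp [h2, CharTwo.add_self_eq_zero]
  have k00 : (k : Matrix (Fin 3) (Fin 3) F) 0 0 = 0 := by simpa [mv, Matrix.mulVec, dotProduct, Fin.sum_univ_three] using congrFun hkv 0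
  have k10 : (k : Matrix (Fin 3) (Fin 3) F) 1 0 = 0 := by simpa [mv, Matrix.mulVec, dotProduct, Fin.sum_univ_three] using congrFun hkv 1
  have k20 : (k : Matrix (Fin 3) (Fin 3) F) 2 0 = v 2 := by simpa [mv, Matrix.mulVec, dotProduct, Fin.sum_univ_three] using congrFun hkv 2
  have hl : ∀ y z : F, ll 0 y z ∈ H := by
    intro y z
    let M := (k : Matrix (Fin 3) (Fin 3) F)
    have e : ll 0 y z * k = k * uu ((z * M 0 1 + y * M 1 1) / v 2) 0 ((z * M 0 2 + y * M 1 2) / v 2) := by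
      apply Subtype.ext
      rw [Matrix.SpecialLinearGroup.coe_mul, Matrix.SpecialLinearGroup.coe_mul, ll_coe, uu_coe]
      ext i j
      fin_cases i <;> fin_cases j <;>
        simp [Matrix.mul_apply, Fin.sum_univ_three, k00, k10, k20, M, mul_div_cancel₀ _ h2] <;> ring
    rw [eq_mul_inv_of_mul_eq e]
    exact mul_mem (mul_mem hkH (hu (uu_mem _ _ _))) (inv_mem hkH)
  have hl1 : ∀ x : F, ll x 0 0 ∈ H := by
    intro x
    have e : uu 0 x 0 * ll 0 0 1 = ll x 0 0 * ll 0 0 1 * uu 0 x 0 := by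
      apply Subtype.ext
      simp only [Matrix.SpecialLinearGroup.coe_mul, ll_coe, uu_coe]
      ext i j
      fin_cases i <;> fin_cases j <;> simp [Matrix.mul_apply, Fin.sum_univ_three]
    rw [eq_mul_inv_of_mul_eq (eq_mul_inv_of_mul_eq e.symm)]
    exact mul_mem (mul_mem (mul_mem (hu (uu_mem _ _ _)) (hl 0 1)) (inv_mem (hu (uu_mem _ _ _))))
      (inv_mem (hl 0 1))
  refine AutPSL.eq_top_of_simple_mem (m := 2) (by norm_num) H (fun i t => ?_) (fun i t => ?_)
  · fin_cases i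
    · show AutPSL.xe (0 : Fin 3) 1 t ∈ H
      rw [(xe_eq_uu t).1]; exact hu (uu_mem _ _ _)
    · show AutPSL.xe (1 : Fin 3) 2 t ∈ H
      rw [(xe_eq_uu t).2.1]; exact hu (uu_mem _ _ _)
  · fin_cases i
    · show AutPSL.xe (1 : Fin 3) 0 t ∈ H
      rw [(xe_eq_uu t).2.2.1]; exact hl1 t
    · show AutPSL.xe (2 : Fin 3) 1 t ∈ H
      rw [(xe_eq_uu t).2.2.2]; exact hl t 0

/-- A proper subgroup containing `upper F` fixes the standard point or the standard line. -/
theorem subgroup_cases (hu : upper F ≤ H) (hne : H ≠ ⊤) :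
    (∀ h ∈ H, h • p0 F = p0 F) ∨ ∀ h ∈ H, dv h • p2 F = p2 F := by
  have hinc : ∀ h ∈ H, inc (h • p0 F) (p2 F) := by
    intro h hh
    rw [smul_pt, inc_mk]
    by_contra hc
    refine hne (eq_top_of_upper hu hh fun e => hc ?_)
    simp [dotProduct, Fin.sum_univ_three, e]
  by_contra hc
  simp only [not_or, not_forall] at hc
  obtain ⟨⟨k, hk, hkp⟩, h, hh, hhl⟩ := hc
  refine hhl (inc_unique (p := h • p0 F) (q := h • k • p0 F) (fun e => hkp (smul_left_cancel h e.symm))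
    ((inc_smul h _ _).2 inc_p0_p2)
    ((inc_smul h _ _).2 (hinc k hk)) (hinc h hh) ?_)
  rw [← mul_smul]
  exact hinc _ (mul_mem hh hk)

/-- If the point is fixed and the line is moved, all 2-elements fixing the point belong. -/
theorem mem_of_fix_point (hu : upper F ≤ H) (hp : ∀ h ∈ H, h • p0 F = p0 F) {h : L F} (hh : h ∈ H)
    (hhl : dv h • p2 F ≠ p2 F) {g : L F} (hg : g ^ 4 = 1) (hgp : g • p0 F = p0 F) : g ∈ H := by
  have key : ∀ w, inc (p0 F) w → ∃ k ∈ H, dv k • p2 F = w := by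
    intro w hw
    by_cases hw2 : w = p2 F
    · exact ⟨1, one_mem H, by rw [dv, map_one, one_smul, hw2]⟩
    have hl : inc (p0 F) (dv h • p2 F) := by
      have := (inc_smul h _ _).2 inc_p0_p2
      rwa [hp h hh] at this
    revert hw hw2 hl hhl
    generalize ha : dv h • p2 F = l
    induction w using Projectivization.ind with | _ b hb =>
    induction l using Projectivization.ind with | _ a ha' =>
    intro hal hb0 hb2 ha0
    simp [inc_mk, dotProduct, Fin.sum_univ_three] at hb0 ha0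
    have a1 : a 1 ≠ 0 := fun e => hal (eq_p2 ha' ha0 e)
    have b1 : b 1 ≠ 0 := fun e => hb2 (eq_p2 hb hb0 e)
    refine ⟨uu 0 (b 2 / b 1 + a 2 / a 1) 0 * h, mul_mem (hu (uu_mem _ _ _)) hh, ?_⟩
    rw [dv_mul, mul_smul, ha, smul_pt, Projectivization.mk_eq_mk_iff']
    refine ⟨a 1 / b 1, ?_⟩
    show _ = mv (AutPSL.invTransSL (uu 0 (b 2 / b 1 + a 2 / a 1) 0)) a
    rw [dv_uu, mv_ll]
    ext i
    fin_cases i
    · simp [ha0, hb0]
    · simp; field_simp
    · simp [ha0]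
      field_simp
      linear_combination -(a 2 * b 1) * CharTwo.two_eq_zero (R := F)
  obtain ⟨w, hw, hgw⟩ := exists_fixed_line hg hgp
  obtain ⟨k, hk, rfl⟩ := key w hw
  have hk0 := hp k hk
  have hm : k⁻¹ * g * k ∈ upper F := by
    refine mem_upper_of_fix ?_ ?_ ?_
    · rw [conj_inv_pow, hg, mul_one, inv_mul_cancel]
    · rw [mul_smul, mul_smul, hk0, hgp, inv_smul_eq_iff, hk0]
    · rw [dv_mul, dv_mul, mul_smul, mul_smul, hgw, dv_inv, inv_smul_smul]
  rw [show g = k * (k⁻¹ * g * k) * k⁻¹ by group]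
  exact mul_mem (mul_mem hk (hu hm)) (inv_mem hk)

/-- If the line is fixed and the point is moved, all 2-elements fixing the line belong. -/
theorem mem_of_fix_line (hu : upper F ≤ H) (hl : ∀ h ∈ H, dv h • p2 F = p2 F) {h : L F} (hh : h ∈ H)
    (hhp : h • p0 F ≠ p0 F) {g : L F} (hg : g ^ 4 = 1) (hgl : dv g • p2 F = p2 F) : g ∈ H := by
  have key : ∀ p, inc p (p2 F) → ∃ k ∈ H, k • p0 F = p := by
    intro p hp
    by_cases hp0 : p = p0 F
    · exact ⟨1, one_mem H, by rw [one_smul, hp0]⟩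
    have hi : inc (h • p0 F) (p2 F) := by
      have := (inc_smul h _ _).2 inc_p0_p2
      rwa [hl h hh] at this
    revert hp hp0 hi hhp
    generalize ha : h • p0 F = l
    induction p using Projectivization.ind with | _ b hb =>
    induction l using Projectivization.ind with | _ a ha' =>
    intro hal hb2 hb0 ha2
    simp [inc_mk, dotProduct, Fin.sum_univ_three] at hb2 ha2
    have a1 : a 1 ≠ 0 := fun e => hal (eq_p0 ha' e ha2)
    have b1 : b 1 ≠ 0 := fun e => hb0 (eq_p0 hb e hb2)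
    refine ⟨uu (b 0 / b 1 + a 0 / a 1) 0 0 * h, mul_mem (hu (uu_mem _ _ _)) hh, ?_⟩
    rw [mul_smul, ha, smul_pt, Projectivization.mk_eq_mk_iff']
    refine ⟨a 1 / b 1, ?_⟩
    rw [mv_uu]
    ext i
    fin_cases i
    · simp [ha2]
      field_simp
      linear_combination -(a 0 * b 1) * CharTwo.two_eq_zero (R := F)
    · simp; field_simp
    · simp [ha2, hb2]
  obtain ⟨p, hp, hgp⟩ := exists_fixed_point hg hgl
  obtain ⟨k, hk, rfl⟩ := key p hp
  have hk2 := hl k hk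
  have hm : k⁻¹ * g * k ∈ upper F := by
    refine mem_upper_of_fix ?_ ?_ ?_
    · rw [conj_inv_pow, hg, mul_one, inv_mul_cancel]
    · rw [mul_smul, mul_smul, hgp, inv_smul_smul]
    · rw [dv_mul, dv_mul, mul_smul, mul_smul, hk2, hgl, dv_inv, inv_smul_eq_iff, hk2]
  rw [show g = k * (k⁻¹ * g * k) * k⁻¹ by group]
  exact mul_mem (mul_mem hk (hu hm)) (inv_mem hk)

variable {G Ω : Type*} [Group G] [MulAction G Ω]

/-- The 2-elements fixing `y` are those fixing a point. -/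
def IsPoint (ψ : L F →* G) (y : Ω) : Prop :=
  ∃ p : Pt F, ∀ g : L F, g ^ 4 = 1 → (ψ g • y = y ↔ g • p = p)

/-- The 2-elements fixing `y` are those fixing a line. -/
def IsLine (ψ : L F →* G) (y : Ω) : Prop :=
  ∃ w : Pt F, ∀ g : L F, g ^ 4 = 1 → (ψ g • y = y ↔ dv g • w = w)

/-- The 2-elements fixing `y` are those fixing a flag. -/
def IsFlag (ψ : L F →* G) (y : Ω) : Prop :=
  ∃ f : Flag F, ∀ g : L F, g ^ 4 = 1 → (ψ g • y = y ↔ g • f = f)

variable [Finite G] [Finite Ω] [FaithfulSMul G Ω] {φ : Ω → L F →* G}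

omit [CharP F 2] [Finite F] [Finite G] [Finite Ω] in
theorem eq_one_of_fixing (hP : Plane φ) {x y : Ω} (hy : y ≠ x) (h : ∀ g, φ x g • y = y) (g : L F) :
    φ x g = 1 := by
  refine eq_of_smul_eq_smul (α := Ω) fun z => ?_
  rw [one_smul]
  rcases eq_or_ne z x with rfl | hz
  · exact hP.fix _ g
  obtain ⟨k, hkx, hkz⟩ := hP.trans2 x z x y hz.symm hy.symm
  obtain ⟨g', hg'⟩ := hP.normal_range x hkx _ ⟨g, rfl⟩
  have := h g'
  rw [hg', ← hkz, mul_smul, mul_smul, inv_smul_smul, smul_left_cancel_iff] at this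
  exact this

theorem trichotomy (hP : Plane φ) {x y : Ω} (hy : y ≠ x) :
    IsPoint (φ x) y ∨ IsLine (φ x) y ∨ IsFlag (φ x) y := by
  obtain ⟨k, hk⟩ := hP.exists_upper_fixing hy
  set ψ := (φ x).comp (MulAut.conj k).toMonoidHom with hψ
  let H : Subgroup (L F) := (MulAction.stabilizer G y).comap ψ
  have hmem : ∀ g, g ∈ H ↔ φ x (k * g * k⁻¹) • y = y := fun g => Iff.rfl
  have hu : upper F ≤ H := fun t ht => (hmem t).2 (hk t ht)
  have hne : H ≠ ⊤ := by
    intro htop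
    have hall : ∀ g, φ x g • y = y := by
      intro g
      have : k⁻¹ * g * k ∈ H := htop ▸ Subgroup.mem_top _
      rw [hmem] at this
      rwa [show k * (k⁻¹ * g * k) * k⁻¹ = g by group] at this
    have h1 := eq_one_of_fixing hP hy hall (uu 0 0 1)
    exact uu_ne_one (Or.inr (Or.inr one_ne_zero))
      (inj4 (hP.ker x) (uu_pow_four _ _ _) (one_pow 4) (h1.trans (map_one (φ x)).symm))
  have hback : ∀ g : L F, φ x g • y = y ↔ k⁻¹ * g * k ∈ H := fun g => by
    rw [hmem, show k * (k⁻¹ * g * k) * k⁻¹ = g by group]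
  have h4 : ∀ g : L F, g ^ 4 = 1 → (k⁻¹ * g * k) ^ 4 = 1 := fun g hg => by
    rw [conj_inv_pow, hg, mul_one, inv_mul_cancel]
  have ept : ∀ g : L F, (k⁻¹ * g * k) • p0 F = p0 F ↔ g • (k • p0 F) = k • p0 F := fun g => by
    rw [mul_smul, mul_smul, inv_smul_eq_iff]
  have eln : ∀ g : L F, dv (k⁻¹ * g * k) • p2 F = p2 F ↔ dv g • (dv k • p2 F) = dv k • p2 F :=
    fun g => by rw [dv_mul, dv_mul, mul_smul, mul_smul, dv_inv, inv_smul_eq_iff]
  by_cases hA : ∀ h ∈ H, h • p0 F = p0 F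
  · by_cases hB : ∀ h ∈ H, dv h • p2 F = p2 F
    · refine Or.inr (Or.inr ⟨k • f0 F, fun g hg => ?_⟩)
      rw [hback, flag_fixed]
      show _ ↔ g • (k • p0 F) = k • p0 F ∧ dv g • (dv k • p2 F) = dv k • p2 F
      rw [← ept, ← eln]
      exact ⟨fun h => ⟨hA _ h, hB _ h⟩, fun h => hu (mem_upper_of_fix (h4 g hg) h.1 h.2)⟩
    · simp only [not_forall] at hB
      obtain ⟨h, hh, hhl⟩ := hB
      refine Or.inl ⟨k • p0 F, fun g hg => ?_⟩
      rw [hback, ← ept]
      exact ⟨hA _, mem_of_fix_point hu hA hh hhl (h4 g hg)⟩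
  · have hB := (subgroup_cases hu hne).resolve_left hA
    simp only [not_forall] at hA
    obtain ⟨h, hh, hhp⟩ := hA
    refine Or.inr (Or.inl ⟨dv k • p2 F, fun g hg => ?_⟩)
    rw [hback, ← eln]
    exact ⟨hB _, mem_of_fix_line hu hB hh hhp (h4 g hg)⟩

/-- The 2-elements of `N_x` fixing `y` are closed under products. -/
def Closed (φ : Ω → L F →* G) (x y : Ω) : Prop :=
  ∀ s ∈ (φ x).range, ∀ t ∈ (φ x).range, s ^ 4 = 1 → t ^ 4 = 1 → s • y = y → t • y = y → (s * t) ^ 4 = 1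

omit [CharP F 2] [Finite F] [Finite G] [Finite Ω] [FaithfulSMul G Ω] in
theorem Closed.smul (hP : Plane φ) {x y : Ω} (h : Closed φ x y) (k : G) : Closed φ (k • x) (k • y) := by
  intro s hs t ht hs4 ht4 hsy hty
  have h1 : ∀ {r : G}, r ∈ (φ (k • x)).range → r • k • y = k • y →
      k⁻¹ * r * k ∈ (φ x).range ∧ (k⁻¹ * r * k) • y = y := fun {r} hr hry =>
    ⟨by simpa using hP.conj k⁻¹ (k • x) r hr, by rw [mul_smul, mul_smul, hry, inv_smul_smul]⟩
  have e : ∀ r : G, r ^ 4 = 1 → (k⁻¹ * r * k) ^ 4 = 1 := fun r hr => by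
    rw [conj_inv_pow, hr, mul_one, inv_mul_cancel]
  have := h _ (h1 hs hsy).1 _ (h1 ht hty).1 (e s hs4) (e t ht4) (h1 hs hsy).2 (h1 ht hty).2
  rw [show k⁻¹ * s * k * (k⁻¹ * t * k) = k⁻¹ * (s * t) * k by group, conj_inv_pow,
    mul_assoc, inv_mul_eq_iff_eq_mul, mul_one] at this
  exact mul_eq_right.1 this

omit [Finite G] [Finite Ω] [FaithfulSMul G Ω] in
theorem closed_of_flag (hP : Plane φ) {x y : Ω} (h : IsFlag (φ x) y) : Closed φ x y := by
  obtain ⟨f, hf⟩ := h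
  obtain ⟨k, rfl⟩ := exists_smul_flag (f0 F) f
  intro s hs t ht hs4 ht4 hsy hty
  obtain ⟨a, ha, rfl⟩ := exists_lift (hP.ker x) hs hs4
  obtain ⟨b, hb, rfl⟩ := exists_lift (hP.ker x) ht ht4
  have h1 : ∀ g : L F, g ^ 4 = 1 → φ x g • y = y → k⁻¹ * g * k ∈ upper F := by
    intro g hg hgy
    have h2 := (hf g hg).1 hgy
    have h3 : (k⁻¹ * g * k) • f0 F = f0 F := by rw [mul_smul, mul_smul, h2, inv_smul_smul]
    exact mem_upper_of_fix (by rw [conj_inv_pow, hg, mul_one, inv_mul_cancel])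
      (flag_fixed.1 h3).1 (flag_fixed.1 h3).2
  obtain ⟨p, q, r, e⟩ := mul_mem (h1 a ha hsy) (h1 b hb hty)
  rw [← map_mul, ← map_pow]
  have : a * b = k * uu p q r * k⁻¹ := by rw [← e]; group
  rw [this, conj_four k _ (uu_pow_four p q r), map_one]

omit [Finite F] [Finite G] [Finite Ω] [FaithfulSMul G Ω] in
theorem not_closed_of (hP : Plane φ) {x y : Ω} (k : L F) {a b : L F} (ha : a ^ 2 = 1) (hb : b ^ 2 = 1)
    (hab : (a * b) ^ 3 = 1) (hne : a ≠ b) (hay : φ x (k * a * k⁻¹) • y = y)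
    (hby : φ x (k * b * k⁻¹) • y = y) : ¬ Closed φ x y := by
  intro hc
  have h4 : ∀ {c : L F}, c ^ 2 = 1 → c ^ 4 = 1 := fun {c} hc => by
    rw [show 4 = 2 * 2 from rfl, pow_mul, hc, one_pow]
  have h := hc _ ⟨_, rfl⟩ _ ⟨_, rfl⟩
    (by rw [← map_pow, conj_four k a (h4 ha), map_one])
    (by rw [← map_pow, conj_four k b (h4 hb), map_one]) hay hby
  rw [← map_mul, ← map_pow, show k * a * k⁻¹ * (k * b * k⁻¹) = k * (a * b) * k⁻¹ by group, conj_pow,
    pow_succ, hab, one_mul] at h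
  have : φ x (k * a * k⁻¹) = φ x (k * b * k⁻¹) := by
    have hb' : b⁻¹ = b := inv_eq_of_mul_eq_one_right (by rwa [pow_two] at hb)
    have e : φ x (k * (a * b) * k⁻¹) = φ x (k * a * k⁻¹) * (φ x (k * b * k⁻¹))⁻¹ := by
      rw [← map_inv, ← map_mul]
      congr 1
      rw [_root_.mul_inv_rev, _root_.mul_inv_rev, inv_inv, hb']
      group
    rw [h] at e
    exact mul_inv_eq_one.1 e.symm
  exact hne (mul_left_cancel (mul_right_cancel
    (inj4 (hP.ker x) (conj_four k a (h4 ha)) (conj_four k b (h4 hb)) this)))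

omit [Finite F] [Finite G] [Finite Ω] [FaithfulSMul G Ω] in
theorem not_closed_point (hP : Plane φ) {x y : Ω} (h : IsPoint (φ x) y) : ¬ Closed φ x y := by
  obtain ⟨p, hp⟩ := h
  obtain ⟨k, rfl⟩ := exists_smul_eq_pt (p0 F) p
  have h1 : ∀ g : L F, g ^ 4 = 1 → g • p0 F = p0 F → φ x (k * g * k⁻¹) • y = y := fun g hg hg0 =>
    (hp _ (conj_four k g hg)).2 (by rw [mul_smul, mul_smul, inv_smul_smul, hg0])
  have hl2 : (ll 0 1 0 : L F) ^ 2 = 1 := by
    rw [pow_two]; apply Subtype.ext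
    rw [Matrix.SpecialLinearGroup.coe_mul, ll_coe, Matrix.SpecialLinearGroup.coe_one]
    ext i j
    fin_cases i <;> fin_cases j <;> simp [Matrix.mul_apply, Fin.sum_univ_three, CharTwo.add_self_eq_zero]
  refine not_closed_of hP k (a := uu 0 1 0) (b := ll 0 1 0) (uu_sq_eq_one_iff.2 (Or.inl rfl)) hl2 ?_ ?_
    (h1 _ (uu_pow_four _ _ _) (upper_fix_p0 (uu_mem _ _ _)).1) (h1 _ ?_ ?_)
  · apply Subtype.ext
    simp only [pow_succ, pow_zero, one_mul, Matrix.SpecialLinearGroup.coe_mul, ll_coe, uu_coe,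
      Matrix.SpecialLinearGroup.coe_one]
    ext i j
    fin_cases i <;> fin_cases j <;> simp [Matrix.mul_apply, Fin.sum_univ_three, CharTwo.add_self_eq_zero]
  · intro e
    have := congrArg (fun g : L F => (g : Matrix (Fin 3) (Fin 3) F) 1 2) e
    simp [uu_coe, ll_coe] at this
  · rw [show 4 = 2 * 2 from rfl, pow_mul, hl2, one_pow]
  · rw [smul_pt, Projectivization.mk_eq_mk_iff']
    refine ⟨1, ?_⟩
    rw [mv_ll]
    ext i
    fin_cases i <;> simp

omit [Finite F] [Finite G] [Finite Ω] [FaithfulSMul G Ω] in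
theorem not_closed_line (hP : Plane φ) {x y : Ω} (h : IsLine (φ x) y) : ¬ Closed φ x y := by
  obtain ⟨w, hw⟩ := h
  obtain ⟨k, hk⟩ := exists_smul_eq_pt (p2 F) w
  have h1 : ∀ g : L F, g ^ 4 = 1 → dv g • p2 F = p2 F → φ x (dv k * g * (dv k)⁻¹) • y = y :=
    fun g hg hg0 => (hw _ (conj_four (dv k) g hg)).2
      (by rw [dv_mul, dv_mul, dv_inv, dv_dv, ← hk, mul_smul, mul_smul, inv_smul_smul, hg0])
  have hl2 : (ll 1 0 0 : L F) ^ 2 = 1 := by
    rw [pow_two]; apply Subtype.ext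
    rw [Matrix.SpecialLinearGroup.coe_mul, ll_coe, Matrix.SpecialLinearGroup.coe_one]
    ext i j
    fin_cases i <;> fin_cases j <;> simp [Matrix.mul_apply, Fin.sum_univ_three, CharTwo.add_self_eq_zero]
  have hd : dv (ll 1 0 0 : L F) = uu 1 0 0 := by
    rw [show (ll 1 0 0 : L F) = dv (uu 1 0 0) by rw [dv, dv_uu, mul_zero, add_zero], dv_dv]
  refine not_closed_of hP (dv k) (a := uu 1 0 0) (b := ll 1 0 0) (uu_sq_eq_one_iff.2 (Or.inr rfl)) hl2 ?_ ?_
    (h1 _ (uu_pow_four _ _ _) (upper_fix_p0 (uu_mem _ _ _)).2) (h1 _ ?_ ?_)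
  · apply Subtype.ext
    simp only [pow_succ, pow_zero, one_mul, Matrix.SpecialLinearGroup.coe_mul, ll_coe, uu_coe,
      Matrix.SpecialLinearGroup.coe_one]
    ext i j
    fin_cases i <;> fin_cases j <;> simp [Matrix.mul_apply, Fin.sum_univ_three, CharTwo.add_self_eq_zero]
  · intro e
    have := congrArg (fun g : L F => (g : Matrix (Fin 3) (Fin 3) F) 0 1) e
    simp [uu_coe, ll_coe] at this
  · rw [show 4 = 2 * 2 from rfl, pow_mul, hl2, one_pow]
  · rw [hd, smul_pt, Projectivization.mk_eq_mk_iff']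
    refine ⟨1, ?_⟩
    rw [mv_uu]
    ext i
    fin_cases i <;> simp

omit [Finite G] [Finite Ω] [FaithfulSMul G Ω] in
theorem not_point_and_line {ψ : L F →* G} {y : Ω} (h : IsPoint ψ y) : ¬ IsLine ψ y := by
  rintro ⟨w, hw⟩
  obtain ⟨p, hp⟩ := h
  obtain ⟨k, rfl⟩ := exists_smul_eq_pt (p0 F) p
  have hall : ∀ g : L F, g ^ 4 = 1 → g • p0 F = p0 F → dv g • ((dv k)⁻¹ • w) = (dv k)⁻¹ • w := by
    intro g hg hg0
    have := (hw _ (conj_four k g hg)).1 ((hp _ (conj_four k g hg)).2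
      (by rw [mul_smul, mul_smul, inv_smul_smul, hg0]))
    rw [dv_mul, dv_mul, dv_inv, mul_smul, mul_smul] at this
    exact eq_inv_smul_iff.2 this
  have he : (dv k)⁻¹ • w = p2 F :=
    eq_p2_of_fixed fun y z => hall _ (uu_pow_four 0 y z) (upper_fix_p0 (uu_mem 0 y z)).1
  have hl4 : (ll 0 1 0 : L F) ^ 4 = 1 := by
    rw [show (ll 0 1 0 : L F) = dv (uu 0 1 0) by rw [dv, dv_uu, zero_mul, add_zero]]
    exact dv_uu_pow_four _ _ _
  have h0 : (ll 0 1 0 : L F) • p0 F = p0 F := by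
    rw [smul_pt, Projectivization.mk_eq_mk_iff']
    refine ⟨1, ?_⟩
    rw [mv_ll]
    ext i
    fin_cases i <;> simp
  have h2 := hall _ hl4 h0
  rw [he, show dv (ll 0 1 0 : L F) = uu 0 1 0 by
    rw [show (ll 0 1 0 : L F) = dv (uu 0 1 0) by rw [dv, dv_uu, zero_mul, add_zero], dv_dv],
    uu_smul_eq_iff _ _ _ e2_ne] at h2
  simp at h2

omit [Finite G] [FaithfulSMul G Ω] in
/-- At one point, all directions are of the same sort. -/
theorem all_points_or_lines (hP : Plane φ) (x : Ω)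
    (hno : ∀ y, y ≠ x → IsPoint (φ x) y ∨ IsLine (φ x) y) :
    (∀ y, y ≠ x → IsPoint (φ x) y) ∨ ∀ y, y ≠ x → IsLine (φ x) y := by
  by_contra hc
  simp only [not_or, not_forall] at hc
  obtain ⟨⟨y1, hy1, hy1'⟩, y2, hy2, hy2'⟩ := hc
  have h1 := (hno y1 hy1).resolve_left hy1'
  have h2 := (hno y2 hy2).resolve_right hy2'
  obtain ⟨g, hgx, hgy⟩ := hP.trans2 x y2 x y1 hy2.symm hy1.symm
  have htr : ∀ (k : G), k • x = x → ∀ {y y' : Ω},
      (∀ s : L F, s ^ 4 = 1 → (φ x s • y = y ↔ φ x s • y' = y')) →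
      ∀ s : L F, s ^ 4 = 1 → (φ x s • k • y = k • y ↔ φ x s • k • y' = k • y') := by
    intro k hk y y' hyy s hs
    obtain ⟨a, ha4, ha⟩ := exists_lift (hP.ker x) (hP.normal_range x
      (g := k⁻¹) (by rw [inv_smul_eq_iff, hk]) _ ⟨s, rfl⟩)
      (by rw [conj_pow, ← map_pow, hs, map_one, mul_one, mul_inv_cancel])
    have e : ∀ z : Ω, φ x s • k • z = k • z ↔ φ x a • z = z := fun z => by
      rw [ha, inv_inv, mul_smul, mul_smul, inv_smul_eq_iff]
    rw [e, e]
    exact hyy a ha4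
  have hmap : ∀ (P Q : Ω → Prop),
      (∀ y, y ≠ x → ∀ n : L F, Q y → Q (φ x n • y)) →
      (∀ y y', P y → P y' → ∃ n : L F, ∀ s : L F, s ^ 4 = 1 →
        (φ x s • (φ x n • y) = φ x n • y ↔ φ x s • y' = y')) →
      (∀ y y', (∀ s : L F, s ^ 4 = 1 → (φ x s • y = y ↔ φ x s • y' = y')) → Q y → Q y') →
      ∀ (k : G) (y0 : Ω), k • x = x → y0 ≠ x → P y0 → Q (k • y0) → ∀ y, P y → Q (k • y) := by
    intro P Q hQn hPP hQe k y0 hk hy0 hP0 hQ0 y hy
    obtain ⟨n, hn⟩ := hPP y0 y hP0 hy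
    refine hQe _ _ (htr k hk hn) ?_
    obtain ⟨n', hn'⟩ := hP.normal_range x hk _ ⟨n, rfl⟩
    have : k • φ x n • y0 = φ x n' • (k • y0) := by rw [hn', mul_smul, mul_smul, inv_smul_smul]
    rw [this]
    exact hQn _ (smul_ne_self hk hy0) n' hQ0
  have conj_fix : ∀ (n s : L F) (y : Ω),
      φ x s • (φ x n • y) = φ x n • y ↔ φ x (n⁻¹ * s * n) • y = y := fun n s y => by
    rw [map_mul, map_mul, map_inv, mul_smul, mul_smul, inv_smul_eq_iff]
  have c4 : ∀ (n s : L F), s ^ 4 = 1 → (n⁻¹ * s * n) ^ 4 = 1 := fun n s hs => by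
    rw [conj_inv_pow, hs, mul_one, inv_mul_cancel]
  have hLn : ∀ y : Ω, y ≠ x → ∀ n : L F, IsLine (φ x) y → IsLine (φ x) (φ x n • y) := by
    rintro y - n ⟨w, hw⟩
    refine ⟨dv n • w, fun s hs => ?_⟩
    rw [conj_fix, hw _ (c4 n s hs), dv_mul, dv_mul, dv_inv, mul_smul, mul_smul, inv_smul_eq_iff]
  have hPn : ∀ y : Ω, y ≠ x → ∀ n : L F, IsPoint (φ x) y → IsPoint (φ x) (φ x n • y) := by
    rintro y - n ⟨w, hw⟩
    refine ⟨n • w, fun s hs => ?_⟩
    rw [conj_fix, hw _ (c4 n s hs), mul_smul, mul_smul, inv_smul_eq_iff]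
  have hPP : ∀ y y' : Ω, IsPoint (φ x) y → IsPoint (φ x) y' → ∃ n : L F, ∀ s : L F, s ^ 4 = 1 →
      (φ x s • (φ x n • y) = φ x n • y ↔ φ x s • y' = y') := by
    rintro y y' ⟨p, hp⟩ ⟨p', hp'⟩
    obtain ⟨n, rfl⟩ := exists_smul_eq_pt p p'
    refine ⟨n, fun s hs => ?_⟩
    rw [conj_fix, hp _ (c4 n s hs), hp' s hs, mul_smul, mul_smul, inv_smul_eq_iff]
  have hLL : ∀ y y' : Ω, IsLine (φ x) y → IsLine (φ x) y' → ∃ n : L F, ∀ s : L F, s ^ 4 = 1 →
      (φ x s • (φ x n • y) = φ x n • y ↔ φ x s • y' = y') := by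
    rintro y y' ⟨p, hp⟩ ⟨p', hp'⟩
    obtain ⟨n, hn⟩ := exists_smul_eq_pt p p'
    refine ⟨dv n, fun s hs => ?_⟩
    rw [conj_fix, hp _ (c4 (dv n) s hs), hp' s hs, dv_mul, dv_mul, dv_inv, dv_dv, mul_smul,
      mul_smul, inv_smul_eq_iff, hn]
  have fwd : ∀ y : Ω, IsPoint (φ x) y → IsLine (φ x) (g • y) :=
    hmap _ _ hLn hPP (fun y y' h ⟨w, hw⟩ => ⟨w, fun s hs => (h s hs).symm.trans (hw s hs)⟩)
      g y2 hgx hy2 h2 (hgy.symm ▸ h1)
  have bwd : ∀ y : Ω, IsLine (φ x) y → IsPoint (φ x) (g⁻¹ • y) :=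
    hmap _ _ hPn hLL (fun y y' h ⟨w, hw⟩ => ⟨w, fun s hs => (h s hs).symm.trans (hw s hs)⟩)
      g⁻¹ y1 (by rw [inv_smul_eq_iff, hgx]) hy1 h1 (by rw [← hgy, inv_smul_smul]; exact h2)
  classical
  haveI := Fintype.ofFinite Ω
  have he : Nat.card {y : Ω // y ≠ x ∧ IsPoint (φ x) y} = Nat.card {y : Ω // y ≠ x ∧ IsLine (φ x) y} := by
    refine Nat.card_congr ((MulAction.toPerm g).subtypeEquiv fun y => ⟨fun h => ?_, fun h => ?_⟩)
    · exact ⟨smul_ne_self hgx h.1, fwd y h.2⟩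
    · have := bwd _ h.2
      rw [MulAction.toPerm_apply, inv_smul_smul] at this
      exact ⟨fun e => h.1 (by rw [MulAction.toPerm_apply, e, hgx]), this⟩
  have hsum : Nat.card {y : Ω // y ≠ x} =
      Nat.card {y : Ω // y ≠ x ∧ IsPoint (φ x) y} + Nat.card {y : Ω // y ≠ x ∧ IsLine (φ x) y} := by
    simp only [Nat.card_eq_fintype_card, Fintype.card_subtype]
    rw [← Finset.card_union_of_disjoint]
    · congr 1
      ext y
      simp only [Finset.mem_filter, Finset.mem_univ, true_and, Finset.mem_union]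
      exact ⟨fun h => (hno y h).imp (And.intro h) (And.intro h), fun h => h.elim And.left And.left⟩
    · rw [Finset.disjoint_left]
      intro y hy hy'
      simp only [Finset.mem_filter, Finset.mem_univ, true_and] at hy hy'
      exact not_point_and_line hy.2 hy'.2
  have hodd := hP.odd_card_others x
  rw [hsum, he] at hodd
  exact (Nat.not_even_iff_odd.2 hodd) (Even.add_self _)

/-- **The directions are points or flags.** -/
theorem exists_kind (hP : Plane φ) :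
    (∃ φ' : Ω → L F →* G, Plane φ' ∧ (∀ x, (φ' x).range = (φ x).range) ∧ HasDir φ' (Pt F)) ∨
      HasDir φ (Flag F) := by
  classical
  by_cases hF : HasDir φ (Flag F)
  · exact Or.inr hF
  simp only [HasDir, not_forall] at hF
  obtain ⟨x0, y0, hy0, hnf⟩ := hF
  have hnc : ¬ Closed φ x0 y0 := by
    rcases trichotomy hP hy0 with h | h | h
    · exact not_closed_point hP h
    · exact not_closed_line hP h
    · exact absurd h hnf
  have hno : ∀ x y : Ω, y ≠ x → IsPoint (φ x) y ∨ IsLine (φ x) y := by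
    intro x y hy
    rcases trichotomy hP hy with h | h | h
    · exact Or.inl h
    · exact Or.inr h
    · obtain ⟨g, hgx, hgy⟩ := hP.trans2 x y x0 y0 hy.symm hy0.symm
      exact (hnc (hgx ▸ hgy ▸ (closed_of_flag hP h).smul hP g)).elim
  have hrng : ∀ x, ((φ x).comp (AutPSL.invTransSL : MulAut (L F)).toMonoidHom).range = (φ x).range :=
    fun x => by
      rw [MonoidHom.range_comp, MonoidHom.range_eq_top.2 (MulEquiv.surjective _), ← MonoidHom.range_eq_map]
  let φ' : Ω → L F →* G := fun x => if ∀ y, y ≠ x → IsPoint (φ x) y then φ x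
    else (φ x).comp (AutPSL.invTransSL : MulAut (L F)).toMonoidHom
  have hr : ∀ x, (φ' x).range = (φ x).range := fun x => by
    simp only [φ']; split
    · rfl
    · exact hrng x
  refine Or.inl ⟨φ', ⟨fun x => ?_, fun x g => ?_, fun g x n hn => ?_, hP.trans2, hP.even⟩, hr,
    fun x y hy => ?_⟩
  · simp only [φ']; split
    · exact hP.ker x
    · intro c hc
      have hc' : dv c ∈ Subgroup.center (L F) := hP.ker x hc
      refine Subgroup.mem_center_iff.2 fun m => ?_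
      have := Subgroup.mem_center_iff.1 hc' (dv m)
      rw [← dv_mul, ← dv_mul] at this
      exact (AutPSL.invTransSL : MulAut (L F)).injective this
  · obtain ⟨g', hg'⟩ : φ' x g ∈ (φ x).range := hr x ▸ ⟨g, rfl⟩
    rw [← hg', hP.fix]
  · rw [hr] at hn ⊢
    exact hP.conj g x n hn
  · by_cases hpt : ∀ y, y ≠ x → IsPoint (φ x) y
    · simp only [φ', if_pos hpt]
      exact hpt y hy
    · simp only [φ', if_neg hpt]
      obtain ⟨w, hw⟩ := ((all_points_or_lines hP x (hno x)).resolve_left hpt) y hy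
      refine ⟨w, fun g hg => ?_⟩
      show φ x (dv g) • y = y ↔ _
      rw [hw _ (dv_pow_four hg), dv_dv]

end CfsgLib.PlaneStab
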