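import Cfsg.Agent.PlaneStab.Lines

/-!
# Elementary abelian subgroups of order `q^2`
-/

set_option autoImplicit false

open Matrix

namespace CfsgLib.PlaneStab

variable {F : Type*} [Field F]

/-- The transvections with the first point as centre. -/
def qp (F : Type*) [Field F] : Subgroup (L F) where
  carrier := {g | ∃ x z, g = uu x 0 z}
  mul_mem' := by
    rintro _ _ ⟨x, z, rfl⟩ ⟨x', z', rfl⟩
    exact ⟨x + x', z + z', by rw [uu_mul]; simp⟩
  one_mem' := ⟨0, 0, uu_zero.symm⟩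
  inv_mem' := by
    rintro _ ⟨x, z, rfl⟩
    refine ⟨-x, -z, inv_eq_of_mul_eq_one_right ?_⟩
    rw [uu_mul, ← uu_zero]
    simp

/-- The transvections with the last line as axis. -/
def ql (F : Type*) [Field F] : Subgroup (L F) where
  carrier := {g | ∃ y z, g = uu 0 y z}
  mul_mem' := by
    rintro _ _ ⟨x, z, rfl⟩ ⟨x', z', rfl⟩
    exact ⟨x + x', z + z', by rw [uu_mul]; simp⟩
  one_mem' := ⟨0, 0, uu_zero.symm⟩
  inv_mem' := by
    rintro _ ⟨x, z, rfl⟩
    refine ⟨-x, -z, inv_eq_of_mul_eq_one_right ?_⟩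
    rw [uu_mul, ← uu_zero]
    simp

theorem mem_qp {g : L F} : g ∈ qp F ↔ ∃ x z, g = uu x 0 z := Iff.rfl

theorem mem_ql {g : L F} : g ∈ ql F ↔ ∃ y z, g = uu 0 y z := Iff.rfl

theorem card_qp : Nat.card (qp F) = Nat.card F ^ 2 := by
  rw [pow_two, ← Nat.card_prod]
  refine (Nat.card_congr (Equiv.ofBijective
    (fun t : F × F => (⟨uu t.1 0 t.2, ⟨_, _, rfl⟩⟩ : qp F)) ⟨fun a b e => ?_, ?_⟩)).symm
  · obtain ⟨h1, -, h3⟩ := uu_inj (congrArg Subtype.val e)
    exact Prod.ext h1 h3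
  · rintro ⟨_, x, z, rfl⟩
    exact ⟨(x, z), rfl⟩

theorem card_ql : Nat.card (ql F) = Nat.card F ^ 2 := by
  rw [pow_two, ← Nat.card_prod]
  refine (Nat.card_congr (Equiv.ofBijective
    (fun t : F × F => (⟨uu 0 t.1 t.2, ⟨_, _, rfl⟩⟩ : ql F)) ⟨fun a b e => ?_, ?_⟩)).symm
  · obtain ⟨-, h2, h3⟩ := uu_inj (congrArg Subtype.val e)
    exact Prod.ext h2 h3
  · rintro ⟨_, x, z, rfl⟩
    exact ⟨(x, z), rfl⟩

variable [CharP F 2]

theorem pow_four_qp {g : L F} (h : g ∈ qp F) : g ^ 4 = 1 := by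
  obtain ⟨x, z, rfl⟩ := h; exact uu_pow_four _ _ _

theorem pow_four_ql {g : L F} (h : g ∈ ql F) : g ^ 4 = 1 := by
  obtain ⟨x, z, rfl⟩ := h; exact uu_pow_four _ _ _

variable {G : Type*} [Group G] {ψ : L F →* G}

theorem card_map_qp (hk : ψ.ker ≤ Subgroup.center (L F)) : Nat.card ((qp F).map ψ) = Nat.card F ^ 2 := by
  rw [← card_qp (F := F)]
  exact (Nat.card_congr (Equiv.ofBijective (fun g : qp F => (⟨ψ g, g, g.2, rfl⟩ : (qp F).map ψ))
    ⟨fun a b e => Subtype.ext (inj4 hk (pow_four_qp a.2) (pow_four_qp b.2) (congrArg Subtype.val e :)),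
     by rintro ⟨_, g, hg, rfl⟩; exact ⟨⟨g, hg⟩, rfl⟩⟩)).symm

theorem card_map_ql (hk : ψ.ker ≤ Subgroup.center (L F)) : Nat.card ((ql F).map ψ) = Nat.card F ^ 2 := by
  rw [← card_ql (F := F)]
  exact (Nat.card_congr (Equiv.ofBijective (fun g : ql F => (⟨ψ g, g, g.2, rfl⟩ : (ql F).map ψ))
    ⟨fun a b e => Subtype.ext (inj4 hk (pow_four_ql a.2) (pow_four_ql b.2) (congrArg Subtype.val e :)),
     by rintro ⟨_, g, hg, rfl⟩; exact ⟨⟨g, hg⟩, rfl⟩⟩)).symm

/-- An elementary abelian subgroup of order at least `q^2` of the image is conjugate to the image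
of one of the two standard ones. -/
theorem elem_cases [Finite F] [Finite G] (hk : ψ.ker ≤ Subgroup.center (L F)) {A : Subgroup G}
    (hA : A ≤ ψ.range) (hA2 : ∀ a ∈ A, a ^ 2 = 1) (hcard : Nat.card F ^ 2 ≤ Nat.card A) :
    ∃ h : L F, A = (qp F).map (ψ.comp (MulAut.conj h).toMonoidHom) ∨
      A = (ql F).map (ψ.comp (MulAut.conj h).toMonoidHom) := by
  haveI : Fact (Nat.Prime 2) := ⟨Nat.prime_two⟩
  have hP : IsPGroup 2 A := fun a => ⟨1, Subtype.ext (by simpa using hA2 a a.2)⟩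
  obtain ⟨h, hh⟩ := exists_conj_of_pgroup hA hP
  set ψ' := ψ.comp (MulAut.conj h).toMonoidHom with hψ'
  have hk' : ψ'.ker ≤ Subgroup.center (L F) := ker_comp_conj hk h
  have hsq : ∀ x y z, ψ' (uu x y z) ∈ A → x = 0 ∨ y = 0 := fun x y z hm =>
    (uu_sq_eq_one_iff (z := z)).1 (inj4 hk' (by rw [uu_pow_two, uu_pow_four]) (one_pow 4)
      (by rw [map_pow, hA2 _ hm, map_one]))
  by_cases hall : ∀ a ∈ A, a ∈ (qp F).map ψ'
  · exact ⟨h, Or.inl (Subgroup.eq_of_le_of_card_ge hall (by rw [card_map_qp hk']; exact hcard))⟩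
  · refine ⟨h, Or.inr (Subgroup.eq_of_le_of_card_ge ?_ (by rw [card_map_ql hk']; exact hcard))⟩
    simp only [not_forall] at hall
    obtain ⟨a, ha, hna⟩ := hall
    obtain ⟨x, y, z, rfl⟩ := mem_U.1 (hh ha)
    have hy : y ≠ 0 := by
      rintro rfl
      exact hna ⟨_, ⟨x, z, rfl⟩, rfl⟩
    have hx : x = 0 := (hsq x y z ha).resolve_right hy
    subst hx
    intro b hb
    obtain ⟨x', y', z', rfl⟩ := mem_U.1 (hh hb)
    by_cases hx' : x' = 0
    · subst hx'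
      exact ⟨_, ⟨y', z', rfl⟩, rfl⟩
    · exfalso
      have hy' : y' = 0 := (hsq _ _ _ hb).resolve_left hx'
      subst hy'
      have hm := mul_mem ha hb
      rw [← map_mul, uu_mul] at hm
      rcases hsq _ _ _ hm with e | e
      · exact hx' (by simpa using e)
      · exact hy (by simpa using e)

end CfsgLib.PlaneStab
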