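import Cfsg.Agent.PlaneStab.Pencils

/-!
# Flags as directions are impossible
-/

set_option autoImplicit false

open Matrix

namespace CfsgLib.PlaneStab

variable {F : Type*} [Field F] [CharP F 2] [Finite F] {G Ω : Type*} [Group G] [MulAction G Ω]
  [Finite G] [Finite Ω] [FaithfulSMul G Ω] {φ : Ω → L F →* G}

namespace Geo

variable {u : ℕ} (hG : Geo φ (Flag F) u)
include hG

omit [Finite G] [FaithfulSMul G Ω] in
/-- With one point in each direction a pencil has `q + 2` points. -/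
theorem ncard_pencil (hu : u = 1) {x : Ω} {H : Set Ω} (hH : hG.IsPencil x H) :
    H.ncard = Nat.card F + 2 := by
  obtain ⟨D, hD, rfl⟩ := hH
  rw [← Nat.card_coe_set_eq]
  show Nat.card {y : Ω // y = x ∨ y ≠ x ∧ hG.dirOf x y ∈ D} = _
  rw [Pair.card_erase (p := fun y => y = x ∨ y ≠ x ∧ hG.dirOf x y ∈ D) (c := x) (Or.inl rfl)]
  haveI := Fintype.ofFinite {f : Flag F // f ∈ D}
  have e : Nat.card {y : Ω // y ≠ x ∧ (y = x ∨ y ≠ x ∧ hG.dirOf x y ∈ D)} =
      Nat.card {f : Flag F // f ∈ D} := by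
    refine Nat.card_eq_of_bijective (fun y => ⟨hG.dirOf x y.1, (y.2.2.resolve_left y.2.1).2⟩) ⟨?_, ?_⟩
    · intro a b e
      have h := (hG.card_fibre x (hG.dirOf x a.1)).trans hu
      haveI := (Nat.card_eq_one_iff_unique.1 h).1
      have := Subsingleton.elim (⟨a.1, a.2.1, rfl⟩ : {y : Ω // y ≠ x ∧ hG.dirOf x y = hG.dirOf x a.1})
        ⟨b.1, b.2.1, (congrArg Subtype.val e :).symm⟩
      exact Subtype.ext (congrArg Subtype.val this :)
    · rintro ⟨f, hf⟩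
      obtain ⟨y, hy, rfl⟩ := hG.exists_dir x f
      exact ⟨⟨y, hy, Or.inr ⟨hy, hf⟩⟩, rfl⟩
  rw [e, hD.card]

omit [Finite G] [FaithfulSMul G Ω] in
/-- With one point in each direction a line has two points. -/
theorem ncard_line_dir (hu : u = 1) {x : Ω} (f : Flag F) :
    ({y | y = x ∨ y ≠ x ∧ hG.dirOf x y = f} : Set Ω).ncard = 2 := by
  rw [← Nat.card_coe_set_eq]
  show Nat.card {y : Ω // y = x ∨ y ≠ x ∧ hG.dirOf x y = f} = _
  rw [Pair.card_erase (p := fun y => y = x ∨ y ≠ x ∧ hG.dirOf x y = f) (c := x) (Or.inl rfl)]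
  rw [show (2 : ℕ) = 1 + 1 from rfl, add_left_inj]
  exact (Nat.card_congr (Equiv.subtypeEquivRight fun y =>
    ⟨fun h => h.2.resolve_left h.1, fun h => ⟨h.1, Or.inr h⟩⟩)).trans ((hG.card_fibre x f).trans hu)

omit [Finite G] [FaithfulSMul G Ω] in
theorem exists_off_line {x : Ω} {H : Set Ω} (hH : hG.IsPencil x H) (f : Flag F) :
    ∃ y ∈ H, y ≠ x ∧ hG.dirOf x y ≠ f := by
  obtain ⟨D, hD, rfl⟩ := hH
  obtain ⟨f', hf', hne⟩ : ∃ f' ∈ D, f' ≠ f := by
    by_contra hc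
    simp only [not_exists, not_and, not_not] at hc
    haveI : Subsingleton {g : Flag F // g ∈ D} :=
      ⟨fun a b => Subtype.ext ((hc _ a.2).trans (hc _ b.2).symm)⟩
    have := hD.card
    have := two_le_card (F := F)
    have := Finite.card_le_one_iff_subsingleton.2 (inferInstance : Subsingleton {g : Flag F // g ∈ D})
    omega
  obtain ⟨y, hy, rfl⟩ := hG.exists_dir x f'
  exact ⟨y, Or.inr ⟨hy, hf'⟩, hy, hne⟩

/-- If flags are directions, then there is one point in each direction and `q = 2`. -/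
theorem flag_small (x : Ω) : u = 1 ∧ Nat.card F = 2 := by
  classical
  set z := φ x (uu 0 0 1) with hz
  have hzx : z ∈ (φ x).range := ⟨_, rfl⟩
  have hz2 : z ^ 2 = 1 := by rw [hz, ← map_pow, uu_sq_eq_one_iff.2 (Or.inl rfl), map_one]
  have hz4 : z ^ 4 = 1 := by rw [show 4 = 2 * 2 from rfl, pow_mul, hz2, one_pow]
  have hz1 : z ≠ 1 := fun e => uu_ne_one (Or.inr (Or.inr one_ne_zero))
    (inj4 (hG.plane.ker x) (uu_pow_four _ _ _) (one_pow 4) (e.trans (map_one (φ x)).symm))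
  obtain ⟨H₁, H₂, hH₁, hH₂, hFix, ⟨f, hint⟩, -⟩ := hG.involution_pencils hzx hz1 hz2
  obtain ⟨x', hx'₁, hx'ne, hx'f⟩ := hG.exists_off_line hH₁ f
  obtain ⟨y', hy'₂, hy'ne, hy'f⟩ := hG.exists_off_line hH₂ f
  have hx'₂ : x' ∉ H₂ := fun h => by
    have : x' ∈ H₁ ∩ H₂ := ⟨hx'₁, h⟩
    rw [hint] at this
    exact hx'f (this.resolve_left hx'ne).2
  have hy'₁ : y' ∉ H₁ := fun h => by
    have : y' ∈ H₁ ∩ H₂ := ⟨h, hy'₂⟩
    rw [hint] at this
    exact hy'f (this.resolve_left hy'ne).2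
  have hzfix : ∀ y, y ∈ H₁ ∪ H₂ ↔ z • y = y := fun y => (Set.ext_iff.1 hFix y).symm
  have hne : y' ≠ x' := fun e => hy'₁ (e ▸ hx'₁)
  have hsub : lin φ x' y' ⊆ {x', y'} := by
    intro m hm
    have hmF := (hzfix m).2 (hG.fix_lin hzx hz4 ((hzfix x').1 (Or.inl hx'₁)) ((hzfix y').1 (Or.inr hy'₂)) hm)
    rcases hmF with h | h
    · rcases eq_or_ne m x' with e | e
      · exact Or.inl e
      · exfalso
        obtain ⟨A, hA, hA2, -, rfl⟩ := IsPencil.exists_group hG hH₁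
        refine hy'₁ fun a ha => hG.fix_lin (hA ha)
          (by rw [show 4 = 2 * 2 from rfl, pow_mul, hA2 a ha, one_pow]) (hx'₁ a ha) (h a ha) ?_
        rw [hG.lin_eq hne e (hG.left_mem _ _) hm]
        exact right_mem _ _
    · rcases eq_or_ne m y' with e | e
      · exact Or.inr e
      · exfalso
        obtain ⟨A, hA, hA2, -, rfl⟩ := IsPencil.exists_group hG hH₂
        refine hx'₂ fun a ha => hG.fix_lin (hA ha)
          (by rw [show 4 = 2 * 2 from rfl, pow_mul, hA2 a ha, one_pow]) (hy'₂ a ha) (h a ha) ?_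
        rw [hG.lin_eq hne e (right_mem _ _) hm]
        exact hG.left_mem _ _
  have hu : u = 1 := by
    have h1 : (lin φ x' y').ncard ≤ 2 := by
      refine (Set.ncard_le_ncard hsub (Set.toFinite _)).trans ?_
      rw [Set.ncard_pair hne.symm]
    rw [← Nat.card_coe_set_eq] at h1
    change Nat.card {z : Ω // z ∈ lin φ x' y'} ≤ 2 at h1
    rw [hG.card_lin hne] at h1
    have := hG.u_pos
    omega
  refine ⟨hu, ?_⟩
  have hzx' : z ∈ (φ x').range := hG.mem_range_of_fix hzx hz4 ((hzfix x').1 (Or.inl hx'₁))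
  have hzy' : z ∈ (φ y').range := hG.mem_range_of_fix hzx hz4 ((hzfix y').1 (Or.inr hy'₂))
  obtain ⟨K₁, K₂, hK₁, hK₂, hK, ⟨f₁, hKint⟩, hKonly⟩ := hG.involution_pencils hzx' hz1 hz2
  obtain ⟨H', hH', hHH', hint'⟩ : ∃ H', hG.IsPencil x' H' ∧ H₁ ∪ H' = H₁ ∪ H₂ ∧
      (H₁ ∩ H').ncard = 2 := by
    rcases hKonly H₁ (IsPencil.move hG hH₁ hx'₁) (hFix ▸ Set.subset_union_left) with e | e
    · exact ⟨K₂, hK₂, by rw [← hFix, hK, e], by rw [e, hKint]; exact hG.ncard_line_dir hu f₁⟩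
    · exact ⟨K₁, hK₁, by rw [← hFix, hK, e, Set.union_comm],
        by rw [e, Set.inter_comm, hKint]; exact hG.ncard_line_dir hu f₁⟩
  have hsub' : H₂ \ H₁ ⊆ H' := fun y hy => by
    have : y ∈ H₁ ∪ H' := by rw [hHH']; exact Or.inr hy.1
    exact this.resolve_left hy.2
  have hy'H' : y' ∈ H' := hsub' ⟨hy'₂, hy'₁⟩
  obtain ⟨M₁, M₂, hM₁, hM₂, hM, ⟨f₂, hMint⟩, hMonly⟩ := hG.involution_pencils hzy' hz1 hz2
  have hne' : H₂ ≠ H' := by
    intro e
    obtain ⟨D, hD, eq'⟩ := hH'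
    exact hx'₂ (e ▸ eq' ▸ Or.inl rfl)
  have hH₂' := hMonly H₂ (IsPencil.move hG hH₂ hy'₂) (hFix ▸ Set.subset_union_right)
  have hH'' := hMonly H' (IsPencil.move hG hH' hy'H')
    (hFix ▸ hHH' ▸ Set.subset_union_right)
  have h2 : (H₂ ∩ H').ncard = 2 := by
    rcases hH₂' with e | e <;> rcases hH'' with e' | e'
    · exact absurd (e.trans e'.symm) hne'
    · rw [e, e', hMint]; exact hG.ncard_line_dir hu f₂
    · rw [e, e', Set.inter_comm, hMint]; exact hG.ncard_line_dir hu f₂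
    · exact absurd (e.trans e'.symm) hne'
  have h3 : (H₂ \ H₁).ncard ≤ 2 := h2 ▸ Set.ncard_le_ncard
    (Set.subset_inter Set.sdiff_subset hsub') (Set.toFinite _)
  have h4 : (H₂ ∩ H₁).ncard + (H₂ \ H₁).ncard = H₂.ncard :=
    Set.ncard_inter_add_ncard_sdiff_eq_ncard H₂ H₁ (Set.toFinite _)
  rw [Set.inter_comm, hint, hG.ncard_line_dir hu f, hG.ncard_pencil hu hH₂] at h4
  have := two_le_card (F := F)
  omega

end Geo

end CfsgLib.PlaneStab
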