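import Cfsg.Agent.PlaneStab.Flag

/-!
# No 2-transitive group of degree 22 has flags of the Fano plane as directions
-/

set_option autoImplicit false

open Matrix

namespace CfsgLib.PlaneStab

variable {F : Type*} [Field F] [CharP F 2] [Finite F] {G Ω : Type*} [Group G] [MulAction G Ω]
  [Finite G] [Finite Ω] [FaithfulSMul G Ω] {φ : Ω → L F →* G}

omit [CharP F 2] in
theorem eq_zero_or_one (h2 : Nat.card F = 2) (x : F) : x = 0 ∨ x = 1 := by
  classical
  haveI := Fintype.ofFinite F
  by_contra hx
  rw [not_or] at hx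
  have := Finset.card_le_univ ({0, 1, x} : Finset F)
  rw [Finset.card_eq_three.2 ⟨0, 1, x, zero_ne_one, Ne.symm hx.1, Ne.symm hx.2, rfl⟩] at this
  rw [Nat.card_eq_fintype_card] at h2
  omega

namespace Geo

variable {u : ℕ} (hG : Geo φ (Flag F) u)
include hG

theorem card_omega_two (hu : u = 1) (h2 : Nat.card F = 2) [Nonempty Ω] : Nat.card Ω = 22 := by
  obtain ⟨x⟩ := ‹Nonempty Ω›
  rw [hG.card_points x, card_flag, card_pt, h2, hu]
  norm_num

/-- The stabiliser of two points has order 8 or 16. -/
theorem card_two_stab (hu : u = 1) (h2 : Nat.card F = 2) {a b : Ω} (hb : b ≠ a) :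
    Nat.card ↥(MulAction.stabilizer G a ⊓ MulAction.stabilizer G b) = 8 ∨
      Nat.card ↥(MulAction.stabilizer G a ⊓ MulAction.stabilizer G b) = 16 := by
  classical
  set D := MulAction.stabilizer G a ⊓ MulAction.stabilizer G b with hD
  obtain ⟨k, hk⟩ := exists_smul_flag (f0 F) (hG.dirOf a b)
  set ψ := (φ a).comp (MulAut.conj k).toMonoidHom with hψ
  have hψk : ψ.ker ≤ Subgroup.center (L F) := ker_comp_conj (hG.plane.ker a) k
  have hU : ∀ t, t ∈ U ψ ↔ t ∈ TT φ a b := by
    intro t
    constructor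
    · intro ht
      obtain ⟨x, y, z, rfl⟩ := mem_U.1 ht
      refine (hG.mem_TT hb (conj_four k _ (uu_pow_four x y z))).2 ?_
      show (k * uu x y z * k⁻¹) • _ = _
      rw [← hk, mul_smul, mul_smul, inv_smul_smul,
        (flag_fixed.2 (upper_fix_p0 (uu_mem x y z)) : uu x y z • f0 F = f0 F)]
    · intro ht
      obtain ⟨g, hg, rfl, hgd⟩ := hG.mem_TT' hb ht
      have h3 : (k⁻¹ * g * k) • f0 F = f0 F := by
        rw [mul_smul, mul_smul, hk, hgd, inv_smul_eq_iff, hk]
      obtain ⟨x, y, z, e⟩ := mem_upper_of_fix (by rw [conj_inv_pow, hg, mul_one, inv_mul_cancel])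
        (flag_fixed.1 h3).1 (flag_fixed.1 h3).2
      refine mem_U.2 ⟨x, y, z, ?_⟩
      show _ = φ a (k * uu x y z * k⁻¹)
      rw [← e]
      congr 1
      group
  have hUD : U ψ ≤ D := fun t ht =>
    ⟨hG.fix_self ((hU t).1 ht).1, ((hU t).1 ht).2.2⟩
  have hNrm : ∀ g ∈ D, Nrm ψ g := by
    rintro g ⟨hga, hgb⟩
    refine ⟨by rw [range_comp_conj]; exact hG.plane.normal_range a hga, fun t ht => (hU _).2 ?_⟩
    have := hG.TT_conj g ((hU t).1 ht)
    rwa [MulAction.mem_stabilizer_iff.1 hga, MulAction.mem_stabilizer_iff.1 hgb] at this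
  have hker : ∀ h ∈ D, (∀ t ∈ U ψ, h * t = t * h) → ∃ z, h = ψ (uu 0 0 z) := by
    rintro h hh hc
    obtain ⟨z, hz⟩ := center_inner hψk (hNrm h hh).1 hc
    refine ⟨z, ?_⟩
    set c := (ψ (uu 0 0 z))⁻¹ * h with hcdef
    have hcc : ∀ g, c * ψ g = ψ g * c := fun g => by
      have := hz _ ⟨g, rfl⟩
      rw [hcdef]
      calc (ψ (uu 0 0 z))⁻¹ * h * ψ g = (ψ (uu 0 0 z))⁻¹ * (h * ψ g * h⁻¹) * h := by group
        _ = _ := by rw [this]; group
    have hzD : ψ (uu 0 0 z) ∈ D := hUD (mem_U.2 ⟨_, _, _, rfl⟩)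
    have hcD : c ∈ D := mul_mem (inv_mem hzD) hh
    have hfix : ∀ y, y ≠ a → ψ (uu 1 1 0) • y = y → c • y = y := by
      intro y hy hy'
      have hd := (hG.dir_iff hy (conj_four k _ (uu_pow_four 1 1 0))).1 hy'
      have hd' : uu (1 : F) 1 0 • (k⁻¹ • hG.dirOf a y) = k⁻¹ • hG.dirOf a y := by
        rw [mul_smul, mul_smul] at hd
        exact eq_inv_smul_iff.2 hd
      have e : k⁻¹ • hG.dirOf a y = f0 F := by
        rw [flag_fixed, (order_four_fixed one_ne_zero one_ne_zero).1,
          (order_four_fixed one_ne_zero one_ne_zero).2] at hd'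
        exact Subtype.ext (Prod.ext hd'.1 hd'.2)
      rw [inv_smul_eq_iff, hk] at e
      haveI := (Nat.card_eq_one_iff_unique.1 ((hG.card_fibre a (hG.dirOf a b)).trans hu)).1
      have := Subsingleton.elim (⟨y, hy, e⟩ : {z : Ω // z ≠ a ∧ hG.dirOf a z = hG.dirOf a b}) ⟨b, hb, rfl⟩
      rw [show y = b from congrArg Subtype.val this]
      exact hcD.2
    have hc1 : c = 1 := ((hG.chart a).conj hG.kind k).eq_one_of_cent hG.kind hcD.1 hcc
      (uu_pow_four 1 1 0) ⟨f0 F, flag_fixed.2 (upper_fix_p0 (uu_mem _ _ _))⟩ hfix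
    rw [hcdef, inv_mul_eq_one] at hc1
    exact hc1.symm
  -- the images of the two generators
  have hcode : ∀ g : D, ∃ c : Bool × F × F,
      (g : G) * ψ (uu 1 0 0) * (g : G)⁻¹ = (if c.1 then ψ (uu 1 0 c.2.1) else ψ (uu 0 1 c.2.1)) ∧
      (g : G) * ψ (uu 0 1 0) * (g : G)⁻¹ = (if c.1 then ψ (uu 0 1 c.2.2) else ψ (uu 1 0 c.2.2)) := by
    intro g
    have hn := hNrm g g.2
    obtain ⟨c0, hc0⟩ : ∃ c0 : F, (g : G) * ψ (uu 0 0 1) * (g : G)⁻¹ = ψ (uu 0 0 c0) := hn.image_zero hψk 1
    have hne : ∀ {p q r p' q' r' : F}, (g : G) * ψ (uu p q r) * (g : G)⁻¹ = ψ (uu p' q' r') →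
        p ≠ 0 ∨ q ≠ 0 → p' = 0 → q' = 0 → False := by
      intro p q r p' q' r' e hpq hp' hq'
      obtain ⟨z₀, hz₀⟩ := hn.zero_surj hψk r'
      rw [hp', hq', ← hz₀] at e
      have := inj_uu hψk (mul_left_cancel (mul_right_cancel e))
      rcases hpq with h | h
      · exact h this.1
      · exact h this.2.1
    rcases hn.pres_or_swap hψk with hP | hS
    · obtain ⟨x, z, e⟩ := hP 1 0
      obtain ⟨y, z', e'⟩ := hP.snd hψk hn 1 0
      have hx : x = 1 := (eq_zero_or_one h2 x).resolve_left fun hx =>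
        hne e (Or.inl one_ne_zero) hx rfl
      have hy : y = 1 := (eq_zero_or_one h2 y).resolve_left fun hy =>
        hne e' (Or.inr one_ne_zero) rfl hy
      subst hx hy
      exact ⟨(true, z, z'), e, e'⟩
    · obtain ⟨y, z, e⟩ := hS 1 0
      obtain ⟨x, z', e'⟩ := hS.snd hψk hn 1 0
      have hy : y = 1 := (eq_zero_or_one h2 y).resolve_left fun hy =>
        hne e (Or.inl one_ne_zero) rfl hy
      have hx : x = 1 := (eq_zero_or_one h2 x).resolve_left fun hx =>
        hne e' (Or.inr one_ne_zero) hx rfl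
      subst hx hy
      exact ⟨(false, z, z'), e, e'⟩
  choose f hf1 hf2 using hcode
  haveI := Fintype.ofFinite F
  haveI := Fintype.ofFinite D
  have hfib : ∀ c : Bool × F × F, (Finset.univ.filter fun g : D => f g = c).card ≤ 2 := by
    intro c
    rcases (Finset.univ.filter fun g : D => f g = c).eq_empty_or_nonempty with e | ⟨g0, hg0⟩
    · rw [e]; simp
    have hg0' := (Finset.mem_filter.1 hg0).2
    have key : ∀ g ∈ (Finset.univ.filter fun g : D => f g = c), ∃ z : F, (g : G) = g0 * ψ (uu 0 0 z) := by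
      intro g hg
      have hg' := (Finset.mem_filter.1 hg).2
      set h := (g0 : G)⁻¹ * g with hh
      suffices hcomm : ∀ t ∈ U ψ, h * t = t * h by
        obtain ⟨z, hz⟩ := hker h (mul_mem (inv_mem g0.2) g.2) hcomm
        exact ⟨z, by rw [← hz, hh, mul_inv_cancel_left]⟩
      have k1 : Commute h (ψ (uu 1 0 0)) := by
        have e := (hf1 g).trans ((by rw [hg', hg0'] : _ = _).trans (hf1 g0).symm)
        show h * _ = _ * h
        rw [hh]
        calc (g0 : G)⁻¹ * g * ψ (uu 1 0 0) = (g0 : G)⁻¹ * (g * ψ (uu 1 0 0) * (g : G)⁻¹) * g := by group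
          _ = _ := by rw [e]; group
      have k2 : Commute h (ψ (uu 0 1 0)) := by
        have e := (hf2 g).trans ((by rw [hg', hg0'] : _ = _).trans (hf2 g0).symm)
        show h * _ = _ * h
        rw [hh]
        calc (g0 : G)⁻¹ * g * ψ (uu 0 1 0) = (g0 : G)⁻¹ * (g * ψ (uu 0 1 0) * (g : G)⁻¹) * g := by group
          _ = _ := by rw [e]; group
      have k3 : Commute h (ψ (uu 0 0 1)) := by
        have : ψ (uu 0 0 (1 : F)) = (ψ (uu 1 0 0) * ψ (uu 0 1 0)) ^ 2 := by
          rw [← map_mul, ← map_pow, uu_mul, uu_pow_two]; simp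
        rw [this]
        exact (k1.mul_right k2).pow_right 2
      intro t ht
      obtain ⟨x, y, z, rfl⟩ := mem_U.1 ht
      have hgen : ∀ x : F, Commute h (ψ (uu x 0 0)) ∧ Commute h (ψ (uu 0 x 0)) ∧ Commute h (ψ (uu 0 0 x)) := by
        intro x
        rcases eq_zero_or_one h2 x with rfl | rfl
        · simp [uu_zero]
        · exact ⟨k1, k2, k3⟩
      have e : uu x y z = uu x 0 0 * uu 0 y 0 * uu 0 0 (z + x * y) := by
        rw [uu_mul, uu_mul]
        congr 1 <;> simp
        linear_combination -(x * y) * CharTwo.two_eq_zero (R := F)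
      rw [e, map_mul, map_mul]
      exact (((hgen x).1.mul_right (hgen y).2.1).mul_right (hgen _).2.2).eq
    choose! zf hzf using key
    calc (Finset.univ.filter fun g : D => f g = c).card
        ≤ (Finset.univ : Finset F).card := Finset.card_le_card_of_injOn zf (fun _ _ => Finset.mem_univ _)
          (fun g hg g' hg' e => Subtype.ext (by rw [hzf g hg, hzf g' hg', e]))
      _ = 2 := by rw [Finset.card_univ, ← Nat.card_eq_fintype_card, h2]
  have h16 : Nat.card D ≤ 16 := by
    have hle := Finset.card_le_mul_card_image (s := (Finset.univ : Finset D)) (f := f) 2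
      (fun c _ => hfib c)
    have himg : ((Finset.univ : Finset D).image f).card ≤ 8 := by
      refine (Finset.card_le_univ _).trans ?_
      rw [Fintype.card_prod, Fintype.card_prod, Fintype.card_bool, ← Nat.card_eq_fintype_card, h2]
    rw [Finset.card_univ, ← Nat.card_eq_fintype_card] at hle
    omega
  have h8 : 8 ∣ Nat.card D := by
    have := Subgroup.card_dvd_of_le hUD
    rwa [card_U hψk, h2] at this
  have : 0 < Nat.card D := Nat.card_pos
  obtain ⟨j, hj⟩ := h8
  omega

/-- There is no such group. -/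
theorem flag_false [Nonempty Ω] : False := by
  classical
  obtain ⟨a⟩ := ‹Nonempty Ω›
  obtain ⟨hu, h2⟩ := hG.flag_small a
  have hv := hG.card_omega_two hu h2
  obtain ⟨b, hb, -⟩ := hG.exists_dir a (f0 F)
  set A := MulAction.stabilizer G a with hA
  have hP := hG.plane
  have hpre : ∀ y : Ω, ∃ g : G, g • a = y := by
    intro y
    rcases eq_or_ne y a with rfl | hy
    · exact ⟨1, one_smul _ _⟩
    · obtain ⟨g, hg, -⟩ := hP.trans2 a y y a hy.symm hy
      exact ⟨g, hg⟩
  have hGA : Nat.card G = 22 * Nat.card A := by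
    rw [← A.card_mul_index, MulAction.index_stabilizer,
      show MulAction.orbit G a = Set.univ from Set.eq_univ_of_forall hpre, Set.ncard_univ, hv, mul_comm]
  have hAD : Nat.card A = 21 * Nat.card ↥(A ⊓ MulAction.stabilizer G b) := by
    have horb : MulAction.orbit A b = {z : Ω | z ≠ a} := by
      ext z
      constructor
      · rintro ⟨g, rfl⟩
        exact smul_ne_self g.2 hb
      · intro hz
        obtain ⟨g, hga, hgb⟩ := hP.trans2 a b a z hb.symm (Ne.symm hz)
        exact ⟨⟨g, hga⟩, hgb⟩
    have h21 : Set.ncard {z : Ω | z ≠ a} = 21 := by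
      rw [← Nat.card_coe_set_eq]
      show Nat.card {z : Ω // z ≠ a} = 21
      rw [(hG.chart a).card_others, card_flag, card_pt, h2, hu]; norm_num
    rw [← (MulAction.stabilizer A b).card_mul_index, MulAction.index_stabilizer, horb, h21, mul_comm]
    congr 1
    exact Nat.card_congr
      { toFun := fun g => ⟨(g.1 : G), g.1.2, g.2⟩
        invFun := fun g => ⟨⟨g.1, g.2.1⟩, g.2.2⟩
        left_inv := fun _ => rfl
        right_inv := fun _ => rfl }
  have hd := hG.card_two_stab hu h2 hb
  set d := Nat.card ↥(A ⊓ MulAction.stabilizer G b) with hd'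
  haveI : Fact (Nat.Prime 11) := ⟨by norm_num⟩
  obtain ⟨p, hp⟩ := exists_prime_orderOf_dvd_card' (G := G) 11
    (by rw [hGA]; exact ⟨2 * Nat.card A, by ring⟩)
  set P := Subgroup.zpowers p with hPdef
  have hPc : Nat.card P = 11 := by rw [Nat.card_zpowers, hp]
  have hPsyl : ¬ 11 ∣ P.index := by
    intro h
    have := P.card_mul_index
    rw [hPc, hGA, hAD] at this
    rcases hd with e | e <;> rw [e] at this <;> omega
  have hP11 : IsPGroup 11 P := IsPGroup.of_card (n := 1) (by rw [hPc]; norm_num)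
  set S := hP11.toSylow hPsyl with hS
  have hScoe : (S : Subgroup G) = P := hP11.toSylow_coe hPsyl
  have hAprime : ¬ 11 ∣ Nat.card A := by
    rw [hAD]
    rcases hd with e | e <;> rw [e] <;> omega
  have hfree : ∀ y : Ω, p • y ≠ y := by
    intro y hy
    obtain ⟨g, rfl⟩ := hpre y
    have hmem : g⁻¹ * p * g ∈ A := by
      rw [hA, MulAction.mem_stabilizer_iff, mul_smul, mul_smul, hy, inv_smul_smul]
    refine hAprime ?_
    have h1 : orderOf (g⁻¹ * p * g) = 11 := by
      rw [← hp]
      have := (MulAut.conj g⁻¹).orderOf_eq p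
      simpa using this
    rw [← h1, ← Subgroup.orderOf_mk _ hmem]
    exact orderOf_dvd_natCard _
  have horbP : ∀ y : Ω, (MulAction.orbit P y).ncard = 11 := by
    intro y
    have hst : MulAction.stabilizer P y = ⊥ := by
      refine (Subgroup.eq_bot_or_eq_top_of_prime_card (H := MulAction.stabilizer P y)
        (hp := ⟨hPc ▸ (by norm_num : Nat.Prime 11)⟩)).resolve_right fun htop => ?_
      exact hfree y (htop.ge (Subgroup.mem_top (⟨p, Subgroup.mem_zpowers p⟩ : P)))
    rw [← MulAction.index_stabilizer, hst, Subgroup.index_bot, hPc]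
  -- the centraliser of `P` has order 11 or 22
  set N := Subgroup.normalizer (P : Set G) with hN
  set C := Subgroup.centralizer (P : Set G) with hC
  have hCN : ∀ c ∈ C, c • a = a → c = 1 := by
    intro c hc hca
    have hcomm : ∀ q ∈ P, q * c = c * q := fun q hq => Subgroup.mem_centralizer_iff.1 hc q hq
    have hfixorb : ∀ y ∈ MulAction.orbit P a, c • y = y := by
      rintro _ ⟨⟨q, hq⟩, rfl⟩
      show c • q • a = q • a
      rw [← mul_smul, ← hcomm q hq, mul_smul, hca]
    have hc11 : c ^ 11 = 1 := by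
      refine eq_of_smul_eq_smul (α := Ω) fun y => ?_
      rw [one_smul]
      by_cases hy : y ∈ MulAction.orbit P a
      · exact MulAction.mem_stabilizer_iff.1
          (pow_mem (MulAction.mem_stabilizer_iff.2 (hfixorb y hy) : c ∈ MulAction.stabilizer G y) 11)
      -- otherwise `c` permutes the second orbit as an element of `P`
      have hcy : c • y ∈ MulAction.orbit P y := by
        by_contra hcy
        have hdisj : Disjoint (MulAction.orbit P a) (MulAction.orbit P y) := by
          rw [Set.disjoint_left]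
          intro z hza hzy
          refine hy (MulAction.orbit_eq_iff.1 ?_)
          rw [← MulAction.orbit_eq_iff.2 hzy, MulAction.orbit_eq_iff.2 hza]
        have huniv : MulAction.orbit P a ∪ MulAction.orbit P y = Set.univ := by
          refine Set.eq_of_subset_of_ncard_le (Set.subset_univ _) ?_ (Set.toFinite _)
          rw [Set.ncard_union_eq hdisj, horbP, horbP, Set.ncard_univ, hv]
        have : c • y ∈ MulAction.orbit P a ∪ MulAction.orbit P y := huniv ▸ Set.mem_univ _
        rcases this with h | h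
        · have h' := hfixorb _ h
          exact hy ((smul_left_cancel c h') ▸ h)
        · exact hcy h
      obtain ⟨⟨q, hq⟩, hqy⟩ := hcy
      have hqy' : c • y = q • y := hqy.symm
      have hk : ∀ n : ℕ, c ^ n • y = q ^ n • y := by
        intro n
        induction n with
        | zero => simp
        | succ n ih =>
          rw [pow_succ', mul_smul, ih, ← mul_smul, ← hcomm _ (pow_mem hq n), mul_smul, hqy',
            ← mul_smul, ← pow_succ]
      rw [hk, show q ^ 11 = 1 by
        have := pow_card_eq_one' (G := P) (x := ⟨q, hq⟩)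
        rw [hPc] at this
        exact congrArg Subtype.val this, one_smul]
    have hcA : c ∈ A := hca
    by_contra hc1
    refine hAprime ?_
    rw [← orderOf_eq_prime hc11 hc1, ← Subgroup.orderOf_mk _ hcA]
    exact orderOf_dvd_natCard _
  have hPC : P ≤ C := by
    intro q hq
    refine Subgroup.mem_centralizer_iff.2 fun r hr => ?_
    obtain ⟨i, rfl⟩ := Subgroup.mem_zpowers_iff.1 hq
    obtain ⟨j, rfl⟩ := Subgroup.mem_zpowers_iff.1 hr
    exact zpow_mul_comm p j i
  have hCcard : Nat.card C ≤ 22 := by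
    rw [← hv]
    refine Nat.card_le_card_of_injective (fun c : C => (c : G) • a) fun c c' e => Subtype.ext ?_
    have := hCN ((c : G)⁻¹ * c') (mul_mem (inv_mem c.2) c'.2)
      (by rw [mul_smul, inv_smul_eq_iff]; exact e.symm)
    exact inv_mul_eq_one.1 this
  have h11C : 11 ∣ Nat.card C := hPc ▸ Subgroup.card_dvd_of_le hPC
  haveI : IsCyclic P := isCyclic_of_prime_card hPc
  let ν : N →* MulAut P := Subgroup.normalizerMonoidHom P
  have hNker : Nat.card ν.ker = Nat.card C := by
    have hCleN : C ≤ N := Subgroup.centralizer_le_normalizer _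
    rw [show ν.ker = C.subgroupOf N from Subgroup.normalizerMonoidHom_ker P]
    exact Nat.card_congr (Subgroup.subgroupOfEquivOfLe hCleN).toEquiv
  have hr : Nat.card ν.range ∣ 10 := by
    have := Subgroup.card_subgroup_dvd_card ν.range
    rw [IsCyclic.card_mulAut, hPc, Nat.totient_prime (by norm_num : Nat.Prime 11)] at this
    exact this
  have hNc : Nat.card N = Nat.card ν.range * Nat.card C := by
    rw [← hNker, ← Subgroup.index_ker ν, mul_comm]
    exact (ν.ker.card_mul_index).symm
  have hn11 : N.index % 11 = 1 := by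
    have h := card_sylow_modEq_one (G := G) 11
    rw [Sylow.card_eq_index_normalizer S] at h
    exact h
  have hidx := N.card_mul_index
  rw [hNc, hGA, hAD] at hidx
  have hC0 : 0 < Nat.card C := Nat.card_pos
  obtain ⟨j, hj⟩ := h11C
  have hjle : j ≤ 2 := by omega
  have hr10 : Nat.card ν.range ≤ 10 := Nat.le_of_dvd (by norm_num) hr
  have hone : Nat.card ν.range = 1 ∧ j = 1 := by
    have hj1 : j = 1 ∨ j = 2 := by omega
    have hi : N.index = 11 * (N.index / 11) + 1 := by omega
    generalize Nat.card ν.range = r at *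
    generalize N.index = i at *
    rcases hd with e | e <;> rw [e] at hidx <;> rcases hj1 with rfl | rfl <;> rw [hj] at hidx <;>
      interval_cases r <;> omega
  have hNP : N = P := by
    refine (Subgroup.eq_of_le_of_card_ge Subgroup.le_normalizer ?_).symm
    rw [hNc, hone.1, hj, hone.2, hPc]
  have hNC : Subgroup.normalizer ((S : Subgroup G) : Set G) ≤ Subgroup.centralizer ((S : Subgroup G) : Set G) := by
    rw [hScoe]
    exact hNP.le.trans hPC
  set K := (MonoidHom.transferSylow S hNC).ker
  have hK := MonoidHom.ker_transferSylow_isComplement' S hNC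
  have hKc : Nat.card K * 11 = Nat.card G := by
    rw [← hPc, ← hScoe]
    exact hK.card_mul
  have hKne : ∃ k ∈ K, ∃ y : Ω, k • y ≠ y := by
    by_contra hc
    simp only [not_exists, not_and, not_not] at hc
    have : K = ⊥ := (Subgroup.eq_bot_iff_forall _).2 fun k hk =>
      eq_of_smul_eq_smul (α := Ω) fun y => by rw [hc k hk y, one_smul]
    rw [this, Subgroup.card_bot, hGA, hAD] at hKc
    rcases hd with e | e <;> rw [e] at hKc <;> omega
  have htr : MulAction.orbit K a = Set.univ := by
    refine Set.eq_univ_of_forall fun y => ?_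
    rcases eq_or_ne y a with rfl | hy
    · exact MulAction.mem_orbit_self _
    obtain ⟨k, hk, y0, hy0⟩ := hKne
    obtain ⟨g, hg0, hg1⟩ := hP.trans2 y0 (k • y0) a y (Ne.symm hy0) hy.symm
    refine ⟨⟨g * k * g⁻¹, (MonoidHom.normal_ker _).conj_mem k hk g⟩, ?_⟩
    show (g * k * g⁻¹) • a = y
    rw [mul_smul, mul_smul, ← hg0, inv_smul_smul, hg1]
  have hdiv : 22 ∣ Nat.card K := by
    have := (MulAction.stabilizer K a).index_dvd_card
    rwa [MulAction.index_stabilizer, htr, Set.ncard_univ, hv] at this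
  rw [hGA, hAD] at hKc
  rcases hd with e | e <;> rw [e] at hKc <;> omega

end Geo

end CfsgLib.PlaneStab
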