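import Cfsg.Agent.PlaneStab.SL
import Cfsg.Agent.AutPSL.Transvection

/-!
# Normalisers of a Sylow 2-subgroup of an image of `SL(3, 2^n)`

An element normalising the unitriangular group induces a semilinear map on its centre, and one
that is linear there, fixes both elementary abelian subgroups of order `q²` and has 2-power order
acts as an inner automorphism.
-/

set_option autoImplicit false

open Matrix

namespace CfsgLib.PlaneStab

variable {F : Type*} [Field F] [CharP F 2] {G : Type*} [Group G] (ψ : L F →* G)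

/-- The image of the upper unitriangular group. -/
abbrev U : Subgroup G := (upper F).map ψ

/-- `g` normalises the image of `SL(3, F)` and of its upper unitriangular group. -/
def Nrm (g : G) : Prop :=
  (∀ n ∈ ψ.range, g * n * g⁻¹ ∈ ψ.range) ∧ ∀ t ∈ U ψ, g * t * g⁻¹ ∈ U ψ

/-- `g` fixes the elementary abelian subgroup `{uu x 0 z}`. -/
def Pres (g : G) : Prop := ∀ x z : F, ∃ x' z', g * ψ (uu x 0 z) * g⁻¹ = ψ (uu x' 0 z')

/-- `g` maps `{uu x 0 z}` to `{uu 0 y z}`. -/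
def Swap (g : G) : Prop := ∀ x z : F, ∃ y' z', g * ψ (uu x 0 z) * g⁻¹ = ψ (uu 0 y' z')

variable {ψ}

theorem inj4 (hk : ψ.ker ≤ Subgroup.center (L F)) {g h : L F} (hg : g ^ 4 = 1) (hh : h ^ 4 = 1)
    (e : ψ g = ψ h) : g = h := by
  have hc : g⁻¹ * h ∈ Subgroup.center (L F) := hk (by rw [MonoidHom.mem_ker, map_mul, map_inv, e, inv_mul_cancel])
  set c := g⁻¹ * h with hcdef
  have hgc : h = g * c := by rw [hcdef, mul_inv_cancel_left]
  have h3 := center_cube hc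
  have h4 : c ^ 4 = 1 := by
    have := hh
    rw [hgc, Commute.mul_pow (show Commute g c from Subgroup.mem_center_iff.1 hc g), hg, one_mul] at this
    exact this
  have : c = 1 := by rw [pow_succ, h3, one_mul] at h4; exact h4
  rw [hgc, this, mul_one]

theorem inj_uu (hk : ψ.ker ≤ Subgroup.center (L F)) {x y z x' y' z' : F}
    (e : ψ (uu x y z) = ψ (uu x' y' z')) : x = x' ∧ y = y' ∧ z = z' :=
  uu_inj (inj4 hk (uu_pow_four x y z) (uu_pow_four x' y' z') e)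

theorem exists_lift (hk : ψ.ker ≤ Subgroup.center (L F)) {n : G} (hn : n ∈ ψ.range) (h4 : n ^ 4 = 1) :
    ∃ g : L F, g ^ 4 = 1 ∧ ψ g = n := by
  obtain ⟨g, rfl⟩ := hn
  have hc : g ^ 4 ∈ Subgroup.center (L F) := hk (by rw [MonoidHom.mem_ker, map_pow, h4])
  refine ⟨g ^ 9, ?_, ?_⟩
  · rw [← pow_mul, show 9 * 4 = 4 * 3 * 3 from rfl, pow_mul, pow_mul, center_cube hc, one_pow]
  · rw [map_pow, pow_succ, show 8 = 4 * 2 from rfl, pow_mul, h4, one_pow, one_mul]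

theorem conj_eq (hk : ψ.ker ≤ Subgroup.center (L F)) {g g' h : L F} (hg : g ^ 4 = 1) (hg' : g' ^ 4 = 1)
    (e : ψ h * ψ g * (ψ h)⁻¹ = ψ g') : h * g * h⁻¹ = g' := by
  refine inj4 hk ?_ hg' ?_
  · rw [conj_pow, hg, mul_one, mul_inv_cancel]
  · rw [map_mul, map_mul, map_inv, e]

theorem comm_of_map (hk : ψ.ker ≤ Subgroup.center (L F)) {g h : L F} (hg : g ^ 4 = 1)
    (e : ψ g * ψ h = ψ h * ψ g) : g * h = h * g := by
  have := conj_eq hk hg hg (h := h) (by rw [← e, mul_inv_cancel_right])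
  calc g * h = h * g * h⁻¹ * h := by rw [this]
    _ = h * g := by group

theorem mem_U {t : G} : t ∈ U ψ ↔ ∃ x y z, t = ψ (uu x y z) := by
  simp only [U, Subgroup.mem_map, mem_upper]
  exact ⟨fun ⟨_, ⟨x, y, z, rfl⟩, h⟩ => ⟨x, y, z, h.symm⟩, fun ⟨x, y, z, h⟩ => ⟨_, ⟨x, y, z, rfl⟩, h.symm⟩⟩

theorem card_U (hk : ψ.ker ≤ Subgroup.center (L F)) : Nat.card (U ψ) = Nat.card F ^ 3 := by
  rw [← card_upper (F := F), U]
  refine (Nat.card_congr ?_).symm
  refine Equiv.ofBijective (fun g => ⟨ψ g, Subgroup.mem_map_of_mem ψ g.2⟩) ⟨?_, ?_⟩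
  · rintro ⟨a, ⟨x, y, z, rfl⟩⟩ ⟨b, ⟨x', y', z', rfl⟩⟩ e
    exact Subtype.ext (inj4 hk (uu_pow_four x y z) (uu_pow_four x' y' z') (congrArg Subtype.val e))
  · rintro ⟨_, a, ha, rfl⟩
    exact ⟨⟨a, ha⟩, rfl⟩

omit [CharP F 2] in
theorem uu_swap_mul [CharP F 2] (x y z x' y' z' : F) :
    uu x y z * uu x' y' z' = uu 0 0 (x * y' + x' * y) * (uu x' y' z' * uu x y z) := by
  rw [uu_mul, uu_mul, uu_mul]
  congr 1
  · ring
  · ring
  · linear_combination (-(x' * y)) * CharTwo.two_eq_zero (R := F)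

theorem Nrm.mul {g h : G} (hg : Nrm ψ g) (hh : Nrm ψ h) : Nrm ψ (g * h) := by
  constructor
  · intro n hn
    rw [show g * h * n * (g * h)⁻¹ = g * (h * n * h⁻¹) * g⁻¹ by group]
    exact hg.1 _ (hh.1 n hn)
  · intro t ht
    rw [show g * h * t * (g * h)⁻¹ = g * (h * t * h⁻¹) * g⁻¹ by group]
    exact hg.2 _ (hh.2 t ht)

theorem Nrm.pow {g : G} (hg : Nrm ψ g) : ∀ m : ℕ, Nrm ψ (g ^ m)
  | 0 => ⟨fun n hn => by simpa using hn, fun t ht => by simpa using ht⟩
  | m + 1 => by rw [pow_succ]; exact (hg.pow m).mul hg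

theorem nrm_of_mem {t : G} (ht : t ∈ U ψ) : Nrm ψ t :=
  ⟨fun _ hn => mul_mem (mul_mem (Subgroup.map_le_range ψ _ ht) hn) (inv_mem (Subgroup.map_le_range ψ _ ht)),
    fun _ hs => mul_mem (mul_mem ht hs) (inv_mem ht)⟩

theorem Nrm.image {g : G} (hg : Nrm ψ g) (x y z : F) :
    ∃ x' y' z', g * ψ (uu x y z) * g⁻¹ = ψ (uu x' y' z') :=
  mem_U.1 (hg.2 _ (mem_U.2 ⟨x, y, z, rfl⟩))

/-- The commutator relation is transported. -/
theorem Nrm.image_comm (hk : ψ.ker ≤ Subgroup.center (L F)) {g : G} {x y z x' y' z' X Y Z X' Y' Z' : F}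
    (e : g * ψ (uu x y z) * g⁻¹ = ψ (uu X Y Z)) (e' : g * ψ (uu x' y' z') * g⁻¹ = ψ (uu X' Y' Z')) :
    g * ψ (uu 0 0 (x * y' + x' * y)) * g⁻¹ = ψ (uu 0 0 (X * Y' + X' * Y)) := by
  have h1 : ψ (uu 0 0 (x * y' + x' * y)) =
      ψ (uu x y z) * ψ (uu x' y' z') * (ψ (uu x' y' z') * ψ (uu x y z))⁻¹ := by
    rw [eq_mul_inv_iff_mul_eq, ← map_mul, ← map_mul, ← map_mul, ← uu_swap_mul]
  have h2 : ψ (uu 0 0 (X * Y' + X' * Y)) =
      ψ (uu X Y Z) * ψ (uu X' Y' Z') * (ψ (uu X' Y' Z') * ψ (uu X Y Z))⁻¹ := by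
    rw [eq_mul_inv_iff_mul_eq, ← map_mul, ← map_mul, ← map_mul, ← uu_swap_mul]
  rw [h1, h2, ← e, ← e']
  group

theorem Nrm.image_zero (hk : ψ.ker ≤ Subgroup.center (L F)) {g : G} (hg : Nrm ψ g) (z : F) :
    ∃ z', g * ψ (uu 0 0 z) * g⁻¹ = ψ (uu 0 0 z') := by
  obtain ⟨X, Y, Z, e⟩ := hg.image z 0 0
  obtain ⟨X', Y', Z', e'⟩ := hg.image 0 1 0
  exact ⟨_, by simpa using Nrm.image_comm hk e e'⟩

theorem image_inj (hk : ψ.ker ≤ Subgroup.center (L F)) {g : G} {x y z x' y' z' : F}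
    (e : g * ψ (uu x y z) * g⁻¹ = g * ψ (uu x' y' z') * g⁻¹) : x = x' ∧ y = y' ∧ z = z' :=
  inj_uu hk (mul_left_cancel (mul_right_cancel e))

/-- Elements of square one go to elements of square one. -/
theorem image_sq_zero (hk : ψ.ker ≤ Subgroup.center (L F)) {g : G} {x y z X Y Z : F}
    (hxy : x * y = 0) (e : g * ψ (uu x y z) * g⁻¹ = ψ (uu X Y Z)) : X = 0 ∨ Y = 0 := by
  refine (uu_sq_eq_one_iff (z := Z)).1 (inj4 hk ?_ (one_pow 4) ?_)
  · rw [← pow_mul, show 2 * 4 = 4 * 2 from rfl, pow_mul, uu_pow_four, one_pow]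
  · rw [map_pow, ← e, conj_pow, ← map_pow, uu_pow_two, hxy, uu_zero, map_one, mul_one,
      mul_inv_cancel]

theorem Nrm.preimage [Finite G] {g : G} (hg : Nrm ψ g) {t : G} (ht : t ∈ U ψ) :
    g⁻¹ * t * g ∈ U ψ := by
  have hinj : Function.Injective (fun s : U ψ => (⟨g * s * g⁻¹, hg.2 _ s.2⟩ : U ψ)) := fun a b e =>
    Subtype.ext (mul_left_cancel (mul_right_cancel (congrArg Subtype.val e)))
  obtain ⟨s, hs⟩ := Finite.surjective_of_injective hinj ⟨t, ht⟩
  have hs' : g * (s : G) * g⁻¹ = t := congrArg Subtype.val hs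
  rw [← hs']
  simpa [mul_assoc] using s.2

variable [Finite F]

theorem Nrm.zero_surj (hk : ψ.ker ≤ Subgroup.center (L F)) {g : G} (hg : Nrm ψ g) (z' : F) :
    ∃ z, g * ψ (uu 0 0 z) * g⁻¹ = ψ (uu 0 0 z') := by
  choose h hh using hg.image_zero hk
  have hinj : Function.Injective h := fun a b e => (image_inj hk ((hh a).trans (e ▸ (hh b).symm))).2.2
  obtain ⟨z, rfl⟩ := Finite.surjective_of_injective hinj z'
  exact ⟨z, hh z⟩

/-- An element normalising the unitriangular group preserves or exchanges its two elementary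
abelian subgroups of order `q²`. -/
theorem Nrm.pres_or_swap (hk : ψ.ker ≤ Subgroup.center (L F)) {g : G} (hg : Nrm ψ g) :
    Pres ψ g ∨ Swap ψ g := by
  have key : ∀ x z, ∃ x' y' z', g * ψ (uu x 0 z) * g⁻¹ = ψ (uu x' y' z') ∧ (x' = 0 ∨ y' = 0) := by
    intro x z
    obtain ⟨x', y', z', e⟩ := hg.image x 0 z
    exact ⟨x', y', z', e, image_sq_zero hk (mul_zero x) e⟩
  by_cases hP : Pres ψ g
  · exact Or.inl hP
  · refine Or.inr fun a c => ?_
    simp only [Pres, not_forall, not_exists] at hP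
    obtain ⟨a₀, c₀, h₀⟩ := hP
    obtain ⟨x₀, y₀, z₀, e₀, h₀'⟩ := key a₀ c₀
    have hy₀ : y₀ ≠ 0 := fun h => h₀ x₀ z₀ (by rw [e₀, h])
    have hx₀ : x₀ = 0 := h₀'.resolve_right hy₀
    obtain ⟨x', y', z', e, h'⟩ := key a c
    refine ⟨y', z', ?_⟩
    suffices x' = 0 by rw [e, this]
    by_contra hx'
    have hy' : y' = 0 := h'.resolve_left hx'
    obtain ⟨x'', y'', z'', e'', h''⟩ := key (a + a₀) (c + c₀ + a * 0)
    have hm : ψ (uu x'' y'' z'') = ψ (uu (x' + x₀) (y' + y₀) (z' + z₀ + x' * y₀)) := by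
      rw [← e'', show (a + a₀ : F) = a + a₀ from rfl, ← uu_mul, map_mul, ← e, ← e₀,
        show uu (a + a₀) 0 (c + c₀ + a * 0) = uu a 0 c * uu a₀ 0 c₀ by rw [uu_mul, add_zero],
        map_mul]
      group
    obtain ⟨h1, h2, -⟩ := inj_uu hk hm
    rw [hx₀, add_zero] at h1
    rw [hy', zero_add] at h2
    rcases h'' with h | h
    · exact hx' (h1.symm.trans h)
    · exact hy₀ (h2.symm.trans h)

theorem not_pres_and_swap (hk : ψ.ker ≤ Subgroup.center (L F)) {g : G} (hg : Nrm ψ g)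
    (hP : Pres ψ g) (hS : Swap ψ g) : False := by
  obtain ⟨x', z', e⟩ := hP 1 0
  obtain ⟨y', z'', e'⟩ := hS 1 0
  obtain ⟨h1, -, -⟩ := inj_uu hk (e.symm.trans e')
  subst h1
  obtain ⟨z, hz⟩ := hg.zero_surj hk z'
  exact one_ne_zero (image_inj hk (e.trans hz.symm)).1

theorem Pres.surj (hk : ψ.ker ≤ Subgroup.center (L F)) {g : G} (hP : Pres ψ g) (x' z' : F) :
    ∃ x z, g * ψ (uu x 0 z) * g⁻¹ = ψ (uu x' 0 z') := by
  choose A C h using hP
  have hinj : Function.Injective (fun p : F × F => (A p.1 p.2, C p.1 p.2)) := by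
    rintro ⟨a, c⟩ ⟨a', c'⟩ e
    obtain ⟨e1, e2⟩ := Prod.mk.injEq .. ▸ e
    obtain ⟨r1, -, r3⟩ := image_inj hk (((h a c).trans (by rw [e1, e2])).trans (h a' c').symm)
    rw [r1, r3]
  obtain ⟨⟨a, c⟩, e⟩ := Finite.surjective_of_injective hinj (x', z')
  obtain ⟨e1, e2⟩ := Prod.mk.injEq .. ▸ e
  exact ⟨a, c, by rw [h a c, e1, e2]⟩

/-- If `{uu x 0 z}` is fixed, so is `{uu 0 y z}`. -/
theorem Pres.snd (hk : ψ.ker ≤ Subgroup.center (L F)) {g : G} (hg : Nrm ψ g) (hP : Pres ψ g) (y z : F) :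
    ∃ y' z', g * ψ (uu 0 y z) * g⁻¹ = ψ (uu 0 y' z') := by
  obtain ⟨X, Y, Z, e⟩ := hg.image 0 y z
  refine ⟨Y, Z, ?_⟩
  suffices X = 0 by rw [e, this]
  by_contra hX
  have hY : Y = 0 := (image_sq_zero hk (zero_mul y) e).resolve_left hX
  subst hY
  obtain ⟨a, c, h⟩ := hP.surj hk X Z
  obtain ⟨-, hy, -⟩ := image_inj hk (h.trans e.symm)
  subst hy
  obtain ⟨c', hc'⟩ := hg.image_zero hk z
  exact hX (inj_uu hk (e.symm.trans hc')).1

theorem Swap.snd (hk : ψ.ker ≤ Subgroup.center (L F)) {g : G} (hg : Nrm ψ g) (hS : Swap ψ g) (y z : F) :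
    ∃ x' z', g * ψ (uu 0 y z) * g⁻¹ = ψ (uu x' 0 z') := by
  obtain ⟨X, Y, Z, e⟩ := hg.image 0 y z
  refine ⟨X, Z, ?_⟩
  suffices Y = 0 by rw [e, this]
  by_contra hY
  have hX : X = 0 := (image_sq_zero hk (zero_mul y) e).resolve_right hY
  subst hX
  choose A C h using hS
  have hinj : Function.Injective (fun p : F × F => (A p.1 p.2, C p.1 p.2)) := by
    rintro ⟨a, c⟩ ⟨a', c'⟩ e
    obtain ⟨e1, e2⟩ := Prod.mk.injEq .. ▸ e
    obtain ⟨r1, -, r3⟩ := image_inj hk (((h a c).trans (by rw [e1, e2])).trans (h a' c').symm)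
    rw [r1, r3]
  obtain ⟨⟨a, c⟩, hac⟩ := Finite.surjective_of_injective hinj (Y, Z)
  obtain ⟨e1, e2⟩ := Prod.mk.injEq .. ▸ hac
  obtain ⟨-, hy, -⟩ := image_inj hk (((h a c).trans (by rw [e1, e2])).trans e.symm)
  subst hy
  obtain ⟨c', hc'⟩ := hg.image_zero hk z
  exact hY (inj_uu hk (e.symm.trans hc')).2.1

/-- The action on the centre is semilinear. -/
theorem Nrm.semilinear (hk : ψ.ker ≤ Subgroup.center (L F)) {g : G} (hg : Nrm ψ g) :
    ∃ (μ : F) (σ : F →+* F), μ ≠ 0 ∧ ∀ z, g * ψ (uu 0 0 z) * g⁻¹ = ψ (uu 0 0 (μ * σ z)) := by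
  choose h hh using hg.image_zero hk
  have hinj : Function.Injective h := fun a b e => (image_inj hk ((hh a).trans (e ▸ (hh b).symm))).2.2
  have hadd : ∀ a b, h (a + b) = h a + h b := by
    intro a b
    have := hh (a + b)
    rw [show uu (0 : F) 0 (a + b) = uu 0 0 a * uu 0 0 b by rw [uu_mul]; simp, map_mul,
      ← conj_mul, hh a, hh b, ← map_mul, uu_mul] at this
    simpa using (inj_uu hk this).2.2.symm
  obtain ⟨f, f', hff⟩ : ∃ f f' : F → F, ∀ a b, h (a * b) = f a * f' b := by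
    choose A B C hA using fun a => hg.image a 0 0
    choose A' B' C' hB using fun b => hg.image 0 b 0
    have hcomm : ∀ a b, h (a * b) = A a * B' b + A' b * B a := by
      intro a b
      have := Nrm.image_comm hk (hA a) (hB b)
      rw [mul_zero, add_zero, hh] at this
      exact (inj_uu hk this).2.2
    rcases hg.pres_or_swap hk with hP | hS
    · have h1 : ∀ a, B a = 0 := fun a => by
        obtain ⟨x', z', e⟩ := hP a 0
        exact (inj_uu hk ((hA a).symm.trans e)).2.1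
      exact ⟨A, B', fun a b => by rw [hcomm, h1, mul_zero, add_zero]⟩
    · have h1 : ∀ a, A a = 0 := fun a => by
        obtain ⟨x', z', e⟩ := hS a 0
        exact (inj_uu hk ((hA a).symm.trans e)).1
      exact ⟨B, A', fun a b => by rw [hcomm, h1, zero_mul, zero_add, mul_comm]⟩
  have h0 : h 0 = 0 := by simpa using hadd 0 0
  have h1 : h 1 ≠ 0 := fun e => one_ne_zero (hinj (e.trans h0.symm))
  have h11 : h 1 = f 1 * f' 1 := by rw [← hff, mul_one]
  refine ⟨h 1,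
    { toFun := fun z => h z / h 1
      map_one' := div_self h1
      map_mul' := fun a b => by
        have hf1 : f 1 ≠ 0 := fun e => h1 (by rw [h11, e, zero_mul])
        have hf1' : f' 1 ≠ 0 := fun e => h1 (by rw [h11, e, mul_zero])
        have ea : h a = f a * f' 1 := by rw [← hff, mul_one]
        have eb : h b = f 1 * f' b := by rw [← hff, one_mul]
        show h (a * b) / h 1 = h a / h 1 * (h b / h 1)
        rw [hff, ea, eb, h11]
        field_simp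
      map_zero' := by simp [h0]
      map_add' := fun a b => by simp [hadd, add_div] }, h1, fun z => ?_⟩
  rw [hh z]
  simp [mul_div_cancel₀ _ h1]

/-! ### Inner automorphisms -/

omit [Finite F] in
theorem eq_one_of_pow_two_pow {μ : F} {k : ℕ} (h : μ ^ 2 ^ k = 1) : μ = 1 := by
  haveI : Fact (Nat.Prime 2) := ⟨Nat.prime_two⟩
  have h0 : (μ + 1) ^ 2 ^ k = 0 := by
    rw [add_pow_char_pow, h, one_pow, CharTwo.add_self_eq_zero]
  exact CharTwo.add_eq_zero.1 ((pow_eq_zero_iff (by positivity)).1 h0)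

omit [CharP F 2] in
theorem conjugate_lower (h : L F) :
    (h 2 2 = 0 → ∃ y z, (y ≠ 0 ∨ z ≠ 0) ∧ uu 0 y z * h = h * ll 0 (h 2 1) (h 2 0)) ∧
    ((h⁻¹ : L F) 0 0 = 0 → ∃ x z, (x ≠ 0 ∨ z ≠ 0) ∧
      h⁻¹ * uu x 0 z = ll ((h⁻¹ : L F) 1 0) 0 ((h⁻¹ : L F) 2 0) * h⁻¹) := by
  refine ⟨fun h22 => ⟨h 1 2, h 0 2, ?_, ?_⟩, fun k00 => ⟨(h⁻¹ : L F) 0 1, (h⁻¹ : L F) 0 2, ?_, ?_⟩⟩
  · by_contra hc
    rw [not_or, not_not, not_not] at hc
    refine one_ne_zero (α := F) ?_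
    rw [← Matrix.SpecialLinearGroup.det_coe h]
    exact Matrix.det_eq_zero_of_column_eq_zero 2 (fun i => by fin_cases i <;> simp [h22, hc.1, hc.2])
  · apply Subtype.ext
    simp only [Matrix.SpecialLinearGroup.coe_mul, uu_coe, ll_coe]
    ext i j
    fin_cases i <;> fin_cases j <;> simp [Matrix.mul_apply, Fin.sum_univ_three, h22]
  · by_contra hc
    rw [not_or, not_not, not_not] at hc
    refine one_ne_zero (α := F) ?_
    rw [← Matrix.SpecialLinearGroup.det_coe (h⁻¹)]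
    exact Matrix.det_eq_zero_of_row_eq_zero 0 (fun i => by fin_cases i <;> simp only [Fin.isValue] <;>
      first | exact k00 | exact hc.1 | exact hc.2)
  · generalize (h⁻¹ : L F) = k at k00
    apply Subtype.ext
    simp only [Matrix.SpecialLinearGroup.coe_mul, uu_coe, ll_coe]
    ext i j
    fin_cases i <;> fin_cases j <;> simp [Matrix.mul_apply, Fin.sum_univ_three, k00] <;> ring

omit [Finite F] in
theorem exists_uu_of_opposite (h : L F) (h22 : h 2 2 ≠ 0) (h00 : (h⁻¹ : L F) 0 0 ≠ 0) :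
    ∃ u ∈ upper F, (u * h) 0 1 = 0 ∧ (u * h) 0 2 = 0 ∧ (u * h) 1 2 = 0 := by
  have hk : (h⁻¹ : L F) 0 0 = h 1 1 * h 2 2 - h 1 2 * h 2 1 := by
    rw [Matrix.SpecialLinearGroup.coe_inv, Matrix.adjugate_fin_three]
    simp
  rw [hk] at h00
  set D := h 1 1 * h 2 2 - h 1 2 * h 2 1 with hD
  refine ⟨uu ((h 0 2 * h 2 1 - h 0 1 * h 2 2) / D) (-h 1 2 / h 2 2)
    ((h 0 1 * h 1 2 - h 0 2 * h 1 1) / D), uu_mem _ _ _, ?_, ?_, ?_⟩
  all_goals simp [Matrix.SpecialLinearGroup.coe_mul, uu_coe, Matrix.mul_apply, Fin.sum_univ_three]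
  · field_simp; rw [hD]; ring
  · field_simp; rw [hD]; ring
  · field_simp; ring

omit [CharP F 2] [Finite F] in
theorem lower_conj {k : L F} (h01 : k 0 1 = 0) (h02 : k 0 2 = 0) (h12 : k 1 2 = 0) (x y z : F) :
    ∃ x' y' z', k * ll x y z = ll x' y' z' * k := by
  have hd : k 0 0 * k 1 1 * k 2 2 = 1 := by
    have := Matrix.SpecialLinearGroup.det_coe k
    rw [Matrix.det_fin_three, h01, h02, h12] at this
    simpa using this
  have h0 : k 0 0 ≠ 0 := fun e => by simp [e] at hd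
  have h1 : k 1 1 ≠ 0 := fun e => by simp [e] at hd
  refine ⟨k 1 1 * x / k 0 0, k 2 2 * y / k 1 1,
    (k 2 1 * x + k 2 2 * z - k 2 2 * y / k 1 1 * k 1 0) / k 0 0, ?_⟩
  apply Subtype.ext
  simp only [Matrix.SpecialLinearGroup.coe_mul, ll_coe]
  ext i j
  fin_cases i <;> fin_cases j <;>
    simp [Matrix.mul_apply, Fin.sum_univ_three, h01, h02, h12] <;> field_simp <;> ring

omit [CharP F 2] [Finite F] in
theorem comm_uu_ll {a b z A B C : F} (e : uu a b z * ll A B C = ll A B C * uu a b z) :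
    (b = 0 → a * C = 0 ∧ a * A = 0 ∧ A * z = 0 ∧ z * B = 0) ∧
      (a = 0 → b * C = 0 ∧ b * B = 0 ∧ A * z = 0 ∧ z * B = 0) := by
  have E : ∀ i j, (uu a b z * ll A B C : L F) i j = (ll A B C * uu a b z : L F) i j := fun i j => by
    rw [e]
  have e01 := E 0 1
  have e11 := E 1 1
  have e10 := E 1 0
  have e21 := E 2 1
  have e12 := E 1 2
  simp [Matrix.SpecialLinearGroup.coe_mul, uu_coe, ll_coe, Matrix.mul_apply, Fin.sum_univ_three] at e01 e11 e10 e21 e12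
  constructor
  · rintro rfl
    simp at e01 e11 e10 e21 e12
    refine ⟨?_, ?_, ?_, ?_⟩ <;> grind
  · rintro rfl
    simp at e01 e11 e10 e21 e12
    refine ⟨?_, ?_, ?_, ?_⟩ <;> grind

omit [CharP F 2] [Finite F] in
theorem xe_eq_uu (t : F) : AutPSL.xe (0 : Fin 3) 1 t = uu t 0 0 ∧ AutPSL.xe (1 : Fin 3) 2 t = uu 0 t 0 ∧
    AutPSL.xe (1 : Fin 3) 0 t = ll t 0 0 ∧ AutPSL.xe (2 : Fin 3) 1 t = ll 0 t 0 := by
  refine ⟨?_, ?_, ?_, ?_⟩ <;>
  · apply Subtype.ext
    rw [AutPSL.xe_coe (by decide)]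
    ext i j
    fin_cases i <;> fin_cases j <;> simp [uu_coe, ll_coe, Matrix.single_apply]

omit [CharP F 2] [Finite F] in
/-- A homomorphism from `SL(3, F)` is determined by its values on unitriangular matrices. -/
theorem eq_of_eqOn {H : Type*} [Group H] {f f' : L F →* H}
    (hu : ∀ x y z, f (uu x y z) = f' (uu x y z)) (hl1 : ∀ t, f (ll t 0 0) = f' (ll t 0 0))
    (hl2 : ∀ t, f (ll 0 t 0) = f' (ll 0 t 0)) : f = f' := by
  refine MonoidHom.ext fun g => ?_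
  have : f.eqLocus f' = ⊤ := by
    refine AutPSL.eq_top_of_simple_mem (m := 2) (by norm_num) _ ?_ ?_
    · intro k t
      fin_cases k
      · show f (AutPSL.xe (0 : Fin 3) 1 t) = f' (AutPSL.xe (0 : Fin 3) 1 t)
        rw [(xe_eq_uu t).1, hu]
      · show f (AutPSL.xe (1 : Fin 3) 2 t) = f' (AutPSL.xe (1 : Fin 3) 2 t)
        rw [(xe_eq_uu t).2.1, hu]
    · intro k t
      fin_cases k
      · show f (AutPSL.xe (1 : Fin 3) 0 t) = f' (AutPSL.xe (1 : Fin 3) 0 t)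
        rw [(xe_eq_uu t).2.2.1, hl1]
      · show f (AutPSL.xe (2 : Fin 3) 1 t) = f' (AutPSL.xe (2 : Fin 3) 1 t)
        rw [(xe_eq_uu t).2.2.2, hl2]
  exact (this ▸ Subgroup.mem_top g : g ∈ f.eqLocus f')

omit [Finite F] in
theorem exists_antidiag : ∃ w : L F, ∀ x y z, w * uu x y z = ll y x z * w := by
  refine ⟨⟨!![0, 0, 1; 0, 1, 0; 1, 0, 0], ?_⟩, fun x y z => ?_⟩
  · simp [Matrix.det_fin_three, CharTwo.neg_eq]
  · apply Subtype.ext
    change !![(0:F), 0, 1; 0, 1, 0; 1, 0, 0] * !![1, x, z; 0, 1, y; 0, 0, 1] =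
      !![1, 0, 0; y, 1, 0; z, x, 1] * !![(0:F), 0, 1; 0, 1, 0; 1, 0, 0]
    ext i j
    fin_cases i <;> fin_cases j <;> simp [Matrix.mul_apply, Fin.sum_univ_three]

/-- The conjugate of the lower unitriangular group by a normalising element is conjugate to it
by an upper unitriangular matrix. -/
theorem exists_opposite [Finite G] (hk : ψ.ker ≤ Subgroup.center (L F)) {g : G} (hg : Nrm ψ g) :
    ∃ u ∈ upper F, ∀ x y z, ∃ x' y' z',
      g * ψ (ll x y z) * g⁻¹ = ψ u * ψ (ll x' y' z') * (ψ u)⁻¹ := by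
  classical
  haveI := Fintype.ofFinite F
  haveI : Fact (Nat.Prime 2) := ⟨Nat.prime_two⟩
  obtain ⟨w, hw⟩ := exists_antidiag (F := F)
  have hl4 : ∀ x y z : F, ll x y z ^ 4 = 1 := fun x y z => by
    have : ll x y z = w * uu y x z * w⁻¹ := by rw [hw, mul_inv_cancel_right]
    rw [this, conj_pow, uu_pow_four, mul_one, mul_inv_cancel]
  set T : Subgroup G := ((lower F).map ψ).map (MulAut.conj g).toMonoidHom with hT
  have hTr : T ≤ ψ.range := by
    rintro _ ⟨n, hn, rfl⟩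
    exact hg.1 n (Subgroup.map_le_range ψ _ hn)
  have hT4 : ∀ n ∈ T, n ^ 4 = 1 := by
    rintro _ ⟨_, ⟨_, ⟨x, y, z, rfl⟩, rfl⟩, rfl⟩
    rw [← map_pow, ← map_pow, hl4, map_one, map_one]
  have hT2 : IsPGroup 2 T := fun n => ⟨2, Subtype.ext (hT4 n n.2)⟩
  let φQ : T.comap ψ →* T := ψ.subgroupComap T
  have hφQ : Function.Surjective φQ := fun n => by
    obtain ⟨a, ha⟩ := hTr n.2
    exact ⟨⟨a, by rw [Subgroup.mem_comap, ha]; exact n.2⟩, Subtype.ext ha⟩
  obtain ⟨R⟩ : Nonempty (Sylow 2 (T.comap ψ)) := inferInstance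
  have hRtop : (R : Subgroup (T.comap ψ)).map φQ = ⊤ := by
    obtain ⟨k, hk2⟩ := hT2.index ((R : Subgroup (T.comap ψ)).map φQ)
    have hd : ((R : Subgroup (T.comap ψ)).map φQ).index ∣ (R : Subgroup (T.comap ψ)).index :=
      Subgroup.index_map_dvd _ hφQ
    rw [← Subgroup.index_eq_one, hk2]
    rcases Nat.eq_zero_or_pos k with h | h
    · rw [h, pow_zero]
    · exact absurd ((dvd_pow_self 2 h.ne').trans (hk2 ▸ hd)) R.not_dvd_index
  obtain ⟨h₀, hh₀⟩ := exists_conj_upper (P := (R : Subgroup (T.comap ψ)).map (T.comap ψ).subtype)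
    (R.2.map _)
  set h := h₀ * w⁻¹ with hh
  have hmem : ∀ x y z, ∃ x' y' z', g * ψ (ll x y z) * g⁻¹ = ψ h * ψ (ll x' y' z') * (ψ h)⁻¹ := by
    intro x y z
    have hm : g * ψ (ll x y z) * g⁻¹ ∈ T := ⟨_, Subgroup.mem_map_of_mem ψ (ll_mem x y z), rfl⟩
    have hmm : (⟨_, hm⟩ : T) ∈ (R : Subgroup (T.comap ψ)).map φQ := by
      rw [hRtop]; exact Subgroup.mem_top _
    obtain ⟨r, hr, hrv⟩ := hmm
    have hrv' : ψ (r : L F) = g * ψ (ll x y z) * g⁻¹ := congrArg Subtype.val hrv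
    obtain ⟨X, Y, Z, he⟩ := hh₀ (r : L F) ⟨r, hr, rfl⟩
    refine ⟨Y, X, Z, ?_⟩
    rw [← hrv', ← map_mul, ← map_inv, ← map_mul]
    congr 1
    calc (r : L F) = h₀ * uu X Y Z * h₀⁻¹ := by rw [← he]; group
      _ = h * ll Y X Z * h⁻¹ := by
          have e2 : ll Y X Z = w * uu X Y Z * w⁻¹ := by rw [hw, mul_inv_cancel_right]
          rw [hh, e2]; group
  choose A B C hABC using hmem
  have hsurj : ∀ x' y' z', ∃ x y z,
      g * ψ (ll x y z) * g⁻¹ = ψ h * ψ (ll x' y' z') * (ψ h)⁻¹ := by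
    intro x' y' z'
    have hinj : Function.Injective (fun p : F × F × F =>
        (A p.1 p.2.1 p.2.2, B p.1 p.2.1 p.2.2, C p.1 p.2.1 p.2.2)) := by
      rintro ⟨a, b, c⟩ ⟨a', b', c'⟩ e
      simp only [Prod.mk.injEq] at e
      have h2 : g * ψ (ll a b c) * g⁻¹ = g * ψ (ll a' b' c') * g⁻¹ := by
        rw [hABC, hABC, e.1, e.2.1, e.2.2]
      obtain ⟨r1, r2, r3⟩ := ll_inj (inj4 hk (hl4 _ _ _) (hl4 _ _ _)
        (mul_left_cancel (mul_right_cancel h2)))
      rw [r1, r2, r3]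
    obtain ⟨⟨a, b, c⟩, e⟩ := Finite.surjective_of_injective hinj (x', y', z')
    simp only [Prod.mk.injEq] at e
    exact ⟨a, b, c, by rw [hABC, e.1, e.2.1, e.2.2]⟩
  have htriv : ∀ x y z x' y' z', uu x y z = h * ll x' y' z' * h⁻¹ → uu x y z = 1 := by
    intro x y z x' y' z' e
    obtain ⟨a, b, c, habc⟩ := hsurj x' y' z'
    rw [← map_mul, ← map_inv, ← map_mul, ← e] at habc
    obtain ⟨X, Y, Z, hU⟩ := mem_U.1 (hg.preimage (mem_U.2 ⟨x, y, z, rfl⟩))
    have hll : ψ (ll a b c) = ψ (uu X Y Z) := by rw [← hU, ← habc]; group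
    have heq := inj4 hk (hl4 a b c) (uu_pow_four X Y Z) hll
    have E : ∀ i j, (ll a b c : L F) i j = (uu X Y Z : L F) i j := fun i j => by rw [heq]
    have e10 := E 1 0
    have e21 := E 2 1
    have e20 := E 2 0
    simp [ll_coe, uu_coe] at e10 e21 e20
    rw [e10, e21, e20, ll_zero, map_one, mul_one, mul_inv_cancel] at habc
    exact inj4 hk (uu_pow_four _ _ _) (one_pow 4) (habc.symm.trans (map_one ψ).symm)
  obtain ⟨hA, hB⟩ := conjugate_lower h
  have h22 : h 2 2 ≠ 0 := fun e => by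
    obtain ⟨y, z, hne, he⟩ := hA e
    exact uu_ne_one (hne.elim (fun h => Or.inr (Or.inl h)) fun h => Or.inr (Or.inr h))
      (htriv 0 y z 0 _ _ (by rw [← he, mul_inv_cancel_right]))
  have h00 : (h⁻¹ : L F) 0 0 ≠ 0 := fun e => by
    obtain ⟨x, z, hne, he⟩ := hB e
    exact uu_ne_one (hne.elim (fun h => Or.inl h) fun h => Or.inr (Or.inr h))
      (htriv x 0 z _ 0 _ (by rw [mul_assoc, ← he, mul_inv_cancel_left]))
  obtain ⟨u, hu, k01, k02, k12⟩ := exists_uu_of_opposite h h22 h00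
  refine ⟨u⁻¹, inv_mem hu, fun x y z => ?_⟩
  obtain ⟨x', y', z', he⟩ := lower_conj k01 k02 k12 (A x y z) (B x y z) (C x y z)
  refine ⟨x', y', z', ?_⟩
  rw [hABC, ← map_mul, ← map_inv, ← map_mul, ← map_mul, ← map_inv, ← map_mul]
  congr 1
  calc h * ll (A x y z) (B x y z) (C x y z) * h⁻¹
      = u⁻¹ * ((u * h) * ll (A x y z) (B x y z) (C x y z)) * h⁻¹ := by group
    _ = u⁻¹ * (ll x' y' z' * (u * h)) * h⁻¹ := by rw [he]
    _ = u⁻¹ * ll x' y' z' * u⁻¹⁻¹ := by group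

/-- An element acting trivially on the centre of the unitriangular group and modulo it acts as an
element of the group. -/
theorem inner_of_trivial [Finite G] (hk : ψ.ker ≤ Subgroup.center (L F)) {g : G} (hg : Nrm ψ g)
    (h0 : ∀ z, g * ψ (uu 0 0 z) * g⁻¹ = ψ (uu 0 0 z))
    (h1 : ∀ x y z, ∃ z', g * ψ (uu x y z) * g⁻¹ = ψ (uu x y z')) :
    ∃ t ∈ U ψ, ∀ n ∈ ψ.range, g * n * g⁻¹ = t * n * t⁻¹ := by
  obtain ⟨u, hu, hopp⟩ := exists_opposite hk hg
  have hl4 : ∀ x y z : F, ll x y z ^ 4 = 1 := fun x y z => by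
    obtain ⟨w, hw⟩ := exists_antidiag (F := F)
    have : ll x y z = w * uu y x z * w⁻¹ := by rw [hw, mul_inv_cancel_right]
    rw [this, conj_pow, uu_pow_four, mul_one, mul_inv_cancel]
  obtain ⟨p, q, r, rfl⟩ := hu
  set g' := (ψ (uu p q r))⁻¹ * g with hg'
  let c : L F →* G := (MulAut.conj g').toMonoidHom.comp ψ
  have hc : ∀ a, c a = g' * ψ a * g'⁻¹ := fun a => rfl
  have hcU : ∀ x y z, ∃ z', c (uu x y z) = ψ (uu x y z') := by
    intro x y z
    obtain ⟨z', e⟩ := h1 x y z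
    refine ⟨z' + x * q - p * y, ?_⟩
    rw [hc, hg', show (ψ (uu p q r))⁻¹ * g * ψ (uu x y z) * ((ψ (uu p q r))⁻¹ * g)⁻¹ =
      (ψ (uu p q r))⁻¹ * (g * ψ (uu x y z) * g⁻¹) * ψ (uu p q r) by group, e,
      ← map_inv, ← map_mul, ← map_mul]
    congr 1
    rw [mul_assoc, inv_mul_eq_iff_eq_mul, uu_mul, uu_mul]
    congr 1 <;> ring
  have hcZ : ∀ z, c (uu 0 0 z) = ψ (uu 0 0 z) := by
    intro z
    rw [hc, hg', show (ψ (uu p q r))⁻¹ * g * ψ (uu 0 0 z) * ((ψ (uu p q r))⁻¹ * g)⁻¹ =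
      (ψ (uu p q r))⁻¹ * (g * ψ (uu 0 0 z) * g⁻¹) * ψ (uu p q r) by group, h0]
    rw [mul_assoc, inv_mul_eq_iff_eq_mul, ← map_mul, ← map_mul, uu_mul, uu_mul]
    congr 2 <;> ring
  have hcL : ∀ x y z, ∃ x' y' z', c (ll x y z) = ψ (ll x' y' z') := by
    intro x y z
    obtain ⟨x', y', z', e⟩ := hopp x y z
    refine ⟨x', y', z', ?_⟩
    rw [hc, hg', show (ψ (uu p q r))⁻¹ * g * ψ (ll x y z) * ((ψ (uu p q r))⁻¹ * g)⁻¹ =
      (ψ (uu p q r))⁻¹ * (g * ψ (ll x y z) * g⁻¹) * ψ (uu p q r) by group, e]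
    group
  have hcinj : ∀ a b : L F, c a = c b → ψ a = ψ b := fun a b e => by
    rw [hc, hc] at e; exact mul_left_cancel (mul_right_cancel e)
  -- the four families
  have hX : ∀ a, c (uu a 0 0) = ψ (uu a 0 0) := by
    intro a
    rcases eq_or_ne a 0 with rfl | ha
    · exact hcZ 0
    obtain ⟨z', e⟩ := hcU a 0 0
    obtain ⟨A, B, C, e'⟩ := hcL 0 1 0
    have hcomm : c (uu a 0 0) * c (ll 0 1 0) = c (ll 0 1 0) * c (uu a 0 0) := by
      rw [← map_mul, ← map_mul]; congr 1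
      apply Subtype.ext
      simp only [Matrix.SpecialLinearGroup.coe_mul, uu_coe, ll_coe]
      ext i j
      fin_cases i <;> fin_cases j <;> simp [Matrix.mul_apply, Fin.sum_univ_three]
    rw [e, e'] at hcomm
    obtain ⟨hC, hA, -, hzB⟩ := (comm_uu_ll (comm_of_map hk (uu_pow_four _ _ _) hcomm)).1 rfl
    have hC0 : C = 0 := (mul_eq_zero.1 hC).resolve_left ha
    have hA0 : A = 0 := (mul_eq_zero.1 hA).resolve_left ha
    have hB0 : B ≠ 0 := by
      rintro rfl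
      rw [hA0, hC0, ll_zero, map_one] at e'
      have h := inj4 hk (hl4 0 1 0) (one_pow 4) (hcinj _ _ (e'.trans (map_one c).symm))
      simpa using (ll_inj (h.trans ll_zero.symm)).2.1
    rw [e, (mul_eq_zero.1 hzB).resolve_right hB0]
  have hY : ∀ b, c (uu 0 b 0) = ψ (uu 0 b 0) := by
    intro b
    rcases eq_or_ne b 0 with rfl | hb
    · exact hcZ 0
    obtain ⟨z', e⟩ := hcU 0 b 0
    obtain ⟨A, B, C, e'⟩ := hcL 1 0 0
    have hcomm : c (uu 0 b 0) * c (ll 1 0 0) = c (ll 1 0 0) * c (uu 0 b 0) := by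
      rw [← map_mul, ← map_mul]; congr 1
      apply Subtype.ext
      simp only [Matrix.SpecialLinearGroup.coe_mul, uu_coe, ll_coe]
      ext i j
      fin_cases i <;> fin_cases j <;> simp [Matrix.mul_apply, Fin.sum_univ_three]
    rw [e, e'] at hcomm
    obtain ⟨hC, hB, hAz, -⟩ := (comm_uu_ll (comm_of_map hk (uu_pow_four _ _ _) hcomm)).2 rfl
    have hC0 : C = 0 := (mul_eq_zero.1 hC).resolve_left hb
    have hB0 : B = 0 := (mul_eq_zero.1 hB).resolve_left hb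
    have hA0 : A ≠ 0 := by
      rintro rfl
      rw [hB0, hC0, ll_zero, map_one] at e'
      have h := inj4 hk (hl4 1 0 0) (one_pow 4) (hcinj _ _ (e'.trans (map_one c).symm))
      simpa using (ll_inj (h.trans ll_zero.symm)).1
    rw [e, (mul_eq_zero.1 hAz).resolve_left hA0]
  have hall : ∀ x y z, c (uu x y z) = ψ (uu x y z) := by
    intro x y z
    have : uu x y z = uu x 0 0 * uu 0 y 0 * uu 0 0 (z - x * y) := by
      rw [uu_mul, uu_mul]; congr 1 <;> ring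
    rw [this, map_mul, map_mul, hX, hY, hcZ, ← map_mul, ← map_mul]
  have hl1 : ∀ t, c (ll t 0 0) = ψ (ll t 0 0) := by
    intro a
    obtain ⟨A, B, C, e⟩ := hcL a 0 0
    have hcomm : c (uu 0 1 0) * c (ll a 0 0) = c (ll a 0 0) * c (uu 0 1 0) := by
      rw [← map_mul, ← map_mul]; congr 1
      apply Subtype.ext
      simp only [Matrix.SpecialLinearGroup.coe_mul, uu_coe, ll_coe]
      ext i j
      fin_cases i <;> fin_cases j <;> simp [Matrix.mul_apply, Fin.sum_univ_three]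
    rw [e, hY] at hcomm
    obtain ⟨hC, hB, -, -⟩ := (comm_uu_ll (comm_of_map hk (uu_pow_four _ _ _) hcomm)).2 rfl
    rw [one_mul] at hC hB
    subst hC hB
    have rel : ∀ t : F, ll t 0 0 * uu 0 0 1 = uu 0 t 0 * uu 0 0 1 * ll t 0 0 := fun t => by
      apply Subtype.ext
      simp only [Matrix.SpecialLinearGroup.coe_mul, uu_coe, ll_coe]
      ext i j
      fin_cases i <;> fin_cases j <;> simp [Matrix.mul_apply, Fin.sum_univ_three]
    have := congrArg c (rel a)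
    rw [map_mul, map_mul, map_mul, e, hcZ, hY, ← map_mul ψ (ll A 0 0), rel A, map_mul, map_mul] at this
    rw [e, (inj_uu hk (mul_right_cancel (mul_right_cancel this))).2.1]
  have hl2 : ∀ t, c (ll 0 t 0) = ψ (ll 0 t 0) := by
    intro a
    obtain ⟨A, B, C, e⟩ := hcL 0 a 0
    have hcomm : c (uu 1 0 0) * c (ll 0 a 0) = c (ll 0 a 0) * c (uu 1 0 0) := by
      rw [← map_mul, ← map_mul]; congr 1
      apply Subtype.ext
      simp only [Matrix.SpecialLinearGroup.coe_mul, uu_coe, ll_coe]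
      ext i j
      fin_cases i <;> fin_cases j <;> simp [Matrix.mul_apply, Fin.sum_univ_three]
    rw [e, hX] at hcomm
    obtain ⟨hC, hA, -, -⟩ := (comm_uu_ll (comm_of_map hk (uu_pow_four _ _ _) hcomm)).1 rfl
    rw [one_mul] at hC hA
    subst hC hA
    have rel : ∀ t : F, uu 0 0 1 * ll 0 t 0 = uu t 0 0 * ll 0 t 0 * uu 0 0 1 := fun t => by
      apply Subtype.ext
      simp only [Matrix.SpecialLinearGroup.coe_mul, uu_coe, ll_coe]
      ext i j
      fin_cases i <;> fin_cases j <;> simp [Matrix.mul_apply, Fin.sum_univ_three]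
    have := congrArg c (rel a)
    rw [map_mul, map_mul, map_mul, e, hcZ, hX, ← map_mul ψ (uu 0 0 1), rel B, map_mul, map_mul] at this
    rw [e, (inj_uu hk (mul_right_cancel (mul_right_cancel this))).1]
  have heq := eq_of_eqOn hall hl1 hl2
  refine ⟨ψ (uu p q r), mem_U.2 ⟨p, q, r, rfl⟩, ?_⟩
  rintro _ ⟨a, rfl⟩
  have := DFunLike.congr_fun heq a
  rw [hc, hg'] at this
  calc g * ψ a * g⁻¹ = ψ (uu p q r) *
        ((ψ (uu p q r))⁻¹ * g * ψ a * ((ψ (uu p q r))⁻¹ * g)⁻¹) * (ψ (uu p q r))⁻¹ := by group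
    _ = _ := by rw [this]

/-- An element centralising the unitriangular group acts as an element of its centre. -/
theorem center_inner [Finite G] (hk : ψ.ker ≤ Subgroup.center (L F)) {g : G}
    (hg : ∀ n ∈ ψ.range, g * n * g⁻¹ ∈ ψ.range) (hc : ∀ t ∈ U ψ, g * t = t * g) :
    ∃ z, ∀ n ∈ ψ.range, g * n * g⁻¹ = ψ (uu 0 0 z) * n * (ψ (uu 0 0 z))⁻¹ := by
  have hcc : ∀ x y z, g * ψ (uu x y z) * g⁻¹ = ψ (uu x y z) := fun x y z => by
    rw [hc _ (mem_U.2 ⟨x, y, z, rfl⟩), mul_inv_cancel_right]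
  have hN : Nrm ψ g := ⟨hg, fun t ht => by rw [hc t ht, mul_inv_cancel_right]; exact ht⟩
  obtain ⟨t, ht, hin⟩ := inner_of_trivial hk hN (fun z => hcc 0 0 z) fun x y z => ⟨z, hcc x y z⟩
  obtain ⟨p, q, r, rfl⟩ := mem_U.1 ht
  have hpq : ∀ x y, p * y + x * q = 0 := by
    intro x y
    have e := hin _ ⟨uu x y 0, rfl⟩
    rw [hcc, eq_mul_inv_iff_mul_eq, ← map_mul, ← map_mul] at e
    have e2 := inj4 hk (by rw [uu_mul, uu_pow_four]) (by rw [uu_mul, uu_pow_four]) e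
    rw [uu_mul, uu_mul] at e2
    have := (uu_inj e2).2.2
    linear_combination this + (p * y) * CharTwo.two_eq_zero (R := F)
  have hp : p = 0 := by simpa using hpq 0 1
  have hq : q = 0 := by simpa using hpq 1 0
  subst hp hq
  exact ⟨r, hin⟩

/-- An element of 2-power order, fixing both elementary abelian subgroups and linear on the
centre, acts as an element of the unitriangular group. -/
theorem inner_of_linear [Finite G] (hk : ψ.ker ≤ Subgroup.center (L F)) {g : G} (hg : Nrm ψ g) (hP : Pres ψ g)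
    {μ : F} (hμ : ∀ z, g * ψ (uu 0 0 z) * g⁻¹ = ψ (uu 0 0 (μ * z))) {k : ℕ} (hgk : g ^ 2 ^ k = 1) :
    ∃ t ∈ U ψ, ∀ n ∈ ψ.range, g * n * g⁻¹ = t * n * t⁻¹ := by
  have hit : ∀ m : ℕ, ∀ z, g ^ m * ψ (uu 0 0 z) * (g ^ m)⁻¹ = ψ (uu 0 0 (μ ^ m * z)) := by
    intro m
    induction m with
    | zero => simp
    | succ m ih =>
      intro z
      rw [pow_succ, show g ^ m * g * ψ (uu 0 0 z) * (g ^ m * g)⁻¹ =
        g ^ m * (g * ψ (uu 0 0 z) * g⁻¹) * (g ^ m)⁻¹ by group, hμ, ih, pow_succ, mul_assoc]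
  have hμ1 : μ = 1 := by
    have := hit (2 ^ k) 1
    rw [hgk, one_mul, inv_one, mul_one, mul_one] at this
    exact eq_one_of_pow_two_pow (inj_uu hk this).2.2.symm
  subst hμ1
  simp only [one_mul] at hμ
  -- the action on the two coordinates
  choose A C hA using fun a => hP a 0
  choose B C' hB using fun b => hP.snd hk hg b 0
  have hAB : ∀ a b, A a * B b = a * b := by
    intro a b
    have := Nrm.image_comm hk (hA a) (hB b)
    rw [hμ] at this
    simpa using (inj_uu hk this).2.2.symm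
  set lam := A 1 with hlam
  have hB1 : ∀ b, lam * B b = b := fun b => by rw [hlam, hAB, one_mul]
  have hA1 : ∀ a, A a = lam * a := by
    intro a
    have h := hAB a 1
    calc A a = A a * (lam * B 1) := by rw [hB1, mul_one]
      _ = lam * (A a * B 1) := by ring
      _ = lam * a := by rw [h, mul_one]
  have himg : ∀ x z, ∃ z', g * ψ (uu x 0 z) * g⁻¹ = ψ (uu (lam * x) 0 z') := by
    intro x z
    refine ⟨C x + z + lam * x * 0, ?_⟩
    rw [show uu x 0 z = uu x 0 0 * uu 0 0 z by rw [uu_mul]; simp, map_mul, ← conj_mul, hA, hμ,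
      ← map_mul, uu_mul, hA1]
    simp
  have hit2 : ∀ m : ℕ, ∀ x z, ∃ z', g ^ m * ψ (uu x 0 z) * (g ^ m)⁻¹ = ψ (uu (lam ^ m * x) 0 z') := by
    intro m
    induction m with
    | zero => exact fun x z => ⟨z, by simp⟩
    | succ m ih =>
      intro x z
      obtain ⟨z', e⟩ := himg x z
      obtain ⟨z'', e'⟩ := ih (lam * x) z'
      refine ⟨z'', ?_⟩
      rw [pow_succ, show g ^ m * g * ψ (uu x 0 z) * (g ^ m * g)⁻¹ =
        g ^ m * (g * ψ (uu x 0 z) * g⁻¹) * (g ^ m)⁻¹ by group, e, e', pow_succ, mul_assoc]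
  have hlam1 : lam = 1 := by
    obtain ⟨z', e⟩ := hit2 (2 ^ k) 1 0
    rw [hgk, one_mul, inv_one, mul_one, mul_one] at e
    exact eq_one_of_pow_two_pow (inj_uu hk e).1.symm
  refine inner_of_trivial hk hg hμ fun x y z => ?_
  refine ⟨C x + C' y + x * y + (z - x * y), ?_⟩
  have : uu x y z = uu x 0 0 * uu 0 y 0 * uu 0 0 (z - x * y) := by
    rw [uu_mul, uu_mul]; congr 1 <;> ring
  rw [this, map_mul, map_mul, ← conj_mul, ← conj_mul, hA, hB, hμ, ← map_mul, ← map_mul, uu_mul,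
    uu_mul, hA1, hlam1, show B y = y by simpa [hlam1] using hB1 y]
  congr 2 <;> ring

end CfsgLib.PlaneStab
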