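import Cfsg.Agent.PlaneStab.Space
import Cfsg.Agent.MTwentyTwoUnique.Main

/-!
# Lines of two points: the Steiner system S(3,6,22) and the Mathieu group of degree 22
-/

set_option autoImplicit false

open Matrix

namespace CfsgLib.PlaneStab

variable {F : Type*} [Field F] [CharP F 2] [Finite F] {G Ω : Type*} [Group G] [MulAction G Ω]
  [Finite G] [Finite Ω] [FaithfulSMul G Ω] {φ : Ω → L F →* G} {u : ℕ}

namespace Geo

variable (hG : Geo φ (Pt F) u)
include hG

/-- With one point in each direction `N_a` is transitive on the other points. -/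
theorem transitive_of_u_one (hu : u = 1) {a x y : Ω} (hx : x ≠ a) (hy : y ≠ a) :
    ∃ g : L F, φ a g • x = y := by
  obtain ⟨g, hg⟩ := exists_smul_eq_pt (hG.dirOf a x) (hG.dirOf a y)
  refine ⟨g, ?_⟩
  haveI := (Nat.card_eq_one_iff_unique.1 ((hG.card_fibre a (hG.dirOf a y)).trans hu)).1
  exact congrArg Subtype.val (Subsingleton.elim
    (⟨φ a g • x, smul_ne_self (hG.plane.fix a g) hx, by rw [hG.dir_smul hx, hg]⟩ :
      {z : Ω // z ≠ a ∧ hG.dirOf a z = hG.dirOf a y}) ⟨y, hy, rfl⟩)

/-- **The Mathieu group of degree 22.** -/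
theorem mathieu (hu : u = 1) (hq : Nat.card F = 4) (a : Ω) (hN : Nat.card (φ a).range = 20160) :
    Nat.card Ω = 22 ∧ (Cfsg.Spor.IsoM22 G ∨ ∃ H : Subgroup G, H.index = 2 ∧ Cfsg.Spor.IsoM22 ↥H) := by
  classical
  haveI := Fintype.ofFinite Ω
  have hv : Nat.card Ω = 22 := by rw [hG.card_points a, card_pt, hq, hu]; norm_num
  have hv' : Fintype.card Ω = 22 := by rw [← Nat.card_eq_fintype_card]; exact hv
  refine ⟨hv, ?_⟩
  let B : Set (Finset Ω) := {b | hG.IsPl (b : Set Ω)}
  have hlin : ∀ x y : Ω, y ≠ x → lin φ x y = {x, y} := by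
    intro x y h
    refine (Set.eq_of_subset_of_ncard_le ?_ ?_ (Set.toFinite _)).symm
    · rintro z (rfl | rfl)
      · exact hG.left_mem _ _
      · exact right_mem _ _
    · rw [hG.ncard_lin h, Set.ncard_pair h.symm, hu]
  have hB : Cfsg.IsSteinerSystem 3 6 B := by
    refine ⟨fun b hb => ?_, fun s hs => ?_⟩
    · have := IsPl.ncard hG hb
      rw [Set.ncard_coe_finset, hq, hu] at this
      exact this
    · obtain ⟨x, y, z, hxy, hxz, hyz, rfl⟩ := Finset.card_eq_three.1 hs
      have hz : z ∉ lin φ x y := by
        rw [hlin x y hxy.symm]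
        rintro (rfl | rfl)
        · exact hxz rfl
        · exact hyz rfl
      obtain ⟨S, hS, h1, h2, h3⟩ := hG.exists_pl hxy.symm hz
      refine ⟨S.toFinset, ⟨?_, ?_⟩, ?_⟩
      · show hG.IsPl ((S.toFinset : Finset Ω) : Set Ω)
        rwa [Set.coe_toFinset]
      · intro w hw
        simp only [Finset.mem_insert, Finset.mem_singleton, Set.mem_toFinset] at hw ⊢
        rcases hw with rfl | rfl | rfl <;> assumption
      · rintro b ⟨hb, hsub⟩
        simp only [Finset.insert_subset_iff, Finset.singleton_subset_iff] at hsub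
        apply Finset.coe_injective
        rw [Set.coe_toFinset]
        exact hG.pl_unique hb hS hxy.symm hz hsub.1 hsub.2.1 hsub.2.2 h1 h2 h3
  have hmem : ∀ g : G, MulAction.toPermHom G Ω g ∈ Cfsg.setSystemAut B := fun g =>
    Mathieu.mem_setSystemAut_of_image fun b hb => by
      have := IsPl.smul hG hb g
      show hG.IsPl ((b.image (MulAction.toPermHom G Ω g) : Finset Ω) : Set Ω)
      rw [Finset.coe_image]
      exact this
  let f : G →* Cfsg.setSystemAut B := (MulAction.toPermHom G Ω).codRestrict _ hmem
  have hf : Function.Injective f := fun g h e => eq_of_smul_eq_smul (α := Ω) fun z =>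
    congrArg (fun p : Cfsg.setSystemAut B => (p : Equiv.Perm Ω) z) e
  obtain ⟨haut, -, H, hH, hHM⟩ := Mathieu.S22.aut22 hv' hB
  haveI : Finite (Cfsg.setSystemAut B) := Nat.finite_of_card_ne_zero (by rw [haut]; norm_num)
  haveI := hHM.1
  have hpre : ∀ y : Ω, ∃ g : G, g • a = y := by
    intro y
    rcases eq_or_ne y a with rfl | hy
    · exact ⟨1, one_smul _ _⟩
    · obtain ⟨g, hg, -⟩ := hG.plane.trans2 a y y a hy.symm hy
      exact ⟨g, hg⟩
  have hGA : Nat.card G = 22 * Nat.card (MulAction.stabilizer G a) := by
    rw [← (MulAction.stabilizer G a).card_mul_index, MulAction.index_stabilizer,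
      show MulAction.orbit G a = Set.univ from Set.eq_univ_of_forall hpre, Set.ncard_univ, hv, mul_comm]
  have hNd : 20160 ∣ Nat.card (MulAction.stabilizer G a) := by
    rw [← hN]
    refine Subgroup.card_dvd_of_le ?_
    rintro _ ⟨g, rfl⟩
    exact hG.plane.fix a g
  have hdvd : Nat.card G ∣ 887040 := haut ▸ Subgroup.card_dvd_of_injective f hf
  obtain ⟨j, hj⟩ := hNd
  have hG' : Nat.card G = 443520 ∨ Nat.card G = 887040 := by
    rw [hGA, hj] at hdvd ⊢
    obtain ⟨i, hi⟩ := hdvd
    have hij : j * i = 2 := by
      have : 443520 * (j * i) = 443520 * 2 := by rw [← mul_assoc, show (443520 : ℕ) * 2 = 887040 by norm_num, hi]; ring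
      exact Nat.eq_of_mul_eq_mul_left (by norm_num) this
    have hd : j ∣ 2 := ⟨i, hij.symm⟩
    rcases (Nat.dvd_prime Nat.prime_two).1 hd with rfl | rfl <;> norm_num
  have hHiso : Cfsg.Spor.IsoM22 ↥H := MTwentyTwoUnique.iso_of_card hHM.1 hHM.2
  rcases hG' with h | h
  · refine Or.inl ?_
    have hrc : Nat.card f.range = 443520 := by rw [← Nat.card_congr (MonoidHom.ofInjective hf).toEquiv, h]
    have heq : f.range = H := by
      have hn := Subgroup.normal_of_index_eq_two hH
      have hle : H ≤ f.range := by
        by_contra hc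
        have hHc : Nat.card H = 443520 := hHM.2
        set K := f.range.subgroupOf H
        have hidx : K.index ≤ 2 := by
          have h1 : f.range.relIndex H ∣ f.range.index := by
            haveI : f.range.Normal := Subgroup.normal_of_index_eq_two (by
              have := f.range.card_mul_index
              rw [hrc, haut] at this
              omega)
            exact Subgroup.relIndex_dvd_index_of_normal _ _
          have hi : f.range.index = 2 := by
            have := f.range.card_mul_index
            rw [hrc, haut] at this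
            omega
          rw [hi] at h1
          exact Nat.le_of_dvd (by norm_num) h1
        have hK : K.Normal := by
          haveI : f.range.Normal := Subgroup.normal_of_index_eq_two (by
            have := f.range.card_mul_index
            rw [hrc, haut] at this
            omega)
          exact Subgroup.Normal.subgroupOf inferInstance H
        rcases hK.eq_bot_or_eq_top with hb | ht
        · rw [hb, Subgroup.index_bot, hHc] at hidx
          omega
        · exact hc (Subgroup.subgroupOf_eq_top.1 ht)
      exact (Subgroup.eq_of_le_of_card_ge hle (by rw [hrc, hHM.2])).symm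
    obtain ⟨e⟩ := hHiso
    exact ⟨((MonoidHom.ofInjective hf).trans (MulEquiv.subgroupCongr heq)).trans e⟩
  · refine Or.inr ?_
    have hb : Function.Bijective f := (Nat.bijective_iff_injective_and_card f).2 ⟨hf, h.trans haut.symm⟩
    refine ⟨H.comap f, ?_, ?_⟩
    · rw [Subgroup.index_comap_of_surjective H hb.2, hH]
    · obtain ⟨e⟩ := hHiso
      exact ⟨(((MulEquiv.ofBijective f hb).subgroupMap (H.comap f)).trans
        (MulEquiv.subgroupCongr (Subgroup.map_comap_eq_self_of_surjective hb.2 H))).trans e⟩

end Geo

end CfsgLib.PlaneStab
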