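import Cfsg.Agent.PlaneStab.Symm

/-!
# The two kinds of directions: points and flags of the projective plane
-/

set_option autoImplicit false

open Matrix
open scoped MatrixGroups LinearAlgebra.Projectivization

namespace CfsgLib.PlaneStab

variable {F : Type*} [Field F] [CharP F 2]

/-- Fixed points of an upper unitriangular matrix. -/
theorem uu_smul_eq_iff (x y z : F) {v : Fin 3 → F} (hv : v ≠ 0) :
    uu x y z • pt v hv = pt v hv ↔ x * v 1 + z * v 2 = 0 ∧ y * v 2 = 0 := by
  rw [smul_pt_eq_iff (uu_pow_four x y z) hv, mv_uu]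
  constructor
  · intro h
    have h0 := congrFun h 0
    have h1 := congrFun h 1
    simp at h0 h1
    exact ⟨by linear_combination h0, mul_eq_zero.2 h1⟩
  · rintro ⟨h0, h1⟩
    ext i
    fin_cases i
    · simp; linear_combination h0
    · simp; exact mul_eq_zero.1 h1
    · simp

theorem dv_uu_pow_four (x y z : F) : (dv (uu x y z)) ^ 4 = 1 := by
  rw [← map_pow, uu_pow_four, map_one]

/-- Fixed lines of an upper unitriangular matrix. -/
theorem dv_uu_smul_eq_iff (x y z : F) {w : Fin 3 → F} (hw : w ≠ 0) :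
    dv (uu x y z) • pt w hw = pt w hw ↔ x * w 0 = 0 ∧ z * w 0 + y * w 1 = 0 := by
  rw [smul_pt_eq_iff (dv_uu_pow_four x y z) hw]
  show mv (AutPSL.invTransSL (uu x y z)) w = w ↔ _
  rw [dv_uu, mv_ll]
  constructor
  · intro h
    have h1 := congrFun h 1
    have h2 := congrFun h 2
    simp at h1 h2
    have h1' : x * w 0 = 0 := mul_eq_zero.2 h1
    exact ⟨h1', by linear_combination h2 - y * h1'⟩
  · rintro ⟨h1, h2⟩
    ext i
    fin_cases i
    · simp
    · simp; exact mul_eq_zero.1 h1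
    · simp; linear_combination h2 + y * h1

theorem eq_p0 {v : Fin 3 → F} (hv : v ≠ 0) (h1 : v 1 = 0) (h2 : v 2 = 0) : pt v hv = p0 F := by
  rw [Projectivization.mk_eq_mk_iff']
  refine ⟨v 0, ?_⟩
  ext i
  fin_cases i <;> simp [h1, h2]

theorem eq_p2 {v : Fin 3 → F} (hv : v ≠ 0) (h0 : v 0 = 0) (h1 : v 1 = 0) : pt v hv = p2 F := by
  rw [Projectivization.mk_eq_mk_iff']
  refine ⟨v 2, ?_⟩
  ext i
  fin_cases i <;> simp [h0, h1]

theorem upper_fix_p0 {t : L F} (ht : t ∈ upper F) : t • p0 F = p0 F ∧ dv t • p2 F = p2 F := by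
  obtain ⟨x, y, z, rfl⟩ := ht
  exact ⟨(uu_smul_eq_iff _ _ _ e0_ne).2 (by simp), (dv_uu_smul_eq_iff _ _ _ e2_ne).2 (by simp)⟩

/-- The only point fixed by all `uu x 0 z` is the first. -/
theorem eq_p0_of_fixed {p : Pt F} (h : ∀ x z : F, uu x 0 z • p = p) : p = p0 F := by
  induction p using Projectivization.ind with | _ v hv =>
  have h1 := ((uu_smul_eq_iff _ _ _ hv).1 (h 1 0)).1
  have h2 := ((uu_smul_eq_iff _ _ _ hv).1 (h 0 1)).1
  exact eq_p0 hv (by simpa using h1) (by simpa using h2)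

/-- The only line fixed by all `uu 0 y z` is the last. -/
theorem eq_p2_of_fixed {w : Pt F} (h : ∀ y z : F, dv (uu 0 y z) • w = w) : w = p2 F := by
  induction w using Projectivization.ind with | _ v hv =>
  have h1 := ((dv_uu_smul_eq_iff _ _ _ hv).1 (h 0 1)).2
  have h2 := ((dv_uu_smul_eq_iff _ _ _ hv).1 (h 1 0)).2
  exact eq_p2 hv (by simpa using h1) (by simpa using h2)

theorem inc_p0_p2 : inc (p0 F) (p2 F) := by
  rw [inc_mk]; simp [dotProduct, Fin.sum_univ_three]

/-- The fixed points and fixed lines of a transvection. -/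
theorem involution_axis {x y z : F} (hxy : x = 0 ∨ y = 0) (hne : x ≠ 0 ∨ y ≠ 0 ∨ z ≠ 0) :
    ∃ A C : Pt F, inc C A ∧ (∀ p, uu x y z • p = p ↔ inc p A) ∧
      ∀ w, dv (uu x y z) • w = w ↔ inc C w := by
  by_cases hy : y = 0
  · subst hy
    have hxz : x ≠ 0 ∨ z ≠ 0 := by simpa using hne
    have hA : (![0, x, z] : Fin 3 → F) ≠ 0 := by
      intro e
      rcases hxz with h | h
      · exact h (congrFun e 1)
      · exact h (congrFun e 2)
    refine ⟨pt _ hA, p0 F, ?_, fun p => ?_, fun w => ?_⟩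
    · rw [inc_mk]; simp [dotProduct, Fin.sum_univ_three]
    · induction p using Projectivization.ind with | _ v hv =>
      rw [uu_smul_eq_iff _ _ _ hv, inc_mk]
      simp [dotProduct, Fin.sum_univ_three, mul_comm]
    · induction w using Projectivization.ind with | _ v hv =>
      rw [dv_uu_smul_eq_iff _ _ _ hv, inc_mk]
      simp [dotProduct, Fin.sum_univ_three]
      rcases hxz with h | h <;> simp_all
  · obtain rfl : x = 0 := hxy.resolve_right hy
    have hC : (![z, y, 0] : Fin 3 → F) ≠ 0 := fun e => hy (congrFun e 1)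
    refine ⟨p2 F, pt _ hC, ?_, fun p => ?_, fun w => ?_⟩
    · rw [inc_mk]; simp [dotProduct, Fin.sum_univ_three]
    · induction p using Projectivization.ind with | _ v hv =>
      rw [uu_smul_eq_iff _ _ _ hv, inc_mk]
      simp [dotProduct, Fin.sum_univ_three, hy]
      intro h
      exact Or.inr h
    · induction w using Projectivization.ind with | _ v hv =>
      rw [dv_uu_smul_eq_iff _ _ _ hv, inc_mk]
      simp [dotProduct, Fin.sum_univ_three]

theorem uu_sq_ne_one_iff {x y z : F} : uu x y z ^ 2 ≠ 1 ↔ x ≠ 0 ∧ y ≠ 0 := by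
  rw [Ne, uu_sq_eq_one_iff, not_or]

/-- An element of order four fixes one point and one line. -/
theorem order_four_fixed {x y z : F} (hx : x ≠ 0) (hy : y ≠ 0) :
    (∀ p, uu x y z • p = p ↔ p = p0 F) ∧ ∀ w, dv (uu x y z) • w = w ↔ w = p2 F := by
  refine ⟨fun p => ⟨fun h => ?_, ?_⟩, fun w => ⟨fun h => ?_, ?_⟩⟩
  · induction p using Projectivization.ind with | _ v hv =>
    obtain ⟨h1, h2⟩ := (uu_smul_eq_iff _ _ _ hv).1 h
    have h2' : v 2 = 0 := (mul_eq_zero.1 h2).resolve_left hy
    refine eq_p0 hv ?_ h2'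
    rw [h2', mul_zero, add_zero] at h1
    exact (mul_eq_zero.1 h1).resolve_left hx
  · rintro rfl
    exact (upper_fix_p0 (uu_mem x y z)).1
  · induction w using Projectivization.ind with | _ v hv =>
    obtain ⟨h1, h2⟩ := (dv_uu_smul_eq_iff _ _ _ hv).1 h
    have h1' : v 0 = 0 := (mul_eq_zero.1 h1).resolve_left hx
    refine eq_p2 hv h1' ?_
    rw [h1', mul_zero, zero_add] at h2
    exact (mul_eq_zero.1 h2).resolve_left hy
  · rintro rfl
    exact (upper_fix_p0 (uu_mem x y z)).2

theorem even_card [Finite F] : Even (Nat.card F) := by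
  haveI := Fintype.ofFinite F
  obtain ⟨n, hn, h⟩ := exists_card_eq (F := F)
  rw [Nat.card_eq_fintype_card, h]
  exact Nat.even_pow.2 ⟨even_two, by omega⟩

omit [CharP F 2] in
theorem two_le_card [Finite F] : 2 ≤ Nat.card F := Finite.one_lt_card

omit [CharP F 2] in
theorem card_pt [Finite F] : Nat.card (Pt F) = Nat.card F ^ 2 + Nat.card F + 1 := by
  rw [Projectivization.card_of_finrank F (Fin 3 → F) (by simp : Module.finrank F (Fin 3 → F) = 3)]
  simp [Finset.sum_range_succ]
  ring

theorem odd_card_pt [Finite F] : Odd (Nat.card (Pt F)) := by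
  rw [card_pt]
  exact ((Nat.even_pow.2 ⟨even_card, two_ne_zero⟩).add even_card).add_one

omit [CharP F 2] in
/-- Conjugation does not change the number of fixed elements. -/
theorem card_fixed_conj {M X : Type*} [Group M] [MulAction M X] (g h : M) :
    Nat.card {d : X // (h⁻¹ * g * h) • d = d} = Nat.card {d : X // g • d = d} := by
  refine Nat.card_congr ((MulAction.toPerm h).subtypeEquiv fun d => ?_)
  show _ ↔ g • h • d = h • d
  rw [mul_smul, mul_smul, inv_smul_eq_iff]

omit [CharP F 2] in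
theorem conj_inv_pow {M : Type*} [Group M] (g h : M) (k : ℕ) : (h⁻¹ * g * h) ^ k = h⁻¹ * g ^ k * h := by
  have := conj_pow (a := h⁻¹) (b := g) (i := k)
  rwa [inv_inv] at this

/-- Reduce counting fixed elements to upper unitriangular matrices. -/
theorem fix_reduce [Finite F] {X : Type*} [MulAction (L F) X] {n m : ℕ}
    (h2 : ∀ x y z : F, (x = 0 ∨ y = 0) → (x ≠ 0 ∨ y ≠ 0 ∨ z ≠ 0) →
      Nat.card {d : X // uu x y z • d = d} = n)
    (h4 : ∀ x y z : F, x ≠ 0 → y ≠ 0 → Nat.card {d : X // uu x y z • d = d} = m) :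
    (∀ g : L F, g ≠ 1 → g ^ 2 = 1 → Nat.card {d : X // g • d = d} = n) ∧
      ∀ g : L F, g ^ 4 = 1 → g ^ 2 ≠ 1 → Nat.card {d : X // g • d = d} = m := by
  haveI := Fintype.ofFinite F
  refine ⟨fun g hg1 hg2 => ?_, fun g hg4 hg2 => ?_⟩
  · obtain ⟨h, x, y, z, e⟩ := exists_conj_mem_upper
      (show g ^ 4 = 1 by rw [show 4 = 2 * 2 from rfl, pow_mul, hg2, one_pow])
    rw [← card_fixed_conj g h, e]
    refine h2 x y z ?_ ?_
    · apply (uu_sq_eq_one_iff (z := z)).1
      rw [← e, conj_inv_pow, hg2, mul_one, inv_mul_cancel]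
    · by_contra hc
      simp only [not_or, not_not] at hc
      rw [hc.1, hc.2.1, hc.2.2, uu_zero] at e
      refine hg1 ?_
      rw [mul_assoc, inv_mul_eq_iff_eq_mul, mul_one] at e
      exact mul_eq_right.1 e
  · obtain ⟨h, x, y, z, e⟩ := exists_conj_mem_upper hg4
    rw [← card_fixed_conj g h, e]
    have hne : uu x y z ^ 2 ≠ 1 := by
      rw [← e, conj_inv_pow]
      intro h'
      exact hg2 (by simpa [mul_assoc, inv_mul_eq_iff_eq_mul] using h')
    exact h4 x y z (uu_sq_ne_one_iff.1 hne).1 (uu_sq_ne_one_iff.1 hne).2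

omit [CharP F 2] in
theorem sep_conj {X : Type*} [MulAction (L F) X] {d d' d₀ : X} {k : L F} (hk : k • d₀ = d)
    (h : ∀ g : L F, g ^ 4 = 1 → g • d = d → g • d' = d') :
    ∀ g : L F, g ^ 4 = 1 → g • d₀ = d₀ → g • (k⁻¹ • d') = k⁻¹ • d' := by
  intro g hg hgd
  have := h (k * g * k⁻¹) (conj_four k g hg) (by rw [← hk, mul_smul, mul_smul, inv_smul_smul, hgd])
  rw [mul_smul, mul_smul] at this
  exact eq_inv_smul_iff.2 this

/-! ### Points -/

theorem kind_pt [Finite F] : Kind F (Pt F) := by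
  have hfix : ∀ g : L F, g ≠ 1 → g ^ 2 = 1 → Nat.card {d : Pt F // g • d = d} = Nat.card F + 1 :=
    (fix_reduce (m := 1)
      (fun x y z hxy hne => by
        obtain ⟨A, C, -, hA, -⟩ := involution_axis hxy hne
        rw [← card_inc A]
        exact Nat.card_congr (Equiv.subtypeEquivRight hA))
      (fun x y z hx hy => by
        rw [Nat.card_congr (Equiv.subtypeEquivRight (order_four_fixed hx hy).1)]
        simp)).1
  refine ⟨exists_smul_eq_pt, fun d d' h => ?_, ⟨p0 F, fun t ht => (upper_fix_p0 ht).1⟩,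
    ⟨Nat.card F + 1, by have := two_le_card (F := F); omega, hfix⟩, ?_, odd_card_pt, Or.inl ?_⟩
  · obtain ⟨k, hk⟩ := exists_smul_eq_pt (p0 F) d
    have h' := eq_p0_of_fixed fun x z =>
      sep_conj hk h _ (uu_pow_four x 0 z) (upper_fix_p0 (uu_mem x 0 z)).1
    rw [inv_smul_eq_iff, hk] at h'
    exact h'.symm
  · exact (fix_reduce (n := Nat.card F + 1)
      (fun x y z hxy hne => by
        obtain ⟨A, C, -, hA, -⟩ := involution_axis hxy hne
        rw [← card_inc A]
        exact Nat.card_congr (Equiv.subtypeEquivRight hA))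
      (fun x y z hx hy => by
        rw [Nat.card_congr (Equiv.subtypeEquivRight (order_four_fixed hx hy).1)]
        simp)).2
  · have e1 : Nat.card {d : Pt F // ∀ x z : F, uu x 0 z • d = d} = 1 := by
      rw [Nat.card_congr (Equiv.subtypeEquivRight fun d => ⟨eq_p0_of_fixed, fun e x z =>
        e ▸ (upper_fix_p0 (uu_mem x 0 z)).1⟩ : _ ≃ {d : Pt F // d = p0 F})]
      simp
    have e2 : Nat.card {d : Pt F // ∀ y z : F, uu 0 y z • d = d} = Nat.card F + 1 := by
      rw [← card_inc (p2 F)]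
      refine Nat.card_congr (Equiv.subtypeEquivRight fun d => ?_)
      induction d using Projectivization.ind with | _ v hv =>
      simp only [uu_smul_eq_iff _ _ _ hv, inc_mk]
      simp [dotProduct, Fin.sum_univ_three]
      refine ⟨fun h => ?_, fun h => fun y z => ⟨Or.inr h, Or.inr h⟩⟩
      simpa using (h 1 1).1
    rw [e1, e2]
    have := two_le_card (F := F)
    omega

/-! ### Flags -/

/-- A flag of the plane. -/
abbrev Flag (F : Type*) [Field F] := {f : Pt F × Pt F // inc f.1 f.2}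

instance flagAction : MulAction (L F) (Flag F) where
  smul g f := ⟨(g • f.1.1, dv g • f.1.2), (inc_smul g _ _).2 f.2⟩
  one_smul f := Subtype.ext (Prod.ext (one_smul (L F) _)
    (show dv (1 : L F) • f.1.2 = f.1.2 by rw [dv, map_one, one_smul]))
  mul_smul g h f := Subtype.ext (Prod.ext (mul_smul g h _)
    (show dv (g * h) • f.1.2 = dv g • dv h • f.1.2 by simp only [dv, map_mul, mul_smul]))

omit [CharP F 2] in
theorem flag_fixed {g : L F} {f : Flag F} :
    g • f = f ↔ g • f.1.1 = f.1.1 ∧ dv g • f.1.2 = f.1.2 := by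
  rw [Subtype.ext_iff]
  exact Prod.ext_iff

/-- The standard flag. -/
abbrev f0 (F : Type*) [Field F] [CharP F 2] : Flag F := ⟨(p0 F, p2 F), inc_p0_p2⟩

omit [CharP F 2] in
theorem exists_ne_inc [Finite F] (w p : Pt F) : ∃ q, inc q w ∧ q ≠ p := by
  by_contra h
  simp only [not_exists, not_and, not_not] at h
  have hc := card_inc (F := F) w
  haveI : Subsingleton {q : Pt F // inc q w} := ⟨fun a b => Subtype.ext ((h _ a.2).trans (h _ b.2).symm)⟩
  have := two_le_card (F := F)
  have := Finite.card_le_one_iff_subsingleton.2 (inferInstance : Subsingleton {q : Pt F // inc q w})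
  omega

theorem exists_smul_flag [Finite F] (f f' : Flag F) : ∃ g : L F, g • f = f' := by
  obtain ⟨r, hr, hrne⟩ := exists_ne_inc f.1.2 f.1.1
  obtain ⟨r', hr', hrne'⟩ := exists_ne_inc f'.1.2 f'.1.1
  obtain ⟨g, h1, h2⟩ := exists_smul_pair (Ne.symm hrne) (Ne.symm hrne')
  refine ⟨g, Subtype.ext (Prod.ext h1 ?_)⟩
  refine inc_unique (Ne.symm hrne') (h1 ▸ (inc_smul g _ _).2 f.2) (h2 ▸ (inc_smul g _ _).2 hr) f'.2 hr'

omit [CharP F 2] in
theorem card_flag [Finite F] : Nat.card (Flag F) = Nat.card (Pt F) * (Nat.card F + 1) := by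
  haveI := Fintype.ofFinite (Pt F)
  rw [Nat.card_congr (Equiv.subtypeProdEquivSigmaSubtype fun p w : Pt F => inc p w), Nat.card_sigma]
  simp [card_inc', Nat.card_eq_fintype_card]

omit [CharP F 2] in
/-- Flags fixed by a transvection. -/
theorem card_flags_axis [Finite F] {A C : Pt F} (h : inc C A) :
    Nat.card {f : Flag F // inc f.1.1 A ∧ inc C f.1.2} = 2 * Nat.card F + 1 := by
  classical
  haveI := Fintype.ofFinite (Pt F)
  have e : Nat.card {f : Flag F // inc f.1.1 A ∧ inc C f.1.2} =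
      Nat.card ({w : Pt F // inc C w} ⊕ {p : Pt F // inc p A ∧ p ≠ C}) := by
    refine (Nat.card_eq_of_bijective (Sum.elim
      (fun w : {w : Pt F // inc C w} =>
        (⟨⟨(C, w.1), w.2⟩, h, w.2⟩ : {f : Flag F // inc f.1.1 A ∧ inc C f.1.2}))
      (fun p : {p : Pt F // inc p A ∧ p ≠ C} => ⟨⟨(p.1, A), p.2.1⟩, p.2.1, h⟩)) ⟨?_, ?_⟩).symm
    · rintro (w | p) (w' | p') e <;> simp only [Sum.elim_inl, Sum.elim_inr] at e <;>
        have e1 := congrArg (fun f => f.1.1.1) e <;> have e2 := congrArg (fun f => f.1.1.2) e <;>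
        simp only at e1 e2
      · rw [Subtype.ext e2]
      · exact absurd e1.symm p'.2.2
      · exact absurd e1 p.2.2
      · rw [Subtype.ext e1]
    · rintro ⟨⟨⟨p, w⟩, hpw⟩, h1, h2⟩
      by_cases hp : p = C
      · subst hp
        exact ⟨Sum.inl ⟨w, hpw⟩, rfl⟩
      · obtain rfl : w = A := inc_unique hp hpw h2 h1 h
        exact ⟨Sum.inr ⟨p, h1, hp⟩, rfl⟩
  have e2 : Nat.card {p : Pt F // inc p A ∧ p ≠ C} = Nat.card F := by
    have h1 := card_inc (F := F) A
    have : Nat.card {p : Pt F // inc p A} = Nat.card {p : Pt F // inc p A ∧ p ≠ C} + 1 := by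
      simp only [Nat.card_eq_fintype_card, Fintype.card_subtype]
      have : (Finset.univ.filter fun p => inc p A ∧ p ≠ C) = (Finset.univ.filter fun p => inc p A).erase C := by
        ext p; simp [and_comm]
      rw [this, Finset.card_erase_add_one (by simpa using h)]
    omega
  rw [e, Nat.card_sum, card_inc', e2]
  ring

/-- A flag fixed by the central involution is on the standard point or the standard line. -/
theorem flag_zfix [Finite F] {c : F} (hc : c ≠ 0) {f : Flag F} (h : uu 0 0 c • f = f) :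
    f.1.1 = p0 F ∨ f.1.2 = p2 F := by
  obtain ⟨⟨p, w⟩, hpw⟩ := f
  rw [flag_fixed] at h
  induction p using Projectivization.ind with | _ v hv =>
  induction w using Projectivization.ind with | _ u hu =>
  rw [uu_smul_eq_iff _ _ _ hv, dv_uu_smul_eq_iff _ _ _ hu] at h
  have hv2 : v 2 = 0 := by simpa [hc] using h.1.1
  have hu0 : u 0 = 0 := by simpa [hc] using h.2.2
  rw [inc_mk] at hpw
  simp [dotProduct, Fin.sum_univ_three, hv2, hu0] at hpw
  rcases hpw with h1 | h1
  · exact Or.inl (eq_p0 hv h1 hv2)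
  · exact Or.inr (eq_p2 hu hu0 h1)

theorem fix_of_point {x z : F} {f : Flag F} (h : f.1.1 = p0 F) : uu x 0 z • f = f := by
  obtain ⟨⟨p, w⟩, hpw⟩ := f
  simp only at h
  subst h
  refine flag_fixed.2 ⟨(upper_fix_p0 (uu_mem _ _ _)).1, ?_⟩
  induction w using Projectivization.ind with | _ u hu =>
  rw [inc_mk] at hpw
  simp [dotProduct, Fin.sum_univ_three] at hpw
  exact (dv_uu_smul_eq_iff _ _ _ hu).2 (by simp [hpw])

theorem fix_of_line {y z : F} {f : Flag F} (h : f.1.2 = p2 F) : uu 0 y z • f = f := by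
  obtain ⟨⟨p, w⟩, hpw⟩ := f
  simp only at h
  subst h
  refine flag_fixed.2 ⟨?_, (upper_fix_p0 (uu_mem _ _ _)).2⟩
  induction p using Projectivization.ind with | _ u hu =>
  rw [inc_mk] at hpw
  simp [dotProduct, Fin.sum_univ_three] at hpw
  exact (uu_smul_eq_iff _ _ _ hu).2 (by simp [hpw])

theorem kind_flag [Finite F] : Kind F (Flag F) := by
  have hq := two_le_card (F := F)
  obtain ⟨hfix2, hfix4⟩ := fix_reduce (F := F) (X := Flag F) (n := 2 * Nat.card F + 1) (m := 1)
    (fun (x y z : F) hxy hne => by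
      obtain ⟨A, C, hCA, hA, hC⟩ := involution_axis hxy hne
      rw [← card_flags_axis hCA]
      exact Nat.card_congr (Equiv.subtypeEquivRight fun f => by rw [flag_fixed, hA, hC]))
    (fun (x y z : F) hx hy => by
      have e : ∀ f : Flag F, uu x y z • f = f ↔ f = f0 F := fun f => by
        rw [flag_fixed, (order_four_fixed hx hy).1, (order_four_fixed hx hy).2, Subtype.ext_iff]
        exact ⟨fun h => Prod.ext h.1 h.2, fun h => ⟨congrArg Prod.fst h, congrArg Prod.snd h⟩⟩
      rw [Nat.card_congr (Equiv.subtypeEquivRight e)]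
      simp)
  refine ⟨exists_smul_flag, fun d d' h => ?_, ⟨f0 F, fun t ht => flag_fixed.2 (upper_fix_p0 ht)⟩,
    ⟨_, by omega, hfix2⟩, hfix4, ?_, Or.inr ⟨?_, ?_, ?_⟩⟩
  · obtain ⟨k, hk⟩ := exists_smul_flag (f0 F) d
    have h' : k⁻¹ • d' = f0 F := by
      have := fun x y z : F => flag_fixed.1 (sep_conj hk h _ (uu_pow_four x y z)
        (flag_fixed.2 (upper_fix_p0 (uu_mem x y z))))
      exact Subtype.ext (Prod.ext (eq_p0_of_fixed fun x z => (this x 0 z).1)
        (eq_p2_of_fixed fun y z => (this 0 y z).2))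
    rw [inv_smul_eq_iff, hk] at h'
    exact h'.symm
  · rw [card_flag]
    exact odd_card_pt.mul even_card.add_one
  · intro x z c _ _
    have e : 2 ≤ Nat.card {w : Pt F // inc (p0 F) w} := by rw [card_inc']; omega
    refine e.trans (Nat.card_le_card_of_injective
      (fun w => (⟨⟨(p0 F, w.1), w.2⟩, fix_of_point rfl, fix_of_point (x := 0) rfl⟩ :
        {d : Flag F // uu x 0 z • d = d ∧ uu 0 0 c • d = d})) fun a b e => ?_)
    exact Subtype.ext (congrArg (fun f => f.1.1.2) e :)
  · intro y z c _ _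
    have e : 2 ≤ Nat.card {p : Pt F // inc p (p2 F)} := by rw [card_inc]; omega
    refine e.trans (Nat.card_le_card_of_injective
      (fun p => (⟨⟨(p.1, p2 F), p.2⟩, fix_of_line rfl, fix_of_line (y := 0) rfl⟩ :
        {d : Flag F // uu 0 y z • d = d ∧ uu 0 0 c • d = d})) fun a b e => ?_)
    exact Subtype.ext (congrArg (fun f => f.1.1.1) e :)
  · intro c d hc hd
    rcases flag_zfix hc hd with h | h
    · exact Or.inl fun x z => fix_of_point h
    · exact Or.inr fun y z => fix_of_line h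

end CfsgLib.PlaneStab
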