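import Cfsg.Agent.PlaneStab.Translations

/-!
# The affine case: `SL(3, q)` acts linearly on the translations
-/

set_option autoImplicit false

open Matrix

namespace CfsgLib.PlaneStab

variable {F : Type*} [Field F] [CharP F 2] [Finite F]

omit [Finite F] in
/-- The commutator relations of the elementary transvections. -/
theorem root_relations (s t : F) :
    uu 0 0 (s * t) = uu s 0 0 * uu 0 t 0 * (uu s 0 0 * uu 0 t 0) ∧
    uu (s * t) 0 0 = uu 0 0 s * ll 0 t 0 * (uu 0 0 s * ll 0 t 0) ∧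
    uu 0 (s * t) 0 = ll s 0 0 * uu 0 0 t * (ll s 0 0 * uu 0 0 t) := by
  refine ⟨?_, ?_, ?_⟩ <;>
  · apply Subtype.ext
    simp only [Matrix.SpecialLinearGroup.coe_mul, uu_coe, ll_coe]
    ext i j
    fin_cases i <;> fin_cases j <;>
      simp [Matrix.mul_apply, Fin.sum_univ_three] <;> grind

variable {G Ω : Type*} [Group G] [MulAction G Ω]
  [Finite G] [Finite Ω] [FaithfulSMul G Ω] {φ : Ω → L F →* G} {u : ℕ}

namespace Geo

/-- The translations in a direction at `a`. -/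
noncomputable def dirT (hG : Geo φ (Pt F) u) (a : Ω) (d : Pt F) : Subgroup G :=
  hG.translations (lin φ a (hG.exists_dir a d).choose)

variable (hG : Geo φ (Pt F) u) (hu : u + 1 = Nat.card F)
include hG hu

theorem dirT_spec (a : Ω) (d : Pt F) :
    IsLn φ (lin φ a (hG.exists_dir a d).choose) ∧
      ∀ z, z ≠ a → (z ∈ lin φ a (hG.exists_dir a d).choose ↔ hG.dirOf a z = d) := by
  obtain ⟨hy, hyd⟩ := (hG.exists_dir a d).choose_spec
  refine ⟨⟨a, _, hy, rfl⟩, fun z hz => ?_⟩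
  rw [hG.mem_lin hy, hyd]
  simp [hz]

theorem dirT_le (a : Ω) (d : Pt F) : hG.dirT a d ≤ hG.allTranslations := fun _ ht =>
  Subgroup.subset_closure ⟨_, (hG.dirT_spec hu a d).1, ht⟩

theorem card_dirT (a : Ω) (d : Pt F) : Nat.card (hG.dirT a d) = Nat.card F :=
  (hG.mem_translations hu (hG.dirT_spec hu a d).1).1

theorem eq_of_smul_eq_base [Nonempty Ω] {a : Ω} {r s : G} (hr : r ∈ hG.allTranslations)
    (hs : s ∈ hG.allTranslations) (e : r • a = s • a) : r = s := by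
  obtain ⟨-, -, -, -, -, hfree⟩ := hG.allTranslations_spec hu
  exact inv_mul_eq_one.1 (hfree (r⁻¹ * s) (mul_mem (inv_mem hr) hs) a
    (by rw [mul_smul, inv_smul_eq_iff]; exact e.symm))

theorem dir_of_dirT [Nonempty Ω] {a : Ω} {d : Pt F} {r : G} (hr : r ∈ hG.dirT a d) (hr1 : r ≠ 1) :
    r • a ≠ a ∧ hG.dirOf a (r • a) = d := by
  obtain ⟨hl, hmem⟩ := hG.dirT_spec hu a d
  have h1 : r • a ≠ a := by
    intro e
    exact hr1 (hG.eq_of_smul_eq_base hu (hG.dirT_le hu a d hr) (one_mem _) (e.trans (one_smul G a).symm))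
  exact ⟨h1, (hmem _ h1).1 (hG.classGroup_par hu (hG.par_refl hl)
    (((hG.mem_translations hu hl).2 r).1 hr).1 (hG.left_mem a _))⟩

theorem exists_dirT (a : Ω) {d : Pt F} {z : Ω} (hz : z ≠ a) (hd : hG.dirOf a z = d) :
    ∃ r ∈ hG.dirT a d, r • a = z :=
  hG.translations_transitive hu (hG.dirT_spec hu a d).1 (hG.left_mem a _)
    (((hG.dirT_spec hu a d).2 z hz).2 hd)

theorem dirT_conj (a : Ω) {d : Pt F} {r : G} (hr : r ∈ hG.dirT a d) (g : L F) :
    φ a g * r * (φ a g)⁻¹ ∈ hG.dirT a (g • d) := by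
  obtain ⟨hl, -⟩ := hG.dirT_spec hu a d
  obtain ⟨hl', hmem'⟩ := hG.dirT_spec hu a (g • d)
  have h := hG.translations_smul hu hl (φ a g) hr
  obtain ⟨hy, hyd⟩ := (hG.exists_dir a d).choose_spec
  have hne : φ a g • (hG.exists_dir a d).choose ≠ a := smul_ne_self (hG.plane.fix a g) hy
  have himg : (φ a g • ·) '' lin φ a (hG.exists_dir a d).choose = lin φ a (hG.exists_dir a (g • d)).choose := by
    refine hG.ln_eq_of_two (hG.ln_smul hl _) hl' hne ⟨a, hG.left_mem _ _, hG.plane.fix a g⟩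
      ⟨_, right_mem _ _, rfl⟩ (hG.left_mem _ _) ((hmem' _ hne).2 ?_)
    rw [hG.dir_smul hy, hyd]
  rw [himg] at h
  exact h

theorem fix_dirT [Nonempty Ω] (a : Ω) {d : Pt F} {g : L F} (hg : g ^ 4 = 1) (hgd : g • d = d) {r : G}
    (hr : r ∈ hG.dirT a d) : φ a g * r * (φ a g)⁻¹ = r := by
  rcases eq_or_ne r 1 with rfl | hr1
  · group
  obtain ⟨h1, h2⟩ := hG.dir_of_dirT hu hr hr1
  refine hG.eq_of_smul_eq_base hu (hG.dirT_le hu a _ (hG.dirT_conj hu a hr g))
    (hG.dirT_le hu a d hr) (a := a) ?_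
  rw [mul_smul, mul_smul, ← map_inv, hG.plane.fix, (hG.dir_iff h1 hg).2 (by rw [h2, hgd])]

/-- The map `r ↦ [g, r]`. -/
def dd (_ : Geo φ (Pt F) u) (a : Ω) (g : L F) (r : G) : G := φ a g * r * (φ a g)⁻¹ * r

theorem dd_mem [Nonempty Ω] (a : Ω) {g : L F} (hg : g ^ 2 = 1) {di dj w : Pt F}
    (hi : inc di w) (hj : inc dj w) (hw : dv g • w = w) (hgi : g • di = di)
    (honly : ∀ p, inc p w → g • p = p → p = di) {r : G} (hr : r ∈ hG.dirT a dj) :
    hG.dd a g r ∈ hG.dirT a di := by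
  obtain ⟨-, -, hsq, hcomm, -, -⟩ := hG.allTranslations_spec hu
  rcases eq_or_ne r 1 with rfl | hr1
  · simp [dd]
  have hg4 : g ^ 4 = 1 := by rw [show 4 = 2 * 2 from rfl, pow_mul, hg, one_pow]
  obtain ⟨h1, h2⟩ := hG.dir_of_dirT hu hr hr1
  set r' := φ a g * r * (φ a g)⁻¹ with hr'
  have hr'T : r' ∈ hG.dirT a (g • dj) := hG.dirT_conj hu a hr g
  have hrE := hG.dirT_le hu a dj hr
  have hr'E := hG.dirT_le hu a _ hr'T
  have hyS : r • a ∈ hG.pl a w := (hG.mem_pl h1).2 (h2 ▸ hj)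
  have hzS : (r' * r) • a ∈ hG.pl a w := by
    obtain ⟨hl, -⟩ := hG.dirT_spec hu a (g • dj)
    obtain ⟨n, hn, hyn⟩ := hG.exists_par hu hl (r • a)
    have hlS : lin φ a (hG.exists_dir a (g • dj)).choose ⊆ hG.pl a w := by
      obtain ⟨hy', hyd'⟩ := (hG.exists_dir a (g • dj)).choose_spec
      refine IsPl.lin_subset hG ⟨a, w, rfl⟩ (hG.self_mem_pl _ _) ((hG.mem_pl hy').2 ?_) hy'
      rw [hyd', ← hw]
      exact (inc_smul g _ _).2 hj
    rw [mul_smul]
    exact hG.par_subset_pl hu hn ⟨a, w, rfl⟩ hlS hyn hyS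
      (hG.classGroup_par hu hn (((hG.mem_translations hu hl).2 r').1 hr'T).1 hyn)
  have hinv : φ a g * r' * (φ a g)⁻¹ = r := by
    have h2 : φ a g * φ a g = 1 := by rw [← map_mul, ← pow_two, hg, map_one]
    rw [hr', show φ a g * (φ a g * r * (φ a g)⁻¹) * (φ a g)⁻¹ = φ a g * φ a g * r * (φ a g * φ a g)⁻¹ by group,
      h2, inv_one, one_mul, mul_one]
  have hfix : φ a g * (r' * r) * (φ a g)⁻¹ = r' * r := by
    rw [show φ a g * (r' * r) * (φ a g)⁻¹ = φ a g * r' * (φ a g)⁻¹ * (φ a g * r * (φ a g)⁻¹) by group,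
      hinv, ← hr']
    exact (hcomm _ hrE _ hr'E).eq
  show r' * r ∈ _
  rcases eq_or_ne ((r' * r) • a) a with e | e
  · rw [hG.eq_of_smul_eq_base hu (mul_mem hr'E hrE) (one_mem _) (e.trans (one_smul G a).symm)]
    exact one_mem _
  · have hgz : φ a g • ((r' * r) • a) = (r' * r) • a := by
      have := congrArg (· • a) hfix
      simpa [mul_smul, inv_smul_eq_iff.2 (hG.plane.fix a g).symm] using this
    obtain ⟨t, ht, et⟩ := hG.exists_dirT hu a e
      (honly _ ((hG.mem_pl e).1 hzS) ((hG.dir_iff e hg4).1 hgz))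
    rw [← hG.eq_of_smul_eq_base hu (hG.dirT_le hu a di ht) (mul_mem hr'E hrE) et]
    exact ht

theorem dd_mul [Nonempty Ω] (a : Ω) (g : L F) {r s : G} (hr : r ∈ hG.allTranslations)
    (hs : s ∈ hG.allTranslations) : hG.dd a g (r * s) = hG.dd a g r * hG.dd a g s := by
  obtain ⟨hnorm, -, hsq, hcomm, -, -⟩ := hG.allTranslations_spec hu
  have hs' : φ a g * s * (φ a g)⁻¹ ∈ hG.allTranslations := hnorm.conj_mem s hs _
  simp only [dd]
  rw [show φ a g * r * (φ a g)⁻¹ * r * (φ a g * s * (φ a g)⁻¹ * s) =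
      φ a g * r * (φ a g)⁻¹ * (r * (φ a g * s * (φ a g)⁻¹)) * s by group, (hcomm r hr _ hs').eq]
  group

/-- A translation moved by `g` is determined by its commutator. -/
theorem dd_inj [Nonempty Ω] (a : Ω) {g : L F} (hg : g ^ 4 = 1) {d : Pt F} (hgd : g • d ≠ d) {r s : G}
    (hr : r ∈ hG.dirT a d) (hs : s ∈ hG.dirT a d) (e : hG.dd a g r = hG.dd a g s) : r = s := by
  obtain ⟨hnorm, -, hsq, hcomm, -, -⟩ := hG.allTranslations_spec hu
  have hrE := hG.dirT_le hu a d hr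
  have hsE := hG.dirT_le hu a d hs
  by_contra hne
  have hne' : r * s ≠ 1 := fun h => hne
    ((eq_inv_of_mul_eq_one_left h).trans (inv_eq_of_mul_eq_one_right (hsq s hsE)))
  obtain ⟨h1, h2⟩ := hG.dir_of_dirT hu (mul_mem hr hs) hne'
  have hd : hG.dd a g (r * s) = 1 := by
    rw [hG.dd_mul hu a g hrE hsE, ← e]
    exact hsq _ (mul_mem (hnorm.conj_mem r hrE _) hrE)
  have hfix : φ a g * (r * s) * (φ a g)⁻¹ = r * s :=
    (mul_eq_one_iff_eq_inv.1 hd).trans (eq_inv_of_mul_eq_one_left (hsq _ (mul_mem hrE hsE))).symm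
  have hgz : φ a g • ((r * s) • a) = (r * s) • a := by
    have := congrArg (· • a) hfix
    simpa [mul_smul, inv_smul_eq_iff.2 (hG.plane.fix a g).symm] using this
  have := (hG.dir_iff h1 hg).1 hgz
  rw [h2] at this
  exact hgd this

theorem dd_add [Nonempty Ω] (a : Ω) {g g' : L F} {di : Pt F} (hg : g ^ 4 = 1) (hgi : g • di = di) {r : G}
    (hr : r ∈ hG.allTranslations) (hd' : hG.dd a g' r ∈ hG.dirT a di) :
    hG.dd a (g * g') r = hG.dd a g r * hG.dd a g' r := by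
  obtain ⟨hnorm, -, hsq, hcomm, -, -⟩ := hG.allTranslations_spec hu
  have e := hG.fix_dirT hu a hg hgi hd'
  have h1 : φ a g * r * (φ a g)⁻¹ ∈ hG.allTranslations := hnorm.conj_mem r hr _
  have h2 : φ a g' * r * (φ a g')⁻¹ = hG.dd a g' r * r := by rw [dd, mul_assoc _ r r, hsq r hr, mul_one]
  have h3 : φ a (g * g') * r * (φ a (g * g'))⁻¹ =
      φ a g * (φ a g' * r * (φ a g')⁻¹) * (φ a g)⁻¹ := by rw [map_mul]; group
  show φ a (g * g') * r * (φ a (g * g'))⁻¹ * r = _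
  rw [h3, h2, show φ a g * (hG.dd a g' r * r) * (φ a g)⁻¹ =
    φ a g * hG.dd a g' r * (φ a g)⁻¹ * (φ a g * r * (φ a g)⁻¹) by group, e,
    (hcomm _ (hG.dirT_le hu a di hd') _ h1).eq]
  show _ = φ a g * r * (φ a g)⁻¹ * r * hG.dd a g' r
  rw [mul_assoc, mul_assoc _ r (hG.dd a g' r), (hcomm r hr _ (hG.dirT_le hu a di hd')).eq]

/-- The commutator of two commutator maps. -/
theorem dd_comp [Nonempty Ω] (a : Ω) {g h : L F} {di dm dn : Pt F} (hg : g ^ 4 = 1) (hh : h ^ 4 = 1)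
    (hgi : g • di = di) (hgn : g • dn = dn) (hhi : h • di = di) (hhm : h • dm = dm) {r : G}
    (hr : r ∈ hG.dirT a dn) (hB : hG.dd a h r ∈ hG.dirT a dm)
    (hAB : hG.dd a g (hG.dd a h r) ∈ hG.dirT a di) :
    hG.dd a (g * h * (g * h)) r = hG.dd a g (hG.dd a h r) := by
  obtain ⟨hnorm, -, hsq, hcomm, -, -⟩ := hG.allTranslations_spec hu
  set B := hG.dd a h r with hBdef
  set A := hG.dd a g B with hAdef
  have hrE := hG.dirT_le hu a _ hr
  have hBE := hG.dirT_le hu a _ hB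
  have hAE := hG.dirT_le hu a _ hAB
  have c1 : φ a h * r * (φ a h)⁻¹ = B * r := by rw [hBdef, dd, mul_assoc _ r r, hsq r hrE, mul_one]
  have c2 : φ a g * B * (φ a g)⁻¹ = A * B := by rw [hAdef, dd, mul_assoc _ B B, hsq B hBE, mul_one]
  have c3 := hG.fix_dirT hu a hg hgn hr
  have c4 := hG.fix_dirT hu a hh hhm hB
  have c5 := hG.fix_dirT hu a hh hhi hAB
  have c6 := hG.fix_dirT hu a hg hgi hAB
  have key : φ a (g * h * (g * h)) * r * (φ a (g * h * (g * h)))⁻¹ = A * r := by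
    calc φ a (g * h * (g * h)) * r * (φ a (g * h * (g * h)))⁻¹
        = φ a g * (φ a h * (φ a g * (φ a h * r * (φ a h)⁻¹) * (φ a g)⁻¹) * (φ a h)⁻¹) * (φ a g)⁻¹ := by
          simp only [map_mul]; group
      _ = φ a g * (φ a h * (A * B * r) * (φ a h)⁻¹) * (φ a g)⁻¹ := by
          rw [c1, show φ a g * (B * r) * (φ a g)⁻¹ = φ a g * B * (φ a g)⁻¹ * (φ a g * r * (φ a g)⁻¹) by group,
            c2, c3]
      _ = φ a g * (A * B * (B * r)) * (φ a g)⁻¹ := by
          rw [show φ a h * (A * B * r) * (φ a h)⁻¹ = φ a h * A * (φ a h)⁻¹ * (φ a h * B * (φ a h)⁻¹) *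
            (φ a h * r * (φ a h)⁻¹) by group, c5, c4, c1]
      _ = φ a g * (A * r) * (φ a g)⁻¹ := by
          rw [mul_assoc A B, ← mul_assoc B B r, hsq B hBE, one_mul]
      _ = A * r := by
          rw [show φ a g * (A * r) * (φ a g)⁻¹ = φ a g * A * (φ a g)⁻¹ * (φ a g * r * (φ a g)⁻¹) by group,
            c6, c3]
  show φ a (g * h * (g * h)) * r * (φ a (g * h * (g * h)))⁻¹ * r = A
  rw [key, mul_assoc, hsq r hrE, mul_one]

omit hG hu in
/-- The second coordinate point. -/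
abbrev p1 (F : Type*) [Field F] : Pt F := pt ![0, 1, 0] e1_ne

/-- **Linearity**: the kernel of `φ a` is trivial and `N_a` is transitive on the other points. -/
theorem linear [Nonempty Ω] (a : Ω) :
    (φ a).ker = ⊥ ∧ ∀ x y : Ω, x ≠ a → y ≠ a → ∃ g : L F, φ a g • x = y := by
  classical
  obtain ⟨hnorm, hcard, hsq, hcomm, htr, -⟩ := hG.allTranslations_spec hu
  set E := hG.allTranslations with hE
  set T0 := hG.dirT a (p0 F) with hT0
  set T1 := hG.dirT a (p1 F) with hT1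
  set T2 := hG.dirT a (p2 F) with hT2
  set w01 : Pt F := pt ![0, 0, 1] e2_ne
  set w02 : Pt F := pt ![0, 1, 0] e1_ne
  set w12 : Pt F := pt ![1, 0, 0] e0_ne
  have fixiff : ∀ {g : L F} {v : Fin 3 → F} (hv : v ≠ 0), g ^ 4 = 1 →
      (g • pt v hv = pt v hv ↔ mv g v = v) := fun hv hg => smul_pt_eq_iff hg hv
  have ll4 : ∀ x y : F, x = 0 ∨ y = 0 → (ll x y 0 : L F) ^ 2 = 1 := by
    intro x y h
    rw [pow_two, ll_mul, ← ll_zero]
    rcases h with rfl | rfl <;> congr 1 <;> simp [CharTwo.add_self_eq_zero]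
  have ll4' : ∀ x y : F, x = 0 ∨ y = 0 → (ll x y 0 : L F) ^ 4 = 1 := fun x y h => by
    rw [show 4 = 2 * 2 from rfl, pow_mul, ll4 x y h, one_pow]
  have u2 : ∀ x y z : F, x = 0 ∨ y = 0 → (uu x y z : L F) ^ 2 = 1 := fun x y z h => uu_sq_eq_one_iff.2 h
  -- the six commutator maps
  have mA : ∀ x {r}, r ∈ T1 → hG.dd a (uu x 0 0) r ∈ T0 := by
    intro x r hr
    by_cases hx : x = 0
    · subst hx
      rw [uu_zero, dd, map_one, one_mul, inv_one, mul_one, hsq r (hG.dirT_le hu a _ hr)]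
      exact one_mem _
    refine hG.dd_mem hu a (u2 _ _ _ (Or.inr rfl)) (w := w01) ?_ ?_ ?_ ?_ ?_ hr
    · simp [w01, inc_mk, dotProduct, Fin.sum_univ_three]
    · simp [w01, p1, inc_mk, dotProduct, Fin.sum_univ_three]
    · exact (upper_fix_p0 (uu_mem _ _ _)).2
    · exact (upper_fix_p0 (uu_mem _ _ _)).1
    · intro p
      induction p using Projectivization.ind with | _ v hv =>
      intro hp hg
      rw [fixiff hv (uu_pow_four _ _ _), mv_uu] at hg
      simp [w01, inc_mk, dotProduct, Fin.sum_univ_three] at hp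
      have := congrFun hg 0
      simp [hp] at this
      exact eq_p0 hv (this.resolve_left hx) hp
  have mB : ∀ y {r}, r ∈ T2 → hG.dd a (uu 0 y 0) r ∈ T1 := by
    intro y r hr
    by_cases hx : y = 0
    · subst hx
      rw [uu_zero, dd, map_one, one_mul, inv_one, mul_one, hsq r (hG.dirT_le hu a _ hr)]
      exact one_mem _
    refine hG.dd_mem hu a (u2 _ _ _ (Or.inl rfl)) (w := w12) ?_ ?_ ?_ ?_ ?_ hr
    · simp [w12, p1, inc_mk, dotProduct, Fin.sum_univ_three]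
    · simp [w12, inc_mk, dotProduct, Fin.sum_univ_three]
    · exact (dv_uu_smul_eq_iff _ _ _ e0_ne).2 (by simp)
    · exact (uu_smul_eq_iff _ _ _ e1_ne).2 (by simp)
    · intro p
      induction p using Projectivization.ind with | _ v hv =>
      intro hp hg
      rw [uu_smul_eq_iff _ _ _ hv] at hg
      simp [w12, inc_mk, dotProduct, Fin.sum_univ_three] at hp
      simp [hx] at hg
      rw [Projectivization.mk_eq_mk_iff']
      exact ⟨v 1, by ext i; fin_cases i <;> simp [hp, hg]⟩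
  have mC : ∀ z {r}, r ∈ T2 → hG.dd a (uu 0 0 z) r ∈ T0 := by
    intro z r hr
    by_cases hx : z = 0
    · subst hx
      rw [uu_zero, dd, map_one, one_mul, inv_one, mul_one, hsq r (hG.dirT_le hu a _ hr)]
      exact one_mem _
    refine hG.dd_mem hu a (u2 _ _ _ (Or.inl rfl)) (w := w02) ?_ ?_ ?_ ?_ ?_ hr
    · simp [w02, inc_mk, dotProduct, Fin.sum_univ_three]
    · simp [w02, inc_mk, dotProduct, Fin.sum_univ_three]
    · exact (dv_uu_smul_eq_iff _ _ _ e1_ne).2 (by simp)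
    · exact (upper_fix_p0 (uu_mem _ _ _)).1
    · intro p
      induction p using Projectivization.ind with | _ v hv =>
      intro hp hg
      rw [uu_smul_eq_iff _ _ _ hv] at hg
      simp [w02, inc_mk, dotProduct, Fin.sum_univ_three] at hp
      simp [hx] at hg
      exact eq_p0 hv hp hg
  have mD : ∀ x {r}, r ∈ T0 → hG.dd a (ll x 0 0) r ∈ T1 := by
    intro x r hr
    by_cases hx : x = 0
    · subst hx
      rw [ll_zero, dd, map_one, one_mul, inv_one, mul_one, hsq r (hG.dirT_le hu a _ hr)]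
      exact one_mem _
    refine hG.dd_mem hu a (ll4 x 0 (Or.inr rfl)) (w := w01) ?_ ?_ ?_ ?_ ?_ hr
    · simp [w01, p1, inc_mk, dotProduct, Fin.sum_univ_three]
    · simp [w01, inc_mk, dotProduct, Fin.sum_univ_three]
    · rw [show dv (ll x 0 0 : L F) = uu x 0 0 by
        rw [show (ll x 0 0 : L F) = dv (uu x 0 0) by rw [dv, dv_uu, mul_zero, add_zero], dv_dv]]
      exact (uu_smul_eq_iff _ _ _ e2_ne).2 (by simp)
    · rw [fixiff e1_ne (ll4' x 0 (Or.inr rfl)), mv_ll]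
      ext i; fin_cases i <;> simp
    · intro p
      induction p using Projectivization.ind with | _ v hv =>
      intro hp hg
      rw [fixiff hv (ll4' x 0 (Or.inr rfl)), mv_ll] at hg
      simp [w01, inc_mk, dotProduct, Fin.sum_univ_three] at hp
      have := congrFun hg 1
      simp [hx] at this
      rw [Projectivization.mk_eq_mk_iff']
      exact ⟨v 1, by ext i; fin_cases i <;> simp [hp, this]⟩
  have mE : ∀ y {r}, r ∈ T1 → hG.dd a (ll 0 y 0) r ∈ T2 := by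
    intro y r hr
    by_cases hx : y = 0
    · subst hx
      rw [ll_zero, dd, map_one, one_mul, inv_one, mul_one, hsq r (hG.dirT_le hu a _ hr)]
      exact one_mem _
    refine hG.dd_mem hu a (ll4 0 y (Or.inl rfl)) (w := w12) ?_ ?_ ?_ ?_ ?_ hr
    · simp [w12, inc_mk, dotProduct, Fin.sum_univ_three]
    · simp [w12, p1, inc_mk, dotProduct, Fin.sum_univ_three]
    · rw [show dv (ll 0 y 0 : L F) = uu 0 y 0 by
        rw [show (ll 0 y 0 : L F) = dv (uu 0 y 0) by rw [dv, dv_uu, zero_mul, add_zero], dv_dv]]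
      exact (uu_smul_eq_iff _ _ _ e0_ne).2 (by simp)
    · rw [fixiff e2_ne (ll4' 0 y (Or.inl rfl)), mv_ll]
      ext i; fin_cases i <;> simp
    · intro p
      induction p using Projectivization.ind with | _ v hv =>
      intro hp hg
      rw [fixiff hv (ll4' 0 y (Or.inl rfl)), mv_ll] at hg
      simp [w12, inc_mk, dotProduct, Fin.sum_univ_three] at hp
      have := congrFun hg 2
      simp [hx] at this
      exact eq_p2 hv hp this
  -- fixed coordinate points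
  have u0 : ∀ x y z : F, uu x y z • p0 F = p0 F := fun x y z => (upper_fix_p0 (uu_mem x y z)).1
  have u1 : ∀ y z : F, uu 0 y z • p1 F = p1 F := fun y z => (uu_smul_eq_iff _ _ _ e1_ne).2 (by simp)
  have u2' : ∀ x : F, uu x 0 0 • p2 F = p2 F := fun x => (uu_smul_eq_iff _ _ _ e2_ne).2 (by simp)
  have l0 : ∀ y : F, ll 0 y 0 • p0 F = p0 F := fun y => by
    rw [fixiff e0_ne (ll4' 0 y (Or.inl rfl)), mv_ll]; ext i; fin_cases i <;> simp
  have l1 : ∀ x : F, ll x 0 0 • p1 F = p1 F := fun x => by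
    rw [fixiff e1_ne (ll4' x 0 (Or.inr rfl)), mv_ll]; ext i; fin_cases i <;> simp
  have l2 : ∀ x y : F, x = 0 ∨ y = 0 → ll x y 0 • p2 F = p2 F := fun x y h => by
    rw [fixiff e2_ne (ll4' x y h), mv_ll]; ext i; fin_cases i <;> simp
  have relAB : ∀ s t {r}, r ∈ T2 →
      hG.dd a (uu 0 0 (s * t)) r = hG.dd a (uu s 0 0) (hG.dd a (uu 0 t 0) r) := fun s t r hr => by
    rw [(root_relations s t).1]
    exact hG.dd_comp hu a (uu_pow_four _ _ _) (uu_pow_four _ _ _) (u0 _ _ _) (u2' s) (u0 _ _ _) (u1 t 0)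
      hr (mB t hr) (mA s (mB t hr))
  have relCE : ∀ s t {r}, r ∈ T1 →
      hG.dd a (uu (s * t) 0 0) r = hG.dd a (uu 0 0 s) (hG.dd a (ll 0 t 0) r) := fun s t r hr => by
    rw [(root_relations s t).2.1]
    exact hG.dd_comp hu a (uu_pow_four _ _ _) (ll4' 0 t (Or.inl rfl)) (u0 _ _ _) (u1 0 s) (l0 t)
      (l2 0 t (Or.inl rfl)) hr (mE t hr) (mC s (mE t hr))
  have relDC : ∀ s t {r}, r ∈ T2 →
      hG.dd a (uu 0 (s * t) 0) r = hG.dd a (ll s 0 0) (hG.dd a (uu 0 0 t) r) := fun s t r hr => by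
    rw [(root_relations s t).2.2]
    exact hG.dd_comp hu a (ll4' s 0 (Or.inr rfl)) (uu_pow_four _ _ _) (l1 s) (l2 s 0 (Or.inr rfl)) (u1 0 t)
      (u0 _ _ _) hr (mC t hr) (mD s (mC t hr))
  obtain ⟨z₂, hz₂, hz₂d⟩ := hG.exists_dir a (p2 F)
  obtain ⟨t₃, ht₃, et₃⟩ := hG.exists_dirT hu a hz₂ hz₂d
  have ht₃1 : t₃ ≠ 1 := fun e => hz₂ (by rw [← et₃, e, one_smul])
  let f1 : F → G := fun s => hG.dd a (uu 0 0 s) t₃
  let f2 : F → G := fun s => hG.dd a (uu 0 s 0) t₃
  let f3 : F → G := fun s => hG.dd a (ll 0 s 0) (f2 1)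
  have m1 : ∀ s, f1 s ∈ T0 := fun s => mC s ht₃
  have m2 : ∀ s, f2 s ∈ T1 := fun s => mB s ht₃
  have m3 : ∀ s, f3 s ∈ T2 := fun s => mE s (m2 1)
  have eA : ∀ s t, hG.dd a (uu s 0 0) (f2 t) = f1 (s * t) := fun s t => (relAB s t ht₃).symm
  have eD : ∀ s t, hG.dd a (ll s 0 0) (f1 t) = f2 (s * t) := fun s t => (relDC s t ht₃).symm
  have eC : ∀ s t, hG.dd a (uu 0 0 s) (f3 t) = f1 (s * t) := fun s t => by
    show hG.dd a (uu 0 0 s) (hG.dd a (ll 0 t 0) (f2 1)) = _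
    rw [← relCE s t (m2 1), eA, mul_one]
  have neA : uu (1 : F) 0 0 • p1 F ≠ p1 F := fun e => by
    simpa using ((uu_smul_eq_iff _ _ _ e1_ne).1 e).1
  have neC : uu (0 : F) 0 1 • p2 F ≠ p2 F := fun e => by
    simpa using ((uu_smul_eq_iff _ _ _ e2_ne).1 e).1
  have eB : ∀ s t, hG.dd a (uu 0 s 0) (f3 t) = f2 (s * t) := fun s t => by
    refine hG.dd_inj hu a (uu_pow_four _ _ _) neA (mB s (m3 t)) (m2 _) ?_
    rw [← relAB 1 s (m3 t), eA, one_mul, one_mul, eC]
  have eE : ∀ s t, hG.dd a (ll 0 s 0) (f2 t) = f3 (s * t) := fun s t => by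
    refine hG.dd_inj hu a (uu_pow_four _ _ _) neC (mE s (m2 t)) (m3 _) ?_
    rw [← relCE 1 s (m2 t), eA, eC, one_mul, one_mul]
  have a1 : ∀ s t, f1 (s + t) = f1 s * f1 t := fun s t => by
    show hG.dd a (uu 0 0 (s + t)) t₃ = _
    rw [show uu (0 : F) 0 (s + t) = uu 0 0 s * uu 0 0 t by rw [uu_mul]; simp]
    exact hG.dd_add hu a (uu_pow_four _ _ _) (u0 _ _ _) (hG.dirT_le hu a _ ht₃) (m1 t)
  have a2 : ∀ s t, f2 (s + t) = f2 s * f2 t := fun s t => by
    show hG.dd a (uu 0 (s + t) 0) t₃ = _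
    rw [show uu (0 : F) (s + t) 0 = uu 0 s 0 * uu 0 t 0 by rw [uu_mul]; simp]
    exact hG.dd_add hu a (uu_pow_four _ _ _) (u1 _ _) (hG.dirT_le hu a _ ht₃) (m2 t)
  have a3 : ∀ s t, f3 (s + t) = f3 s * f3 t := fun s t => by
    show hG.dd a (ll 0 (s + t) 0) (f2 1) = _
    rw [show ll (0 : F) (s + t) 0 = ll 0 s 0 * ll 0 t 0 by rw [ll_mul]; simp]
    exact hG.dd_add hu a (ll4' 0 s (Or.inl rfl)) (l2 0 s (Or.inl rfl)) (hG.dirT_le hu a _ (m2 1)) (m3 t)
  have z1 : f1 0 = 1 := (mul_eq_left (a := f1 0)).1 (by rw [← a1, add_zero])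
  have z2 : f2 0 = 1 := (mul_eq_left (a := f2 0)).1 (by rw [← a2, add_zero])
  have z3 : f3 0 = 1 := (mul_eq_left (a := f3 0)).1 (by rw [← a3, add_zero])
  have n1 : ∀ s, f1 s = 1 → s = 0 := fun s e => by
    by_contra hs
    refine ht₃1 (hG.dd_inj hu a (g := uu 0 0 s) (uu_pow_four _ _ _) (d := p2 F) (fun e' => hs ?_) ht₃
      (one_mem _) (e.trans ?_))
    · simpa using ((uu_smul_eq_iff _ _ _ e2_ne).1 e').1
    · simp [dd]
  have n2 : ∀ s, f2 s = 1 → s = 0 := fun s e => n1 s (by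
    have h := eA 1 s
    rw [one_mul] at h
    rw [← h, e]; simp [dd])
  have n3 : ∀ s, f3 s = 1 → s = 0 := fun s e => n1 s (by
    have h := eC 1 s
    rw [one_mul] at h
    rw [← h, e]; simp [dd])
  let Ψ : (Fin 3 → F) → G := fun v => f1 (v 0) * f2 (v 1) * f3 (v 2)
  have hE1 : ∀ s, f1 s ∈ E := fun s => hG.dirT_le hu a _ (m1 s)
  have hE2 : ∀ s, f2 s ∈ E := fun s => hG.dirT_le hu a _ (m2 s)
  have hE3 : ∀ s, f3 s ∈ E := fun s => hG.dirT_le hu a _ (m3 s)
  have hΨE : ∀ v, Ψ v ∈ E := fun v => mul_mem (mul_mem (hE1 _) (hE2 _)) (hE3 _)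
  have hΨ0 : ∀ v, Ψ v = 1 → v = 0 := by
    intro v hv
    have hv2 : v 2 = 0 := by
      refine n3 _ ?_
      by_contra h3
      obtain ⟨h31, h32⟩ := hG.dir_of_dirT hu (m3 (v 2)) h3
      have hprod : f3 (v 2) = f1 (v 0) * f2 (v 1) :=
        (eq_inv_of_mul_eq_one_right hv).trans
          (inv_eq_of_mul_eq_one_right (hsq _ (mul_mem (hE1 _) (hE2 _))))
      have hS : (f1 (v 0) * f2 (v 1)) • a ∈ hG.pl a w01 := by
        have hlS : ∀ (d : Pt F), inc d w01 → lin φ a (hG.exists_dir a d).choose ⊆ hG.pl a w01 := by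
          intro d hd
          obtain ⟨hy', hyd'⟩ := (hG.exists_dir a d).choose_spec
          exact IsPl.lin_subset hG ⟨a, w01, rfl⟩ (hG.self_mem_pl _ _) ((hG.mem_pl hy').2 (by rw [hyd']; exact hd)) hy'
        rw [mul_smul]
        have hyS : f2 (v 1) • a ∈ hG.pl a w01 := by
          rcases eq_or_ne (f2 (v 1)) 1 with e | e
          · rw [e, one_smul]; exact hG.self_mem_pl _ _
          · obtain ⟨h1, h2⟩ := hG.dir_of_dirT hu (m2 (v 1)) e
            rw [hG.mem_pl h1, h2]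
            simp [w01, p1, inc_mk, dotProduct, Fin.sum_univ_three]
        obtain ⟨hl, -⟩ := hG.dirT_spec hu a (p0 F)
        obtain ⟨n, hn, hyn⟩ := hG.exists_par hu hl (f2 (v 1) • a)
        exact hG.par_subset_pl hu hn ⟨a, w01, rfl⟩ (hlS _ inc_p0_p2) hyn hyS
          (hG.classGroup_par hu hn (((hG.mem_translations hu hl).2 _).1 (m1 (v 0))).1 hyn)
      rw [← hprod, hG.mem_pl h31, h32] at hS
      simp [w01, inc_mk, dotProduct, Fin.sum_univ_three] at hS
    have hv01 : f1 (v 0) * f2 (v 1) = 1 := by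
      have : f1 (v 0) * f2 (v 1) * f3 (v 2) = 1 := hv
      rwa [hv2, z3, mul_one] at this
    have hv1 : v 1 = 0 := by
      refine n2 _ ?_
      by_contra h
      have e : f1 (v 0) = f2 (v 1) :=
        (eq_inv_of_mul_eq_one_left hv01).trans (inv_eq_of_mul_eq_one_right (hsq _ (hE2 _)))
      have h' := (hG.dir_of_dirT hu (m2 (v 1)) h).2
      rw [← e, (hG.dir_of_dirT hu (m1 (v 0)) (e ▸ h)).2] at h'
      rw [Projectivization.mk_eq_mk_iff'] at h'
      obtain ⟨c, hc⟩ := h'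
      simpa using congrFun hc 0
    rw [hv1, z2, mul_one] at hv01
    funext i
    fin_cases i
    · exact n1 _ hv01
    · exact hv1
    · exact hv2
  have hΨadd : ∀ v w, Ψ (v + w) = Ψ v * Ψ w := by
    intro v w
    show f1 (v 0 + w 0) * f2 (v 1 + w 1) * f3 (v 2 + w 2) = _
    rw [a1, a2, a3]
    have key : ∀ p q r s t z : G, q ∈ E → r ∈ E → s ∈ E → t ∈ E → z ∈ E →
        p * q * (r * s) * (t * z) = p * r * t * (q * s * z) := by
      intro p q r s t z hq hr hs ht hz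
      have e1 := (hcomm q hq r hr).eq
      have e2 := (hcomm (q * s) (mul_mem hq hs) t ht).eq
      calc p * q * (r * s) * (t * z) = p * (q * r) * (s * (t * z)) := by group
        _ = p * r * (q * s * t) * z := by rw [e1]; group
        _ = p * r * t * (q * s * z) := by rw [e2]; group
    exact key _ _ _ _ _ _ (hE1 _) (hE2 _) (hE2 _) (hE3 _) (hE3 _)
  have hneg : ∀ v : Fin 3 → F, -v = v := fun v => funext fun i => CharTwo.neg_eq _
  have hΨinj : Function.Injective Ψ := fun v w e => by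
    have h := hΨadd v w
    rw [e, hsq _ (hΨE w)] at h
    have h2 := hΨ0 _ h
    rwa [add_eq_zero_iff_eq_neg, hneg] at h2
  haveI := Fintype.ofFinite F
  have hΨsurj : ∀ r ∈ E, ∃ v, Ψ v = r := fun r hr => by
    have hb : Function.Bijective (fun v => (⟨Ψ v, hΨE v⟩ : E)) :=
      (Nat.bijective_iff_injective_and_card _).2 ⟨fun v w e => hΨinj (congrArg Subtype.val e :),
        by rw [hcard, Nat.card_fun, Nat.card_eq_fintype_card (α := Fin 3), Fintype.card_fin]⟩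
    obtain ⟨v, hv⟩ := hb.2 ⟨r, hr⟩
    exact ⟨v, congrArg Subtype.val hv⟩
  -- equivariance
  have cfix : ∀ (g : L F) {d : Pt F} {r : G}, g ^ 4 = 1 → g • d = d → r ∈ hG.dirT a d →
      φ a g * r * (φ a g)⁻¹ = r := fun g d r hg hd hr => hG.fix_dirT hu a hg hd hr
  have cmov : ∀ (g : L F) {r : G}, r ∈ E → φ a g * r * (φ a g)⁻¹ = hG.dd a g r * r := fun g r hr => by
    rw [dd, mul_assoc _ r r, hsq r hr, mul_one]
  have c3 : ∀ (g : L F) (x y z : G), φ a g * (x * y * z) * (φ a g)⁻¹ =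
      φ a g * x * (φ a g)⁻¹ * (φ a g * y * (φ a g)⁻¹) * (φ a g * z * (φ a g)⁻¹) := fun g x y z => by group
  let H : Subgroup (L F) :=
    { carrier := {g | ∀ v, φ a g * Ψ v * (φ a g)⁻¹ = Ψ (mv g v)}
      mul_mem' := fun {g h} hg hh v => by
        simp only [map_mul]
        rw [show φ a g * φ a h * Ψ v * (φ a g * φ a h)⁻¹ = φ a g * (φ a h * Ψ v * (φ a h)⁻¹) * (φ a g)⁻¹ by group,
          hh, hg]
        simp [mv, Matrix.mulVec_mulVec]
      one_mem' := fun v => by simp [mv]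
      inv_mem' := fun {g} hg v => by
        have := hg (mv g⁻¹ v)
        simp only [mv, Matrix.mulVec_mulVec, ← Matrix.SpecialLinearGroup.coe_mul, mul_inv_cancel,
          Matrix.SpecialLinearGroup.coe_one, Matrix.one_mulVec] at this
        rw [← this, map_inv, inv_inv]
        simp [mv]
        group }
  have hA : ∀ s, uu s 0 0 ∈ H := fun s v => by
    rw [mv_uu, c3, cfix _ (uu_pow_four _ _ _) (u0 _ _ _) (m1 _), cfix _ (uu_pow_four _ _ _) (u2' s) (m3 _),
      cmov _ (hE2 _), eA]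
    show _ = f1 _ * f2 _ * f3 _
    simp only [Matrix.cons_val_zero, Matrix.cons_val_one, Matrix.cons_val]
    simp only [zero_mul, add_zero]
    rw [a1]
    group
  have hB : ∀ s, uu 0 s 0 ∈ H := fun s v => by
    rw [mv_uu, c3, cfix _ (uu_pow_four _ _ _) (u0 _ _ _) (m1 _), cfix _ (uu_pow_four _ _ _) (u1 s 0) (m2 _),
      cmov _ (hE3 _), eB]
    show _ = f1 _ * f2 _ * f3 _
    simp only [Matrix.cons_val_zero, Matrix.cons_val_one, Matrix.cons_val]
    simp only [zero_mul, add_zero]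
    rw [a2]
    group
  have hD : ∀ s, ll s 0 0 ∈ H := fun s v => by
    rw [mv_ll, c3, cfix _ (ll4' s 0 (Or.inr rfl)) (l1 s) (m2 _), cfix _ (ll4' s 0 (Or.inr rfl)) (l2 s 0 (Or.inr rfl)) (m3 _),
      cmov _ (hE1 _), eD]
    show _ = f1 _ * f2 _ * f3 _
    simp only [Matrix.cons_val_zero, Matrix.cons_val_one, Matrix.cons_val]
    simp only [zero_mul, add_zero, zero_add]
    rw [(hcomm _ (hE2 _) _ (hE1 _)).eq, a2]
    group
  have hEl : ∀ s, ll 0 s 0 ∈ H := fun s v => by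
    rw [mv_ll, c3, cfix _ (ll4' 0 s (Or.inl rfl)) (l0 s) (m1 _), cfix _ (ll4' 0 s (Or.inl rfl)) (l2 0 s (Or.inl rfl)) (m3 _),
      cmov _ (hE2 _), eE]
    show _ = f1 _ * f2 _ * f3 _
    simp only [Matrix.cons_val_zero, Matrix.cons_val_one, Matrix.cons_val]
    simp only [zero_mul, add_zero, zero_add]
    rw [(hcomm _ (hE3 _) _ (hE2 _)).eq, a3]
    group
  have hH : H = ⊤ := by
    refine AutPSL.eq_top_of_simple_mem (m := 2) (by norm_num) H (fun i t => ?_) (fun i t => ?_)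
    · fin_cases i
      · show AutPSL.xe (0 : Fin 3) 1 t ∈ H
        rw [(xe_eq_uu t).1]; exact hA t
      · show AutPSL.xe (1 : Fin 3) 2 t ∈ H
        rw [(xe_eq_uu t).2.1]; exact hB t
    · fin_cases i
      · show AutPSL.xe (1 : Fin 3) 0 t ∈ H
        rw [(xe_eq_uu t).2.2.1]; exact hD t
      · show AutPSL.xe (2 : Fin 3) 1 t ∈ H
        rw [(xe_eq_uu t).2.2.2]; exact hEl t
  have hequiv : ∀ g v, φ a g * Ψ v * (φ a g)⁻¹ = Ψ (mv g v) := fun g v =>
    (hH ▸ Subgroup.mem_top g : g ∈ H) v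
  refine ⟨(Subgroup.eq_bot_iff_forall _).2 fun g hg => ?_, fun x y hx hy => ?_⟩
  · rw [MonoidHom.mem_ker] at hg
    have h1 : ∀ v, mv g v = v := fun v => hΨinj (by rw [← hequiv, hg]; group)
    apply Subtype.ext
    rw [Matrix.SpecialLinearGroup.coe_one]
    exact Matrix.toLin'.injective (LinearMap.ext fun v => by simpa [mv] using h1 v)
  · obtain ⟨r, hr, rfl⟩ := htr a x
    obtain ⟨s, hs, rfl⟩ := htr a y
    obtain ⟨v, rfl⟩ := hΨsurj r hr
    obtain ⟨w, rfl⟩ := hΨsurj s hs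
    have hne : ∀ v, Ψ v • a ≠ a → v ≠ 0 := fun v h e => h (by
      rw [e, show Ψ 0 = 1 by show f1 0 * f2 0 * f3 0 = 1; rw [z1, z2, z3, one_mul, one_mul], one_smul])
    obtain ⟨g, hg⟩ : ∃ g : L F, mv g v = w := by
      have key : ∀ v : Fin 3 → F, v ≠ 0 → ∃ g : L F, mv g ![1, 0, 0] = v := by
        intro v hv
        obtain ⟨k, hk⟩ := exists_smul_eq_pt (p0 F) (pt v hv)
        rw [smul_pt, Projectivization.mk_eq_mk_iff'] at hk
        obtain ⟨c, hc⟩ := hk
        have hc0 : c ≠ 0 := by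
          rintro rfl
          rw [zero_smul] at hc
          exact mv_ne_zero k e0_ne hc.symm
        let dg : L F := ⟨!![c⁻¹, 0, 0; 0, c, 0; 0, 0, 1], by simp [Matrix.det_fin_three, hc0]⟩
        refine ⟨k * dg, ?_⟩
        show ((k * dg : L F) : Matrix (Fin 3) (Fin 3) F) *ᵥ ![1, 0, 0] = v
        rw [Matrix.SpecialLinearGroup.coe_mul, ← Matrix.mulVec_mulVec,
          show (dg : Matrix (Fin 3) (Fin 3) F) *ᵥ ![1, 0, 0] = c⁻¹ • ![1, 0, 0] by
            ext i; fin_cases i <;> simp [dg, Matrix.mulVec, dotProduct, Fin.sum_univ_three],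
          Matrix.mulVec_smul]
        show c⁻¹ • mv k ![1, 0, 0] = v
        rw [← hc, smul_smul, inv_mul_cancel₀ hc0, one_smul]
      obtain ⟨g₁, hg₁⟩ := key v (hne v hx)
      obtain ⟨g₂, hg₂⟩ := key w (hne w hy)
      refine ⟨g₂ * g₁⁻¹, ?_⟩
      rw [← hg₂, ← hg₁]
      simp only [mv, Matrix.mulVec_mulVec, ← Matrix.SpecialLinearGroup.coe_mul, inv_mul_cancel_right]
    refine ⟨g, ?_⟩
    rw [← hg, ← hequiv, mul_smul (φ a g * Ψ v), mul_smul (φ a g), ← map_inv, hG.plane.fix]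

end Geo

end CfsgLib.PlaneStab
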