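import Cfsg.Agent.PlaneStab.Cases

/-!
# Lines and subspaces
-/

set_option autoImplicit false

open Matrix

namespace CfsgLib.PlaneStab

variable {F : Type*} [Field F] {G Ω : Type*} [Group G] [MulAction G Ω]

/-- The geometry of the directions. -/
structure Geo (φ : Ω → L F →* G) (X : Type*) [MulAction (L F) X] (u : ℕ) : Prop where
  plane : Plane φ
  kind : Kind F X
  dir : HasDir φ X
  chart : ∀ x, Chart X x (φ x) u
  u_odd : Odd u

theorem Geo.of_plane [Finite Ω] [Nonempty Ω] {φ : Ω → L F →* G} {X : Type*} [Finite X]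
    [MulAction (L F) X] (hP : Plane φ) (hs : Kind F X) (hd : HasDir φ X) : ∃ u, Geo φ X u := by
  obtain ⟨u, hu, hc⟩ := exists_charts hP hs hd
  exact ⟨u, hP, hs, hd, hc, hu⟩

/-- The 2-elements of `N_x` fixing `y`. -/
def TT (φ : Ω → L F →* G) (x y : Ω) : Set G :=
  {t | t ∈ (φ x).range ∧ t ^ 4 = 1 ∧ t • y = y}

/-- The line through two points. -/
def lin (φ : Ω → L F →* G) (x y : Ω) : Set Ω :=
  {z | ∀ t ∈ TT φ x y, t • z = z}

namespace Geo

variable {φ : Ω → L F →* G} {X : Type*} [MulAction (L F) X] {u : ℕ} (hG : Geo φ X u)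
include hG

theorem u_pos : 0 < u := hG.u_odd.pos

/-- The direction of `y` at `x`. -/
noncomputable def dirOf (x : Ω) : Ω → X := (hG.chart x).dirs.choose

theorem dir_iff {x y : Ω} (hy : y ≠ x) {g : L F} (hg : g ^ 4 = 1) :
    φ x g • y = y ↔ g • hG.dirOf x y = hG.dirOf x y :=
  (hG.chart x).dirs.choose_spec.1 y hy g hg

theorem dir_smul {x y : Ω} (hy : y ≠ x) (g : L F) : hG.dirOf x (φ x g • y) = g • hG.dirOf x y :=
  (hG.chart x).dirs.choose_spec.2.1 y hy g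

theorem card_fibre (x : Ω) (d : X) : Nat.card {y : Ω // y ≠ x ∧ hG.dirOf x y = d} = u :=
  (hG.chart x).dirs.choose_spec.2.2 d

theorem exists_dir (x : Ω) (d : X) : ∃ y, y ≠ x ∧ hG.dirOf x y = d := by
  have h := hG.card_fibre x d
  have hne : Nat.card {y : Ω // y ≠ x ∧ hG.dirOf x y = d} ≠ 0 := by rw [h]; exact hG.u_pos.ne'
  obtain ⟨⟨y, hy⟩⟩ := (Nat.card_pos_iff.1 (Nat.pos_of_ne_zero hne)).1
  exact ⟨y, hy⟩

theorem mem_TT {x y : Ω} (hy : y ≠ x) {g : L F} (hg : g ^ 4 = 1) :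
    φ x g ∈ TT φ x y ↔ g • hG.dirOf x y = hG.dirOf x y :=
  ⟨fun h => (hG.dir_iff hy hg).1 h.2.2, fun h => ⟨⟨g, rfl⟩, by rw [← map_pow, hg, map_one], (hG.dir_iff hy hg).2 h⟩⟩

variable [CharP F 2]

theorem mem_TT' {x y : Ω} (hy : y ≠ x) {t : G} (ht : t ∈ TT φ x y) :
    ∃ g : L F, g ^ 4 = 1 ∧ φ x g = t ∧ g • hG.dirOf x y = hG.dirOf x y := by
  obtain ⟨g, hg, rfl⟩ := exists_lift (hG.plane.ker x) ht.1 ht.2.1
  exact ⟨g, hg, rfl, (hG.mem_TT hy hg).1 ht⟩

theorem fix_self {x : Ω} {t : G} (ht : t ∈ (φ x).range) : t • x = x := by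
  obtain ⟨g, rfl⟩ := ht
  exact hG.plane.fix x g

theorem mem_lin {x y z : Ω} (hy : y ≠ x) :
    z ∈ lin φ x y ↔ z = x ∨ z ≠ x ∧ hG.dirOf x z = hG.dirOf x y := by
  constructor
  · intro h
    rcases eq_or_ne z x with hz | hz
    · exact Or.inl hz
    · refine Or.inr ⟨hz, (hG.kind.sep _ _ fun g hg hgd => ?_).symm⟩
      exact (hG.dir_iff hz hg).1 (h _ ((hG.mem_TT hy hg).2 hgd))
  · rintro (rfl | ⟨hz, he⟩) t ht
    · exact hG.fix_self ht.1
    · obtain ⟨g, hg, rfl, hgd⟩ := hG.mem_TT' hy ht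
      exact (hG.dir_iff hz hg).2 (he ▸ hgd)

theorem left_mem (x y : Ω) : x ∈ lin φ x y := fun _ ht => hG.fix_self ht.1

omit hG in
theorem right_mem (x y : Ω) : y ∈ lin φ x y := fun _ ht => ht.2.2

theorem TT_eq_of_dir {x y z : Ω} (hy : y ≠ x) (hz : z ≠ x) (h : hG.dirOf x z = hG.dirOf x y) :
    TT φ x z = TT φ x y := by
  have key : ∀ {a b : Ω}, a ≠ x → b ≠ x → hG.dirOf x a = hG.dirOf x b → TT φ x a ⊆ TT φ x b := by
    intro a b ha hb e t ht
    obtain ⟨g, hg, rfl, hgd⟩ := hG.mem_TT' ha ht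
    exact (hG.mem_TT hb hg).2 (e ▸ hgd)
  exact subset_antisymm (key hz hy h) (key hy hz h.symm)

theorem lin_eq_left {x y z : Ω} (hy : y ≠ x) (hz : z ≠ x) (h : z ∈ lin φ x y) :
    lin φ x z = lin φ x y := by
  rw [lin, lin, hG.TT_eq_of_dir hy hz (((hG.mem_lin hy).1 h).resolve_left hz).2]

variable [Finite F] [Finite G] [Finite Ω] [FaithfulSMul G Ω] [Finite X]

/-- Symmetry. -/
theorem mem_range_of_fix {x y : Ω} {t : G} (ht : t ∈ (φ x).range) (ht4 : t ^ 4 = 1) (hty : t • y = y) :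
    t ∈ (φ y).range := by
  rcases eq_or_ne x y with rfl | h
  · exact ht
  · exact hG.plane.symmetric hG.kind hG.dir h ht hty ht4

theorem TT_symm (x y : Ω) : TT φ x y = TT φ y x := by
  have key : ∀ a b : Ω, TT φ a b ⊆ TT φ b a := fun a b t ht =>
    ⟨hG.mem_range_of_fix ht.1 ht.2.1 ht.2.2, ht.2.1, hG.fix_self ht.1⟩
  exact subset_antisymm (key x y) (key y x)

theorem lin_symm (x y : Ω) : lin φ x y = lin φ y x := by rw [lin, lin, hG.TT_symm]

/-- Two points of a line determine it. -/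
theorem lin_eq {x y p r : Ω} (hxy : y ≠ x) (hpr : r ≠ p) (hp : p ∈ lin φ x y) (hr : r ∈ lin φ x y) :
    lin φ p r = lin φ x y := by
  rcases eq_or_ne p x with rfl | hpx
  · exact hG.lin_eq_left hxy hpr hr
  · have e : lin φ p x = lin φ x y := by rw [← hG.lin_symm, hG.lin_eq_left hxy hpx hp]
    rw [hG.lin_eq_left hpx.symm hpr (e ▸ hr), e]

/-- Elements of `N_x` of exponent four fixing two points fix their line. -/
theorem fix_lin {x p r z : Ω} {t : G} (ht : t ∈ (φ x).range) (ht4 : t ^ 4 = 1) (hp : t • p = p)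
    (hr : t • r = r) (hz : z ∈ lin φ p r) : t • z = z :=
  hz t ⟨hG.mem_range_of_fix ht ht4 hp, ht4, hr⟩

theorem card_lin {x y : Ω} (hy : y ≠ x) : Nat.card {z : Ω // z ∈ lin φ x y} = u + 1 := by
  rw [← hG.card_fibre x (hG.dirOf x y), Pair.card_erase (p := fun z => z ∈ lin φ x y) (hG.left_mem x y)]
  congr 1
  refine Nat.card_congr (Equiv.subtypeEquivRight fun z => ?_)
  rw [hG.mem_lin hy]
  tauto

theorem card_points (x : Ω) : Nat.card Ω = Nat.card X * u + 1 := by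
  rw [← (hG.chart x).card_others]
  have := Pair.card_erase (Ω := Ω) (p := fun _ => True) (c := x) trivial
  simpa [Nat.card_congr (Equiv.subtypeUnivEquiv (p := fun _ : Ω => True) fun _ => trivial)] using this

/-- Fixed points of a set of exponent four elements. -/
theorem card_fix (x : Ω) (A : Set (L F)) (hA : ∀ g ∈ A, g ^ 4 = 1) :
    Nat.card {y : Ω // ∀ g ∈ A, φ x g • y = y} = Nat.card {d : X // ∀ g ∈ A, g • d = d} * u + 1 := by
  rw [← (hG.chart x).card_fixed A hA,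
    Pair.card_erase (Ω := Ω) (p := fun y => ∀ g ∈ A, φ x g • y = y) (c := x) fun g _ => hG.plane.fix x g]

omit [Finite F] [Finite G] [Finite Ω] [FaithfulSMul G Ω] [Finite X] [CharP F 2] in
/-- Transport of the 2-elements. -/
theorem TT_conj (g : G) {x y : Ω} {t : G} (ht : t ∈ TT φ x y) : g * t * g⁻¹ ∈ TT φ (g • x) (g • y) :=
  ⟨hG.plane.conj g x t ht.1, by rw [conj_pow, ht.2.1, mul_one, mul_inv_cancel],
    by rw [mul_smul, mul_smul, inv_smul_smul, ht.2.2]⟩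

omit [Finite F] [Finite G] [Finite Ω] [FaithfulSMul G Ω] [Finite X] [CharP F 2] in
theorem smul_mem_lin (g : G) {x y z : Ω} (hz : z ∈ lin φ x y) : g • z ∈ lin φ (g • x) (g • y) := by
  intro t ht
  have h := hz (g⁻¹ * t * g⁻¹⁻¹) (by simpa using hG.TT_conj g⁻¹ ht)
  rw [inv_inv, mul_smul, mul_smul, inv_smul_eq_iff] at h
  exact h

end Geo

end CfsgLib.PlaneStab
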