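import Cfsg.Agent.PlaneStab.Space

/-!
# The parameters of the planes
-/

set_option autoImplicit false

open Matrix

namespace CfsgLib.PlaneStab

theorem params_arith {n u : ℕ} (hn : 1 ≤ n) (hu : Odd u) (hs : u + 1 ≤ 2 ^ n + 1)
    (hd : ((2 ^ n + 1) * u + 1) ∣
      (((2 ^ n) ^ 2 + 2 ^ n + 1) * u + 1) * ((2 ^ n) ^ 2 + 2 ^ n + 1)) :
    u + 1 = 2 ^ n ∨ 2 ^ n = (u + 1) ^ 2 := by
  set q := 2 ^ n with hq
  set D := (q + 1) * u + 1 with hD
  have h1 : (((q ^ 2 + q + 1) * u + 1) * (q ^ 2 + q + 1)) =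
      D * (q ^ 2 + q + 1) + u * (q ^ 2 * (q ^ 2 + q + 1)) := by rw [hD]; ring
  rw [h1, Nat.dvd_add_right (Dvd.intro _ rfl)] at hd
  have hcop : Nat.Coprime D u := by
    rw [hD, Nat.coprime_mul_right_add_left]
    exact Nat.coprime_one_left u
  have h2 : D ∣ q ^ 2 * (q ^ 2 + q + 1) := hcop.dvd_of_dvd_mul_left hd
  have h3 : D ∣ (u + 1) ^ 2 * ((u + 1) * u + 1) := by
    have e : (D : ℤ) ∣ ((u : ℤ) + 1) ^ 2 * (((u : ℤ) + 1) * u + 1) := by
      have h2' : (D : ℤ) ∣ (q : ℤ) ^ 2 * ((q : ℤ) ^ 2 + q + 1) := by exact_mod_cast h2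
      have h4 : (D : ℤ) = q * u + (u + 1) := by rw [hD]; push_cast; ring
      have key : ((u : ℤ) + 1) ^ 2 * (((u : ℤ) + 1) * u + 1) =
          (u : ℤ) ^ 4 * ((q : ℤ) ^ 2 * ((q : ℤ) ^ 2 + q + 1)) -
            ((q : ℤ) * u + (u + 1)) * (((q : ℤ) * u - (u + 1)) * (((q : ℤ) * u) ^ 2 + ((u : ℤ) + 1) ^ 2) +
              u * (((q : ℤ) * u) ^ 2 - (q : ℤ) * u * (u + 1) + ((u : ℤ) + 1) ^ 2) +
              (u : ℤ) ^ 2 * ((q : ℤ) * u - (u + 1))) := by ring
      rw [key, ← h4]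
      exact dvd_sub (h2'.mul_left _) (dvd_mul_right _ _)
    exact_mod_cast e
  obtain ⟨σ, j, hj, hsj⟩ := Nat.exists_eq_pow_mul_and_not_dvd (n := u + 1) (by omega) 2 (by norm_num)
  have hσ1 : 1 ≤ σ := by
    by_contra h
    rw [show σ = 0 by omega, pow_zero, one_mul] at hsj
    obtain ⟨k, hk⟩ := hu
    omega
  have hj1 : 1 ≤ j := by omega
  rcases Nat.lt_trichotomy σ n with hlt | heq | hgt
  swap
  · have eσ : 2 ^ σ = q := by rw [hq, heq]
    rw [eσ] at hsj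
    rcases Nat.lt_or_ge 1 j with h | h
    · exfalso
      have h5 : q * 2 ≤ q * j := Nat.mul_le_mul_left _ h
      have h6 : 2 ≤ q := by rw [hq]; exact le_self_pow (by norm_num) (by omega)
      omega
    · exact Or.inl (by rw [hsj, show j = 1 by omega, mul_one])
  swap
  · exfalso
    have : q * 2 ≤ 2 ^ σ := by
      rw [hq, ← pow_succ]
      exact Nat.pow_le_pow_right (by norm_num) hgt
    have h6 : 2 ≤ q := by rw [hq]; exact le_self_pow (by norm_num) (by omega)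
    have : 2 ^ σ * 1 ≤ 2 ^ σ * j := Nat.mul_le_mul_left _ hj1
    omega
  obtain ⟨r, hr⟩ : ∃ r, n = σ + (r + 1) := ⟨n - σ - 1, by omega⟩
  set T := 2 ^ σ with hT
  set q' := 2 ^ (r + 1) with hq'
  have hqT : q = T * q' := by rw [hq, hT, hq', ← pow_add, hr]
  set D' := j + q' * u with hD'
  have hDD : D = T * D' := by
    rw [hD, hD', hqT, mul_add T, ← hsj]; ring
  have hq'2 : 2 ∣ q' := hq' ▸ dvd_pow_self 2 (by omega)
  have hc2 : Nat.Coprime D' 2 := by
    refine (Nat.prime_two.coprime_iff_not_dvd.2 fun h => hj ?_).symm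
    exact (Nat.dvd_add_iff_left (hq'2.mul_right u)).2 h
  have huj : Nat.Coprime u j := by
    have h : Nat.Coprime u (u + 1) := by simp
    exact h.coprime_dvd_right ⟨T, by rw [hsj, mul_comm]⟩
  have hc' : Nat.Coprime D' j := by
    rw [hD', Nat.coprime_self_add_left]
    exact Nat.Coprime.mul_left (Nat.Coprime.pow_left _ (Nat.prime_two.coprime_iff_not_dvd.2 hj)) huj
  have hcs : Nat.Coprime D' ((u + 1) ^ 2) := by
    refine Nat.Coprime.pow_right 2 ?_
    rw [hsj]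
    exact (hc2.pow_right σ).mul_right hc'
  obtain ⟨c, hc⟩ : D' ∣ (u + 1) * u + 1 :=
    hcs.dvd_of_dvd_mul_left ((dvd_trans ⟨T, by rw [hDD, mul_comm]⟩ h3))
  have hc0 : 1 ≤ c := by
    rcases Nat.eq_zero_or_pos c with h | h
    · rw [h, mul_zero] at hc; omega
    · exact h
  have hsq : u + 1 ≤ q := by
    have h2q : 2 ∣ q := hqT ▸ hq'2.mul_left T
    obtain ⟨k, hk⟩ := hu
    omega
  have hcT : c < T := by
    refine Nat.lt_of_mul_lt_mul_left (a := D') ?_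
    rw [← hc, mul_comm D' T, ← hDD, hD]
    have h7 : (u + 1) * u ≤ q * u := Nat.mul_le_mul_right _ hsq
    have h8 : (q + 1) * u = q * u + u := by ring
    have := hu.pos
    omega
  have hdvd : (u : ℤ) ∣ (T : ℤ) - c := by
    refine ⟨(c : ℤ) - T * (((u : ℤ) + 1) - c * q'), ?_⟩
    have e1 : ((u : ℤ) + 1) = T * j := by exact_mod_cast hsj
    have e2 : ((u : ℤ) + 1) * u + 1 = (j + q' * u) * c := by exact_mod_cast hc
    linear_combination (-(c : ℤ)) * e1 + (T : ℤ) * e2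
  have hge : u ≤ T - c := by
    have h9 : (u : ℤ) ≤ (T : ℤ) - c := Int.le_of_dvd (by omega) hdvd
    omega
  have hTle : T * 1 ≤ T * j := Nat.mul_le_mul_left _ hj1
  have hc1 : c = 1 := by omega
  have hTs : T = u + 1 := by omega
  have hjone : j = 1 := Nat.eq_of_mul_eq_mul_left (show 0 < T by omega) (show T * j = T * 1 by omega)
  refine Or.inr ?_
  have hq's : q' = u + 1 := by
    rw [hc1, mul_one, hD', hjone] at hc
    refine Nat.eq_of_mul_eq_mul_right hu.pos ?_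
    omega
  rw [hqT, hq's, hTs]
  ring

variable {F : Type*} [Field F] [CharP F 2] [Finite F] {G Ω : Type*} [Group G] [MulAction G Ω]
  [Finite G] [Finite Ω] [FaithfulSMul G Ω] {φ : Ω → L F →* G} {u : ℕ}

namespace Geo

variable (hG : Geo φ (Pt F) u)
include hG

theorem card_omega (x : Ω) : Nat.card Ω = (Nat.card F ^ 2 + Nat.card F + 1) * u + 1 := by
  rw [hG.card_points x, card_pt]

theorem line_le (x : Ω) : u + 1 ≤ Nat.card F + 1 := by
  obtain ⟨y, hy, -⟩ := hG.exists_dir x (p0 F)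
  obtain ⟨S, hS, hxS, hyS⟩ := hG.exists_pl_of_lin hy
  obtain ⟨z, hzS, hz⟩ : ∃ z ∈ S, z ∉ lin φ x y := by
    by_contra hc
    simp only [not_exists, not_and, not_not] at hc
    obtain ⟨x', w', rfl⟩ := hS
    have h1 := Set.ncard_le_ncard hc (Set.toFinite _)
    rw [hG.ncard_lin hy] at h1
    have h2 := hG.lt_ncard_pl x' w'
    omega
  obtain ⟨w, hw⟩ := IsPl.exists_at hG hS hzS
  have hne : ∀ m ∈ lin φ x y, m ≠ z := fun m hm e => hz (e ▸ hm)
  rw [← hG.card_lin hy, ← card_inc w]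
  refine Nat.card_le_card_of_injective (fun m => (⟨hG.dirOf z m.1,
    (hG.mem_pl (hne _ m.2)).1 (hw ▸ IsPl.lin_subset hG hS hxS hyS hy m.2)⟩ : {d : Pt F // inc d w})) ?_
  rintro ⟨m, hm⟩ ⟨m', hm'⟩ e
  refine Subtype.ext ?_
  by_contra hmm
  change m ≠ m' at hmm
  have e' : hG.dirOf z m = hG.dirOf z m' := congrArg Subtype.val e
  have h1 : m' ∈ lin φ z m := (hG.mem_lin (hne m hm)).2 (Or.inr ⟨hne m' hm', e'.symm⟩)
  refine hz ?_
  rw [← hG.lin_eq hy (Ne.symm hmm) hm hm',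
    hG.lin_eq (hne m hm) (Ne.symm hmm) (right_mem z m) h1]
  exact hG.left_mem z m

/-- Incidences of points and planes. -/
theorem dvd_count [Nonempty Ω] :
    (Nat.card F + 1) * u + 1 ∣ Nat.card Ω * (Nat.card F ^ 2 + Nat.card F + 1) := by
  haveI := Fintype.ofFinite {S : Set Ω // hG.IsPl S}
  rw [← card_pt, ← Nat.card_prod]
  have e : Nat.card (Ω × Pt F) = Nat.card (Σ S : {S : Set Ω // hG.IsPl S}, ↥(S : Set Ω)) := by
    refine Nat.card_eq_of_bijective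
      (fun p : Ω × Pt F => ⟨⟨hG.pl p.1 p.2, _, _, rfl⟩, ⟨p.1, hG.self_mem_pl _ _⟩⟩) ⟨?_, ?_⟩
    · rintro ⟨x, w⟩ ⟨x', w'⟩ e
      have e1 : hG.pl x w = hG.pl x' w' := congrArg (fun s => s.1.1) e
      have e2 : x = x' := congrArg (fun s => (s.2 : Ω)) e
      subst e2
      rw [hG.pl_inj e1]
    · rintro ⟨⟨S, hS⟩, x, hx⟩
      obtain ⟨w, rfl⟩ := IsPl.exists_at hG hS hx
      exact ⟨(x, w), rfl⟩
  rw [e, Nat.card_sigma, Finset.sum_congr rfl fun S _ =>
    (Nat.card_coe_set_eq _).trans (IsPl.ncard hG S.2), Finset.sum_const, smul_eq_mul]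
  exact dvd_mul_left _ _

/-- **The parameters.** -/
theorem params [Nonempty Ω] : u + 1 = Nat.card F ∨ Nat.card F = (u + 1) ^ 2 := by
  obtain ⟨x⟩ := ‹Nonempty Ω›
  haveI := Fintype.ofFinite F
  obtain ⟨n, hn1, hn⟩ := exists_card_eq (F := F)
  rw [← Nat.card_eq_fintype_card] at hn
  have h1 := hG.line_le x
  have h2 := hG.dvd_count
  rw [hG.card_omega x] at h2
  rw [hn] at h1 h2 ⊢
  exact params_arith hn1 hG.u_odd h1 h2

end Geo

end CfsgLib.PlaneStab
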