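import Cfsg.Agent.PlaneStab.Shears

/-!
# Lines of more than two points force `q = s`
-/

set_option autoImplicit false

open Matrix

namespace CfsgLib.PlaneStab

variable {F : Type*} [Field F] [CharP F 2] [Finite F] {G Ω : Type*} [Group G] [MulAction G Ω]

/-- An element normalising the unitriangular group and its subgroup `{uu 0 y z}` is semilinear in
the first coordinate. -/
theorem first_semilinear {ψ : L F →* G} (hk : ψ.ker ≤ Subgroup.center (L F)) {g : G}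
    (hU : ∀ t ∈ U ψ, g * t * g⁻¹ ∈ U ψ)
    (hA : ∀ b c : F, ∃ b' c', g * ψ (uu 0 b c) * g⁻¹ = ψ (uu 0 b' c')) :
    ∃ (μ : F) (σ : F →+* F), μ ≠ 0 ∧
      ∀ a b c : F, ∃ b' c', g * ψ (uu a b c) * g⁻¹ = ψ (uu (μ * σ a) b' c') := by
  classical
  choose A B C hg using fun a => mem_U.1 (hU _ (mem_U.2 ⟨a, (0 : F), (0 : F), rfl⟩))
  choose B' C' hg' using fun b => hA b 0
  have hA0 : ∀ a, A a = 0 → a = 0 := by
    intro a ha
    choose Bb Cc hbc using hA
    have hinj : Function.Injective (fun p : F × F => (Bb p.1 p.2, Cc p.1 p.2)) := by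
      rintro ⟨b, c⟩ ⟨b', c'⟩ e
      simp only [Prod.mk.injEq] at e
      have h1 := hbc b c
      have h2 := hbc b' c'
      rw [e.1, e.2] at h1
      obtain ⟨-, r2, r3⟩ := image_inj hk (h1.trans h2.symm)
      rw [r2, r3]
    obtain ⟨⟨b, c⟩, e⟩ := Finite.surjective_of_injective hinj (B a, C a)
    simp only [Prod.mk.injEq] at e
    have h1 := hbc b c
    rw [e.1, e.2] at h1
    have h2 := hg a
    rw [ha] at h2
    exact (image_inj hk (h2.trans h1.symm)).1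
  have hB0 : ∀ a, A a ≠ 0 → B a = 0 := fun a ha => (image_sq_zero hk (mul_zero a) (hg a)).resolve_left ha
  have hzero : A 0 = 0 := by
    have := hg 0
    rw [uu_zero, map_one, mul_one, mul_inv_cancel, ← map_one ψ, ← uu_zero (F := F)] at this
    exact (inj_uu hk this).1.symm
  have hB : ∀ a, B a = 0 := fun a => by
    by_cases ha : A a = 0
    · have := hA0 a ha
      subst this
      have h := hg 0
      rw [uu_zero, map_one, mul_one, mul_inv_cancel, ← map_one ψ, ← uu_zero (F := F)] at h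
      exact (inj_uu hk h).2.1.symm
    · exact hB0 a ha
  have hadd : ∀ a a', A (a + a') = A a + A a' := by
    intro a a'
    have e := hg (a + a')
    rw [show uu (a + a') (0 : F) 0 = uu a 0 0 * uu a' 0 0 by rw [uu_mul]; simp, map_mul, ← conj_mul,
      hg a, hg a', ← map_mul, uu_mul] at e
    exact (inj_uu hk e).1.symm
  have hcomm : ∀ a b, g * ψ (uu 0 0 (a * b)) * g⁻¹ = ψ (uu 0 0 (A a * B' b)) := by
    intro a b
    have := Nrm.image_comm hk (hg a) (hg' b)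
    simpa using this
  have hprod : ∀ a b a' b', a * b = a' * b' → A a * B' b = A a' * B' b' := fun a b a' b' e =>
    (inj_uu hk ((hcomm a b).symm.trans (e ▸ hcomm a' b'))).2.2
  have h1 : A 1 ≠ 0 := fun e => one_ne_zero (hA0 1 e)
  have hB1 : B' 1 ≠ 0 := by
    intro e
    have h := hcomm 1 1
    rw [e, mul_zero, one_mul, uu_zero, map_one, conj_eq_one_iff] at h
    exact uu_ne_one (Or.inr (Or.inr one_ne_zero)) (inj4 hk (uu_pow_four _ _ _) (one_pow 4) (h.trans (map_one ψ).symm))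
  have hmul : ∀ a b, A (a * b) * A 1 = A a * A b := by
    intro a b
    refine mul_right_cancel₀ hB1 ?_
    calc A (a * b) * A 1 * B' 1 = A (a * b) * B' 1 * A 1 := by ring
      _ = A a * B' b * A 1 := by rw [hprod (a * b) 1 a b (by ring)]
      _ = A a * (A 1 * B' b) := by ring
      _ = A a * (A b * B' 1) := by rw [hprod 1 b b 1 (by ring)]
      _ = A a * A b * B' 1 := by ring
  refine ⟨A 1,
    { toFun := fun a => A a / A 1
      map_one' := div_self h1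
      map_mul' := fun a b => by
        rw [div_mul_div_comm, ← hmul, mul_div_mul_right _ _ h1]
      map_zero' := by simp [hzero]
      map_add' := fun a b => by simp [hadd, add_div] }, h1, fun a b c => ?_⟩
  obtain ⟨b', c', e⟩ := hA b (c + a * b)
  refine ⟨b', C a + c' + A a * b', ?_⟩
  rw [show uu a b c = uu a 0 0 * uu 0 b (c + a * b) by
    rw [uu_mul]; congr 1 <;> simp; linear_combination -(a * b) * CharTwo.two_eq_zero (R := F),
    map_mul, ← conj_mul, hg a, e, ← map_mul, uu_mul, hB a]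
  congr 2
  · show A a + 0 = A 1 * (A a / A 1)
    rw [add_zero, mul_div_cancel₀ _ h1]
  · ring

variable [Finite G] [Finite Ω] [FaithfulSMul G Ω] {φ : Ω → L F →* G} {u : ℕ}

/-- The 2-elements of `N_y`, `y ∈ m`, fixing the line `m` and the plane `S`. -/
def FlagGroupSpec (φ : Ω → L F →* G) (m S : Set Ω) (ψ : L F →* G) : Prop :=
  ψ.ker ≤ Subgroup.center (L F) ∧
    (∀ t, t ∈ U ψ ↔ t ^ 4 = 1 ∧ (∀ z ∈ m, t ∈ (φ z).range) ∧ (∀ z ∈ m, t • z = z) ∧ ∀ z ∈ S, t • z ∈ S) ∧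
    ∀ a b c : F, (a = 0 → ∀ z ∈ S, ψ (uu a b c) • z = z) ∧
      ∀ z ∈ S, z ∉ m → ψ (uu a b c) • z = z → a = 0

namespace Geo

variable (hG : Geo φ (Pt F) u)
include hG

theorem exists_flagGroup {m S : Set Ω} (hm : IsLn φ m) (hS : hG.IsPl S) (hmS : m ⊆ S) :
    ∃ ψ, FlagGroupSpec φ m S ψ := by
  obtain ⟨y, hy⟩ := hG.ln_nonempty hm
  obtain ⟨y', hy', hne⟩ := hG.exists_ne_mem hm y
  obtain ⟨w, rfl⟩ := IsPl.exists_at hG hS (hmS hy)
  have hmy : m = lin φ y y' := hG.ln_eq hm hne hy hy'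
  obtain ⟨k, hk⟩ := exists_smul_flag (f0 F) ⟨(hG.dirOf y y', w), (hG.mem_pl hne).1 (hmS hy')⟩
  have hk1 : k • p0 F = hG.dirOf y y' := congrArg (fun f => f.1.1) hk
  have hk2 : dv k • p2 F = w := congrArg (fun f => f.1.2) hk
  refine ⟨(φ y).comp (MulAut.conj k).toMonoidHom, ker_comp_conj (hG.plane.ker y) k, fun t => ?_, fun a b c => ?_⟩
  · constructor
    · intro ht
      obtain ⟨a, b, c, rfl⟩ := mem_U.1 ht
      show φ y (k * uu a b c * k⁻¹) ^ 4 = 1 ∧ (∀ z ∈ m, φ y (k * uu a b c * k⁻¹) ∈ (φ z).range) ∧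
        (∀ z ∈ m, φ y (k * uu a b c * k⁻¹) • z = z) ∧ ∀ z ∈ hG.pl y w, φ y (k * uu a b c * k⁻¹) • z ∈ hG.pl y w
      have h4 := conj_four k _ (uu_pow_four a b c)
      have h4' : φ y (k * uu a b c * k⁻¹) ^ 4 = 1 := by rw [← map_pow, h4, map_one]
      have hfix : ∀ z ∈ m, φ y (k * uu a b c * k⁻¹) • z = z := by
        intro z hz
        rw [hmy] at hz
        rcases (hG.mem_lin hne).1 hz with rfl | ⟨hzy, hd⟩
        · exact hG.plane.fix _ _
        · refine (hG.dir_iff hzy h4).2 ?_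
          rw [hd, ← hk1, mul_smul, mul_smul, inv_smul_smul, (upper_fix_p0 (uu_mem a b c)).1]
      refine ⟨h4', fun z hz => hG.mem_range_of_fix ⟨_, rfl⟩ h4' (hfix z hz), hfix, fun z hz => ?_⟩
      have e : dv (k * uu a b c * k⁻¹) • w = w := by
        rw [← hk2, dv_mul, dv_mul, dv_inv, mul_smul, mul_smul, inv_smul_smul, (upper_fix_p0 (uu_mem a b c)).2]
      have := (hG.smul_mem_pl (k * uu a b c * k⁻¹)).2 hz
      rwa [e] at this
    · rintro ⟨h4, hr, hfix, hpl⟩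
      obtain ⟨g, hg, rfl⟩ := exists_lift (hG.plane.ker y) (hr y hy) h4
      have hgd : g • hG.dirOf y y' = hG.dirOf y y' := (hG.dir_iff hne hg).1 (hfix y' hy')
      have hgw : dv g • w = w := by
        refine hG.pl_inj (x := y) (Set.eq_of_subset_of_ncard_le ?_ (by rw [hG.ncard_pl, hG.ncard_pl]) (Set.toFinite _))
        intro z hz
        have h1 : φ y g • ((φ y g)⁻¹ • z) ∈ hG.pl y (dv g • w) := by rw [smul_inv_smul]; exact hz
        rw [hG.smul_mem_pl] at h1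
        have := hpl _ h1
        rwa [smul_inv_smul] at this
      obtain ⟨a, b, c, e⟩ := mem_upper_of_fix (g := k⁻¹ * g * k) (by rw [conj_inv_pow, hg, mul_one, inv_mul_cancel])
        (by rw [mul_smul, mul_smul, hk1, hgd, ← hk1, inv_smul_smul])
        (by rw [dv_mul, dv_mul, dv_inv, mul_smul, mul_smul, hk2, hgw, ← hk2, inv_smul_smul])
      refine mem_U.2 ⟨a, b, c, ?_⟩
      show φ y g = φ y (k * uu a b c * k⁻¹)
      rw [← e]; congr 1; group
  · have h4 := conj_four k _ (uu_pow_four a b c)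
    have key : ∀ z, z ∈ hG.pl y w → z ≠ y →
        (φ y (k * uu a b c * k⁻¹) • z = z ↔ a = 0 ∨ hG.dirOf y z = hG.dirOf y y') := by
      intro z hz hzy
      have hd : inc (k⁻¹ • hG.dirOf y z) (p2 F) := by
        rw [← inc_smul k, smul_inv_smul, hk2]; exact (hG.mem_pl hzy).1 hz
      rw [hG.dir_iff hzy h4, ← hk1, mul_smul, mul_smul,
        show k • uu a b c • k⁻¹ • hG.dirOf y z = hG.dirOf y z ↔ uu a b c • (k⁻¹ • hG.dirOf y z) = k⁻¹ • hG.dirOf y z from
          eq_inv_smul_iff.symm,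
        show hG.dirOf y z = k • p0 F ↔ k⁻¹ • hG.dirOf y z = p0 F from inv_smul_eq_iff.symm]
      generalize k⁻¹ • hG.dirOf y z = p at hd
      induction p using Projectivization.ind with | _ v hv =>
      rw [inc_mk] at hd
      simp [dotProduct, Fin.sum_univ_three] at hd
      rw [uu_smul_eq_iff a b c hv]
      constructor
      · rintro ⟨h1, -⟩
        rw [hd, mul_zero, add_zero] at h1
        rcases mul_eq_zero.1 h1 with h | h
        · exact Or.inl h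
        · exact Or.inr (eq_p0 hv h hd)
      · rintro (rfl | h)
        · simp [hd]
        · rw [Projectivization.mk_eq_mk_iff'] at h
          obtain ⟨e, he⟩ := h
          have h1 : v 1 = 0 := by simpa using (congrFun he 1).symm
          simp [hd, h1]
    refine ⟨fun ha z hz => ?_, fun z hz hzm h => ?_⟩
    · rcases eq_or_ne z y with rfl | hzy
      · exact hG.plane.fix _ _
      · exact (key z hz hzy).2 (Or.inl ha)
    · have hzy : z ≠ y := fun e => hzm (e ▸ hy)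
      exact ((key z hz hzy).1 h).resolve_right fun e => hzm (hmy ▸ (hG.mem_lin hne).2 (Or.inr ⟨hzy, e⟩))

/-- An involutory motion of `S` fixing exactly the line `l` and preserving the line `m` is properly
semilinear on the flag group of `m`, with many fixed points. -/
theorem flag_sigma (hq : u + 1 < Nat.card F) {m l S : Set Ω} (hm : IsLn φ m) (hl : IsLn φ l)
    (hlS : l ⊆ S) (hdis : Disjoint m l) {ψ : L F →* G} (hψ : FlagGroupSpec φ m S ψ) {e : G}
    (heS : ∀ z ∈ S, e • z ∈ S) (hem : ∀ z ∈ m, e • z ∈ m) (he2 : ∀ z ∈ S, e • e • z = z)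
    (hefix : ∀ z ∈ S, e • z = z ↔ z ∈ l) :
    ∃ (μ : F) (σ : F →+* F), σ ≠ RingHom.id F ∧ (∀ a, σ (σ a) = a) ∧
      (∀ a b c : F, ∃ b' c', e * ψ (uu a b c) * e⁻¹ = ψ (uu (μ * σ a) b' c')) ∧
      Nat.card F ≤ Nat.card {a : F // μ * σ a = a} ^ 2 ∧
      ∀ a, μ * σ a = a → ∀ z ∈ l, ψ (uu a 0 0) • z ∈ l := by
  classical
  obtain ⟨hk, hmem, hfixS⟩ := hψ
  have himgS : ∀ z ∈ S, e⁻¹ • z = e • z := fun z hz => by rw [inv_smul_eq_iff, he2 z hz]
  have hem' : ∀ z ∈ m, e⁻¹ • z ∈ m := by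
    intro z hz
    obtain ⟨⟨z', hz'⟩, hz'e⟩ := Finite.surjective_of_injective
      (f := fun z : m => (⟨e • (z : Ω), hem z z.2⟩ : m))
      (fun a b h => Subtype.ext (smul_left_cancel e (congrArg Subtype.val h))) ⟨z, hz⟩
    have : e • z' = z := congrArg Subtype.val hz'e
    rw [← this, inv_smul_smul]; exact hz'
  have hU : ∀ t ∈ U ψ, e * t * e⁻¹ ∈ U ψ := by
    intro t ht
    obtain ⟨h1, h2, h3, h4⟩ := (hmem t).1 ht
    refine (hmem _).2 ⟨by rw [conj_pow, h1, mul_one, mul_inv_cancel], fun z hz => ?_, fun z hz => ?_, fun z hz => ?_⟩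
    · have := hG.plane.conj e (e⁻¹ • z) t (h2 _ (hem' z hz))
      rwa [smul_inv_smul] at this
    · rw [mul_smul, mul_smul, h3 _ (hem' z hz), smul_inv_smul]
    · rw [mul_smul, mul_smul]
      exact heS _ (h4 _ (himgS z hz ▸ heS z hz))
  obtain ⟨y, hy⟩ := hG.ln_nonempty hl
  have hym : y ∉ m := fun h => Set.disjoint_left.1 hdis h hy
  have hA : ∀ b c : F, ∃ b' c', e * ψ (uu 0 b c) * e⁻¹ = ψ (uu 0 b' c') := by
    intro b c
    obtain ⟨a', b', c', e'⟩ := mem_U.1 (hU _ (mem_U.2 ⟨0, b, c, rfl⟩))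
    have ha : a' = 0 := by
      refine (hfixS a' b' c').2 y (hlS hy) hym ?_
      rw [← e', mul_smul, mul_smul, (hfixS 0 b c).1 rfl _ (himgS y (hlS hy) ▸ heS y (hlS hy)), smul_inv_smul]
    exact ⟨b', c', by rw [e', ha]⟩
  obtain ⟨μ, σ, hμ, hconj⟩ := first_semilinear hk hU hA
  have hcoord : ∀ a a' b' c', (∀ z ∈ S, ψ (uu a 0 0) • z = ψ (uu a' b' c') • z) → a = a' := by
    intro a a' b' c' h
    have h2 : ψ (uu a 0 0) • (ψ (uu a' b' c') • y) = y := by
      rw [← h y (hlS hy), ← mul_smul, ← map_mul, uu_sq, mul_zero, uu_zero, map_one, one_smul]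
    rw [← mul_smul, ← map_mul, uu_mul] at h2
    have := (hfixS _ _ _).2 y (hlS hy) hym h2
    exact CharTwo.add_eq_zero.1 this
  have hpres : ∀ a : F, ∀ z ∈ S, ψ (uu a 0 0) • z ∈ S := fun a z hz =>
    ((hmem _).1 (mem_U.2 ⟨a, 0, 0, rfl⟩)).2.2.2 z hz
  have hact : ∀ a, ∀ z ∈ S, ψ (uu (μ * σ a) 0 0) • z = e • ψ (uu a 0 0) • e⁻¹ • z := by
    intro a z hz
    obtain ⟨b', c', e'⟩ := hconj a 0 0
    have h1 : uu (μ * σ a) b' c' = uu (μ * σ a) 0 0 * uu 0 b' (c' + μ * σ a * b') := by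
      rw [uu_mul]; congr 1 <;> simp
      linear_combination -(μ * σ a * b') * CharTwo.two_eq_zero (R := F)
    rw [← mul_smul, ← mul_smul, e', h1, map_mul, mul_smul, (hfixS 0 b' _).1 rfl z hz]
  have h22 : ∀ a, μ * σ μ * σ (σ a) = a := by
    intro a
    symm
    refine hcoord a _ 0 0 fun z hz => ?_
    rw [show μ * σ μ * σ (σ a) = μ * σ (μ * σ a) by rw [map_mul, mul_assoc], hact _ z hz,
      hact a _ (himgS z hz ▸ heS z hz), himgS z hz,
      himgS (e • z) (heS z hz), he2 z hz, he2 _ (hpres a z hz)]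
  have hμ2 : μ * σ μ = 1 := by simpa using h22 1
  have hσ2 : ∀ a, σ (σ a) = a := fun a => by
    have := h22 a
    rwa [hμ2, one_mul] at this
  have hkeep : ∀ a, μ * σ a = a → ∀ z ∈ l, ψ (uu a 0 0) • z ∈ l := by
    intro a ha z hz
    have hzS := hlS hz
    refine (hefix _ (hpres a z hzS)).1 ?_
    have h := hact a z hzS
    rw [ha, show e⁻¹ • z = z by rw [himgS z hzS]; exact (hefix z hzS).2 hz] at h
    exact h.symm
  have hσ : σ ≠ RingHom.id F := by
    intro h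
    rw [h, RingHom.id_apply, ← pow_two] at hμ2
    have hμ1 : μ = 1 := eq_one_of_pow_two_pow (k := 1) (by simpa using hμ2)
    have hall : ∀ a, μ * σ a = a := fun a => by rw [hμ1, h, one_mul, RingHom.id_apply]
    refine absurd hq (not_lt.2 ?_)
    rw [← hG.ncard_ln hl, ← Nat.card_coe_set_eq]
    refine Nat.card_le_card_of_injective (fun a => (⟨ψ (uu a 0 0) • y, hkeep a (hall a) y hy⟩ : l)) fun a a' e' => ?_
    have e'' : ψ (uu a 0 0) • y = ψ (uu a' 0 0) • y := congrArg Subtype.val e'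
    have h2 : ψ (uu a 0 0 * uu a' 0 0) • y = y := by
      rw [map_mul, mul_smul, ← e'', ← mul_smul, ← map_mul, uu_sq, mul_zero, uu_zero, map_one, one_smul]
    rw [uu_mul] at h2
    exact CharTwo.add_eq_zero.1 ((hfixS _ _ _).2 y (hlS hy) hym h2)
  refine ⟨μ, σ, hσ, hσ2, hconj, ?_, hkeep⟩
  let D : F →+ F :=
    { toFun := fun a => μ * σ a + a
      map_zero' := by simp
      map_add' := fun a b => by rw [map_add]; ring }
  have hrk : D.range ≤ D.ker := by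
    rintro _ ⟨a, rfl⟩
    show μ * σ (μ * σ a + a) + (μ * σ a + a) = 0
    rw [map_add, map_mul, hσ2, mul_add, ← mul_assoc, hμ2, one_mul]
    linear_combination (μ * σ a + a) * CharTwo.two_eq_zero (R := F)
  have hc : Nat.card {a : F // μ * σ a = a} = Nat.card D.ker :=
    Nat.card_congr (Equiv.subtypeEquivRight fun a => CharTwo.add_eq_zero.symm)
  rw [hc, pow_two, ← D.ker.card_mul_index, AddSubgroup.index_ker D]
  exact Nat.mul_le_mul_left _ (AddSubgroup.card_le_of_le hrk)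

/-- **`q` is not the square of `s ≥ 4`.** -/
theorem no_unital [Nonempty Ω] (h3 : 3 ≤ u) (hq : Nat.card F = (u + 1) ^ 2) : False := by
  classical
  have hlt : u + 1 < Nat.card F := by rw [hq]; nlinarith
  obtain ⟨x⟩ := ‹Nonempty Ω›
  obtain ⟨x', hx', -⟩ := hG.exists_dir x (p0 F)
  obtain ⟨S, hS, hxS, hx'S⟩ := hG.exists_pl_of_lin hx'
  set l := lin φ x x' with hl'
  have hl : IsLn φ l := ⟨x, x', hx', rfl⟩
  have hlS : l ⊆ S := IsPl.lin_subset hG hS hxS hx'S hx'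
  obtain ⟨ψ, hψ⟩ := hG.exists_flagGroup hl hS hlS
  obtain ⟨hk, hmem, hfixS⟩ := id hψ
  -- basic facts about `ψ (uu a 0 0)`
  have basic : ∀ {m : Set Ω} {χ : L F →* G}, FlagGroupSpec φ m S χ → ∀ a : F,
      (∀ z ∈ S, χ (uu a 0 0) • z ∈ S) ∧ (∀ z : Ω, χ (uu a 0 0) • χ (uu a 0 0) • z = z) ∧
      (∀ z ∈ m, χ (uu a 0 0) • z = z) ∧ (a ≠ 0 → m ⊆ S → ∀ z ∈ S, χ (uu a 0 0) • z = z ↔ z ∈ m) := by
    intro m χ hχ a
    obtain ⟨-, hmem', hfix'⟩ := hχ
    obtain ⟨-, -, h3, h4⟩ := (hmem' _).1 (mem_U.2 ⟨a, 0, 0, rfl⟩)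
    refine ⟨h4, fun z => ?_, h3, fun ha _ z hz => ⟨fun h => ?_, h3 z⟩⟩
    · rw [← mul_smul, ← map_mul, uu_sq, mul_zero, uu_zero, map_one, one_smul]
    · by_contra hzm
      exact ha ((hfix' a 0 0).2 z hz hzm h)
  obtain ⟨y, hyS, hyl⟩ : ∃ y ∈ S, y ∉ l := by
    by_contra hc
    simp only [not_exists, not_and, not_not] at hc
    have h1 := Set.ncard_le_ncard hc (Set.toFinite _)
    rw [hG.ncard_ln hl, IsPl.ncard hG hS] at h1
    have := two_le_card (F := F)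
    nlinarith [hG.u_pos]
  set e := ψ (uu 1 0 0) with he
  obtain ⟨he1, he2, he3, he4⟩ := basic hψ 1
  have hefix := he4 one_ne_zero hlS
  have hey : e • y ≠ y := fun h => hyl ((hefix y hyS).1 h)
  set m := lin φ y (e • y) with hm'
  have hm : IsLn φ m := ⟨y, e • y, hey, rfl⟩
  have hmS : m ⊆ S := IsPl.lin_subset hG hS hyS (he1 y hyS) hey
  have hem : ∀ z ∈ m, e • z ∈ m := fun z hz => by
    have := hG.smul_mem_lin e hz
    rwa [he2 y, ← hG.lin_symm] at this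
  have hdis : Disjoint m l := by
    rw [Set.disjoint_left]
    intro z hzm hzl
    have hyz : y ≠ z := fun h => hyl (h ▸ hzl)
    have heyz : e • y ≠ z := fun h => hyz (smul_left_cancel e (h.trans (he3 z hzl).symm))
    obtain ⟨he4', hr, -, -⟩ := (hmem e).1 (mem_U.2 ⟨1, 0, 0, rfl⟩)
    obtain ⟨g, hg, hge⟩ := exists_lift (hG.plane.ker z) (hr z hzl) he4'
    have hlin : lin φ z y = m := hG.lin_eq hey hyz hzm (hG.left_mem _ _)
    have hd := (((hG.mem_lin hyz).1 (hlin ▸ right_mem y (e • y))).resolve_left heyz).2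
    rw [← hge, hG.dir_smul hyz] at hd
    exact hey (hge ▸ (hG.dir_iff hyz hg).2 hd)
  obtain ⟨χ, hχ⟩ := hG.exists_flagGroup hm hS hmS
  obtain ⟨μ, σ, hσ, -, -, hcard, hkeep⟩ :=
    hG.flag_sigma hlt hm hl hlS hdis hχ he1 hem (fun z _ => he2 z) hefix
  have hbig : ∀ (μ : F) (σ : F →+* F), Nat.card F ≤ Nat.card {a : F // μ * σ a = a} ^ 2 →
      ∃ a b : F, a ≠ 0 ∧ b ≠ 0 ∧ a + b ≠ 0 ∧ μ * σ a = a ∧ μ * σ b = b := by
    intro μ σ hcard
    haveI := Fintype.ofFinite F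
    have hK : u + 1 ≤ Nat.card {a : F // μ * σ a = a} :=
      (Nat.pow_le_pow_iff_left two_ne_zero).1 (hq ▸ hcard)
    set K := Finset.univ.filter fun a : F => μ * σ a = a with hKd
    have hKc : K.card = Nat.card {a : F // μ * σ a = a} := by
      rw [Nat.card_eq_fintype_card, Fintype.card_subtype]
    have h0 : (0 : F) ∈ K := by simp [K]
    obtain ⟨a, ha, b, hb, hab⟩ := Finset.one_lt_card.1 (show 1 < (K.erase 0).card by
      rw [Finset.card_erase_of_mem h0, hKc]; omega)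
    simp only [K, Finset.mem_erase, Finset.mem_filter, Finset.mem_univ, true_and] at ha hb
    exact ⟨a, b, ha.1, hb.1, fun e => hab (CharTwo.add_eq_zero.1 e), ha.2, hb.2⟩
  obtain ⟨a₁, -, ha₁, -, -, ha₁f, -⟩ := hbig μ σ hcard
  set g := χ (uu a₁ 0 0) with hg
  obtain ⟨hg1, hg2, hg3, hg4⟩ := basic hχ a₁
  -- back to the group of `l`
  obtain ⟨μ', σ', -, -, -, hcard', hkeep'⟩ := hG.flag_sigma hlt hl hm hmS hdis.symm hψ hg1
    (hkeep a₁ ha₁f) (fun z _ => hg2 z) (hg4 ha₁ hmS)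
  obtain ⟨b₁, b₂, hb₁, hb₂, hb₁₂, hb₁f, hb₂f⟩ := hbig μ' σ' hcard'
  have hb₁₂f : μ' * σ' (b₁ + b₂) = b₁ + b₂ := by rw [map_add, mul_add, hb₁f, hb₂f]
  have hsig : ∀ b, b ≠ 0 → μ' * σ' b = b → ∃ (μ : F) (σ : F →+* F), σ ≠ RingHom.id F ∧ (∀ a, σ (σ a) = a) ∧
      ∀ a b' c : F, ∃ p r, ψ (uu b 0 0) * χ (uu a b' c) * (ψ (uu b 0 0))⁻¹ = χ (uu (μ * σ a) p r) := by
    intro b hb hbf
    obtain ⟨h1, h2, h3', h4⟩ := basic hψ b
    obtain ⟨μ, σ, r1, r2, r3, -, -⟩ := hG.flag_sigma hlt hm hl hlS hdis hχ h1 (hkeep' b hbf)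
      (fun z _ => h2 z) (h4 hb hlS)
    exact ⟨μ, σ, r1, r2, r3⟩
  obtain ⟨m1, s1, hs1, hs1', hc1⟩ := hsig b₁ hb₁ hb₁f
  obtain ⟨m2, s2, hs2, hs2', hc2⟩ := hsig b₂ hb₂ hb₂f
  obtain ⟨m3, s3, hs3, -, hc3⟩ := hsig (b₁ + b₂) hb₁₂ hb₁₂f
  have heq : s1 = s2 := (ringHom_facts s1 s2).2 hs1' hs2' hs1 hs2
  have hk' := hχ.1
  have hlin : ∀ a, m3 * s3 a = m1 * s1 m2 * a := by
    intro a
    obtain ⟨p, r, e1⟩ := hc2 a 0 0
    obtain ⟨p', r', e2⟩ := hc1 (m2 * s2 a) p r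
    obtain ⟨p'', r'', e3⟩ := hc3 a 0 0
    have e4 : ψ (uu (b₁ + b₂) 0 0) = ψ (uu b₁ 0 0) * ψ (uu b₂ 0 0) := by rw [← map_mul, uu_mul]; simp
    rw [e4, show ψ (uu b₁ 0 0) * ψ (uu b₂ 0 0) * χ (uu a 0 0) * (ψ (uu b₁ 0 0) * ψ (uu b₂ 0 0))⁻¹ =
      ψ (uu b₁ 0 0) * (ψ (uu b₂ 0 0) * χ (uu a 0 0) * (ψ (uu b₂ 0 0))⁻¹) * (ψ (uu b₁ 0 0))⁻¹ by group,
      e1, e2] at e3
    rw [← (inj_uu hk' e3).1, map_mul, ← heq, hs1', mul_assoc]
  have hm3 : m3 = m1 * s1 m2 := by simpa using hlin 1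
  refine hs3 (RingHom.ext fun a => ?_)
  have hm30 : m3 ≠ 0 := by
    intro h
    obtain ⟨p, r, e3⟩ := hc3 1 0 0
    rw [h, zero_mul] at e3
    have h5 : ∀ z ∈ S, χ (uu 0 p r) • z = z := (hχ.2.2 0 p r).1 rfl
    obtain ⟨hh1, hh2, -, -⟩ := basic hψ (b₁ + b₂)
    obtain ⟨x₁, hx₁⟩ := hG.ln_nonempty hl
    have hx₁m : x₁ ∉ m := fun h => Set.disjoint_left.1 hdis h hx₁
    have hfixl := (basic hψ (b₁ + b₂)).2.2.1 x₁ hx₁
    have h6 := congrArg (· • x₁) e3
    simp only [mul_smul, inv_smul_eq_iff.2 hfixl.symm, h5 x₁ (hlS hx₁)] at h6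
    have h7 : χ (uu 1 0 0) • x₁ = x₁ := smul_left_cancel _ (h6.trans hfixl.symm)
    exact one_ne_zero ((hχ.2.2 1 0 0).2 x₁ (hlS hx₁) hx₁m h7)
  refine mul_left_cancel₀ hm30 ?_
  rw [hlin, RingHom.id_apply, hm3]

end Geo

end CfsgLib.PlaneStab
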