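import Cfsg.Agent.PlaneStab.FlagTwo
import Cfsg.Agent.PlaneStab.Params
import Cfsg.Agent.PlaneStab.Linearity
import Cfsg.Agent.PlaneStab.Unital
import Cfsg.Agent.PlaneStab.Hexad

/-!
# Two-transitive groups of even degree with a normal `PSL(3, 2^n)` in a point stabiliser
-/

set_option autoImplicit false

open Matrix

namespace CfsgLib.PlaneStab

variable {G Ω : Type*} [Group G] [Finite G] [Fintype Ω] [MulAction G Ω] [FaithfulSMul G Ω]

/-- `2^n - 1` is divisible by three for even `n`. -/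
theorem three_dvd_of_even {n : ℕ} (h : Even n) : 3 ∣ 2 ^ n - 1 := by
  obtain ⟨k, rfl⟩ := h
  rw [← two_mul, pow_mul]
  have := Nat.sub_dvd_pow_sub_pow (2 ^ 2) 1 k
  simpa using this

/-- **The theorem.** -/
theorem two_transitive_even_psl (h2 : MulAction.IsMultiplyPretransitive G Ω 2)
    (hev : Even (Fintype.card Ω)) (a : Ω) (N : Subgroup G) (hNle : N ≤ MulAction.stabilizer G a)
    (hNnormal : ∀ g ∈ MulAction.stabilizer G a, ∀ x ∈ N, g * x * g⁻¹ ∈ N) (n : ℕ) (hn : 1 ≤ n)
    (F : Type) [Field F] [Fintype F] (hF : Fintype.card F = 2 ^ n)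
    (e : ↥N ≃* Matrix.ProjectiveSpecialLinearGroup (Fin 3) F) :
    (∀ x y : Ω, x ≠ a → y ≠ a → ∃ g ∈ N, g • x = y) ∧
    ((Odd n ∧ ∃ E : Subgroup G, E.Normal ∧ Nat.card E = (2 ^ n) ^ 3 ∧ (∀ x y : Ω, ∃ r ∈ E, r • x = y) ∧
        ∀ x : Ω, ∀ r ∈ E, r • x = x → r = 1) ∨
     (Fintype.card Ω = 22 ∧ n = 2 ∧ (Cfsg.Spor.IsoM22 G ∨ ∃ H : Subgroup G, H.index = 2 ∧ Cfsg.Spor.IsoM22 ↥H))) := by
  classical
  haveI : CharP F 2 := charP_of_card_eq_prime_pow (f := n) hF
  haveI : Nonempty Ω := ⟨a⟩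
  haveI := h2
  have htr : ∀ p r s t : Ω, p ≠ r → s ≠ t → ∃ g : G, g • p = s ∧ g • r = t := fun p r s t h h' =>
    (MulAction.is_two_pretransitive_iff (G := G) (α := Ω)).1 h2 h h'
  have hpre : ∀ x : Ω, ∃ g : G, g • a = x := by
    intro x
    rcases eq_or_ne x a with rfl | hx
    · exact ⟨1, one_smul _ _⟩
    · obtain ⟨g, hg, -⟩ := htr a x x a hx.symm hx
      exact ⟨g, hg⟩
  choose γ hγ using hpre
  let φa : L F →* G := N.subtype.comp (e.symm.toMonoidHom.comp (QuotientGroup.mk' _))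
  have hker : φa.ker = Subgroup.center (L F) := by
    ext g
    simp only [φa, MonoidHom.mem_ker, MonoidHom.coe_comp, Function.comp_apply, MulEquiv.coe_toMonoidHom,
      Subgroup.coe_subtype, OneMemClass.coe_eq_one]
    rw [EmbeddingLike.map_eq_one_iff, QuotientGroup.mk'_apply, QuotientGroup.eq_one_iff]
  have hrange : φa.range = N := by
    ext g
    constructor
    · rintro ⟨x, rfl⟩
      exact (e.symm (QuotientGroup.mk' _ x)).2
    · intro hg
      obtain ⟨x, hx⟩ := QuotientGroup.mk'_surjective _ (e ⟨g, hg⟩)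
      refine ⟨x, ?_⟩
      show ((e.symm (QuotientGroup.mk' _ x) : N) : G) = g
      rw [hx, e.symm_apply_apply]
  let φ : Ω → L F →* G := fun x => (MulAut.conj (γ x)).toMonoidHom.comp φa
  have hP : Plane φ := by
    refine ⟨fun x => ?_, fun x g => ?_, fun g x m hm => ?_, htr, by rw [Nat.card_eq_fintype_card]; exact hev⟩
    · intro g hg
      rw [← hker]
      rw [MonoidHom.mem_ker] at hg ⊢
      exact (MulAut.conj (γ x)).injective (hg.trans (map_one _).symm)
    · show (γ x * φa g * (γ x)⁻¹) • x = x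
      have hga : φa g • a = a := hNle (hrange ▸ ⟨g, rfl⟩)
      rw [mul_smul, mul_smul, show (γ x)⁻¹ • x = a by rw [inv_smul_eq_iff]; exact (hγ x).symm, hga, hγ]
    · obtain ⟨m', rfl⟩ := hm
      set k := (γ (g • x))⁻¹ * g * γ x with hk
      have hka : k ∈ MulAction.stabilizer G a := by
        rw [MulAction.mem_stabilizer_iff, hk, mul_smul, mul_smul, hγ, inv_smul_eq_iff]
        exact (hγ (g • x)).symm
      have hm : k * φa m' * k⁻¹ ∈ φa.range := by
        rw [hrange]; exact hNnormal k hka _ (hrange ▸ ⟨m', rfl⟩)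
      obtain ⟨m'', hm''⟩ := hm
      refine ⟨m'', ?_⟩
      show γ (g • x) * φa m'' * (γ (g • x))⁻¹ = g * (γ x * φa m' * (γ x)⁻¹) * g⁻¹
      rw [hm'', hk]
      group
  have hra : (φ a).range = N := by
    have hga : γ a ∈ MulAction.stabilizer G a := hγ a
    ext m
    constructor
    · rintro ⟨x, rfl⟩
      exact hNnormal _ hga _ (hrange ▸ ⟨x, rfl⟩)
    · intro hm
      have : (γ a)⁻¹ * m * γ a ∈ N := by simpa using hNnormal _ (inv_mem hga) m hm
      rw [← hrange] at this
      obtain ⟨x, hx⟩ := this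
      refine ⟨x, ?_⟩
      show γ a * φa x * (γ a)⁻¹ = m
      rw [hx]; group
  rcases exists_kind hP with ⟨φ', hP', hr, hd⟩ | hd
  swap
  · obtain ⟨u, hG⟩ := Geo.of_plane hP kind_flag hd
    exact hG.flag_false.elim
  obtain ⟨u, hG⟩ := Geo.of_plane hP' kind_pt hd
  have hra' : (φ' a).range = N := (hr a).trans hra
  have hNtr : ∀ (g : L F), φ' a g ∈ N := fun g => hra' ▸ ⟨g, rfl⟩
  have hcF : Nat.card F = 2 ^ n := by rw [Nat.card_eq_fintype_card, hF]
  have hNc : Nat.card N = Nat.card (Matrix.ProjectiveSpecialLinearGroup (Fin 3) F) := Nat.card_congr e.toEquiv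
  have hgcd := Linear.card_PSL_mul (n := Fin 3) (F := F)
  rw [hF, Fintype.card_fin, ← hNc] at hgcd
  rcases hG.params with hu | hu
  · obtain ⟨hk, htrans⟩ := hG.linear hu a
    obtain ⟨hnorm, hcard, -, -, htrE, hfree⟩ := hG.allTranslations_spec hu
    refine ⟨fun x y hx hy => ?_, Or.inl ⟨?_, hG.allTranslations, hnorm, by rw [hcard, hcF],
      htrE, fun x r hr e => hfree r hr x e⟩⟩
    · obtain ⟨g, hg⟩ := htrans x y hx hy
      exact ⟨_, hNtr g, hg⟩
    · by_contra hodd
      rw [Nat.not_odd_iff_even] at hodd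
      have hc : Nat.card N = Nat.card (L F) := by
        rw [← hra', Nat.card_congr (MonoidHom.ofInjective ((φ' a).ker_eq_bot_iff.1 hk)).toEquiv.symm]
      rw [Nat.gcd_eq_left (three_dvd_of_even hodd), hc] at hgcd
      have : 0 < Nat.card (L F) := Nat.card_pos
      change 3 * Nat.card (L F) = Nat.card (L F) at hgcd
      omega
  · by_cases hu1 : u = 1
    · have hn2 : n = 2 := by
        rw [hu1, hcF] at hu
        exact Nat.pow_right_injective le_rfl (hu.trans (by norm_num : (1 + 1) ^ 2 = 2 ^ 2))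
      have hq4 : Nat.card F = 4 := by rw [hcF, hn2]; norm_num
      have hN20 : Nat.card (φ' a).range = 20160 := by
        rw [hra']
        have h := card_L (F := F)
        rw [hn2] at hgcd
        rw [hF, hn2] at h
        change Nat.gcd 3 (2 ^ 2 - 1) * Nat.card N = Nat.card (L F) at hgcd
        rw [h] at hgcd
        norm_num at hgcd
        omega
      obtain ⟨hv, hM⟩ := hG.mathieu hu1 hq4 a hN20
      refine ⟨fun x y hx hy => ?_, Or.inr ⟨by rw [← Nat.card_eq_fintype_card]; exact hv, hn2, hM⟩⟩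
      obtain ⟨g, hg⟩ := hG.transitive_of_u_one hu1 hx hy
      exact ⟨_, hNtr g, hg⟩
    · have hodd := hG.u_odd
      obtain ⟨k, hk⟩ := hodd
      exact (hG.no_unital (by omega) hu).elim

end CfsgLib.PlaneStab
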