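import Cfsg.Agent.PlaneStab.Space

/-!
# The affine case: parallel lines
-/

set_option autoImplicit false

open Matrix

namespace CfsgLib.PlaneStab

variable {F : Type*} [Field F] {G Ω : Type*} [Group G] [MulAction G Ω] {φ : Ω → L F →* G} {u : ℕ}

/-- A line. -/
def IsLn (φ : Ω → L F →* G) (m : Set Ω) : Prop := ∃ x y : Ω, y ≠ x ∧ m = lin φ x y

variable [CharP F 2] [Finite F] [Finite G] [Finite Ω] [FaithfulSMul G Ω]

/-- Parallel lines: equal, or coplanar and disjoint. -/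
def Geo.Par (hG : Geo φ (Pt F) u) (m m' : Set Ω) : Prop :=
  IsLn φ m ∧ IsLn φ m' ∧ (m = m' ∨ Disjoint m m' ∧ ∃ S, hG.IsPl S ∧ m ⊆ S ∧ m' ⊆ S)

namespace Geo

variable (hG : Geo φ (Pt F) u)
include hG

theorem ncard_ln {m : Set Ω} (hm : IsLn φ m) : m.ncard = u + 1 := by
  obtain ⟨x, y, hy, rfl⟩ := hm
  exact hG.ncard_lin hy

theorem ln_nonempty {m : Set Ω} (hm : IsLn φ m) : m.Nonempty := by
  obtain ⟨x, y, -, rfl⟩ := hm
  exact ⟨x, hG.left_mem x y⟩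

theorem ln_eq {m : Set Ω} (hm : IsLn φ m) {p r : Ω} (h : r ≠ p) (hp : p ∈ m) (hr : r ∈ m) :
    m = lin φ p r := by
  obtain ⟨x, y, hy, rfl⟩ := hm
  exact (hG.lin_eq hy h hp hr).symm

theorem exists_ne_mem {m : Set Ω} (hm : IsLn φ m) (p : Ω) : ∃ r ∈ m, r ≠ p := by
  obtain ⟨x, y, hy, rfl⟩ := hm
  rcases eq_or_ne x p with rfl | h
  · exact ⟨y, right_mem _ _, hy⟩
  · exact ⟨x, hG.left_mem _ _, h⟩

theorem ln_of_mem {m : Set Ω} (hm : IsLn φ m) {p : Ω} (hp : p ∈ m) :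
    ∃ r, r ≠ p ∧ m = lin φ p r := by
  obtain ⟨r, hr, hne⟩ := hG.exists_ne_mem hm p
  exact ⟨r, hne, hG.ln_eq hm hne hp hr⟩

theorem ln_eq_of_two {m m' : Set Ω} (hm : IsLn φ m) (hm' : IsLn φ m') {p r : Ω} (h : r ≠ p)
    (hp : p ∈ m) (hr : r ∈ m) (hp' : p ∈ m') (hr' : r ∈ m') : m = m' :=
  (hG.ln_eq hm h hp hr).trans (hG.ln_eq hm' h hp' hr').symm

theorem ln_eq_of_subset {m m' : Set Ω} (hm : IsLn φ m) (hm' : IsLn φ m') (h : m ⊆ m') : m = m' :=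
  Set.eq_of_subset_of_ncard_le h (by rw [hG.ncard_ln hm, hG.ncard_ln hm']) (Set.toFinite _)

theorem ln_subset_pl {m S : Set Ω} (hm : IsLn φ m) (hS : hG.IsPl S) {p r : Ω} (h : r ≠ p)
    (hp : p ∈ m) (hr : r ∈ m) (hpS : p ∈ S) (hrS : r ∈ S) : m ⊆ S := by
  rw [hG.ln_eq hm h hp hr]
  exact IsPl.lin_subset hG hS hpS hrS h

theorem pl_inter_ln {m S S' : Set Ω} (hm : IsLn φ m) (hS : hG.IsPl S) (hS' : hG.IsPl S') (hne : S ≠ S')
    (h : m ⊆ S) (h' : m ⊆ S') : S ∩ S' = m := by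
  obtain ⟨x, hx⟩ := hG.ln_nonempty hm
  obtain ⟨y, hy, e⟩ := hG.pl_inter hS hS' hne (h hx) (h' hx)
  rw [e]
  exact (hG.ln_eq_of_subset hm ⟨x, y, hy, rfl⟩ (e ▸ Set.subset_inter h h')).symm

theorem exists_pl_ln {m : Set Ω} (hm : IsLn φ m) {z : Ω} (hz : z ∉ m) :
    ∃ S, hG.IsPl S ∧ m ⊆ S ∧ z ∈ S := by
  obtain ⟨x, y, hy, rfl⟩ := hm
  obtain ⟨S, hS, h1, h2, h3⟩ := hG.exists_pl hy hz
  exact ⟨S, hS, IsPl.lin_subset hG hS h1 h2 hy, h3⟩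

theorem pl_unique_ln {m S S' : Set Ω} (hm : IsLn φ m) (hS : hG.IsPl S) (hS' : hG.IsPl S') {z : Ω}
    (hz : z ∉ m) (h : m ⊆ S) (hzS : z ∈ S) (h' : m ⊆ S') (hzS' : z ∈ S') : S = S' := by
  obtain ⟨x, y, hy, rfl⟩ := hm
  exact hG.pl_unique hS hS' hy hz (h (hG.left_mem _ _)) (h (right_mem _ _)) hzS
    (h' (hG.left_mem _ _)) (h' (right_mem _ _)) hzS'

theorem ln_smul {m : Set Ω} (hm : IsLn φ m) (g : G) : IsLn φ ((g • ·) '' m) := by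
  obtain ⟨x, y, hy, rfl⟩ := hm
  refine ⟨g • x, g • y, fun e => hy (smul_left_cancel g e), ?_⟩
  ext z
  constructor
  · rintro ⟨w, hw, rfl⟩
    exact hG.smul_mem_lin g hw
  · intro hz
    have := hG.smul_mem_lin g⁻¹ hz
    rw [inv_smul_smul, inv_smul_smul] at this
    exact ⟨g⁻¹ • z, this, smul_inv_smul g z⟩

/-- **Parallels in a plane.** -/
theorem par_in_plane (hu : u + 1 = Nat.card F) {m S : Set Ω} (hm : IsLn φ m) (hS : hG.IsPl S)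
    (hmS : m ⊆ S) {z : Ω} (hzS : z ∈ S) (hz : z ∉ m) :
    (∃ m', IsLn φ m' ∧ z ∈ m' ∧ m' ⊆ S ∧ Disjoint m m') ∧
      ∀ m' m'', IsLn φ m' → IsLn φ m'' → z ∈ m' → z ∈ m'' → m' ⊆ S → m'' ⊆ S → Disjoint m m' →
        Disjoint m m'' → m' = m'' := by
  classical
  haveI := Fintype.ofFinite (Pt F)
  obtain ⟨w, hw⟩ := IsPl.exists_at hG hS hzS
  have hne : ∀ p ∈ m, p ≠ z := fun p hp e => hz (e ▸ hp)
  have hinj : Set.InjOn (hG.dirOf z) m := by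
    intro p hp r hr e
    by_contra hpr
    have h1 : r ∈ lin φ z p := (hG.mem_lin (hne p hp)).2 (Or.inr ⟨hne r hr, e.symm⟩)
    have h2 : m = lin φ z p := by
      rw [hG.ln_eq hm (Ne.symm hpr) hp hr]
      exact hG.lin_eq (hne p hp) (Ne.symm hpr) (right_mem _ _) h1
    exact hz (h2 ▸ hG.left_mem z p)
  have hsub : hG.dirOf z '' m ⊆ {d | inc d w} := by
    rintro _ ⟨p, hp, rfl⟩
    exact (hG.mem_pl (hne p hp)).1 (hw ▸ hmS hp)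
  have hc1 : (hG.dirOf z '' m).ncard = u + 1 := by rw [hinj.ncard_image, hG.ncard_ln hm]
  have hc2 : {d : Pt F | inc d w}.ncard = u + 2 := by
    rw [← Nat.card_coe_set_eq]
    show Nat.card {d : Pt F // inc d w} = _
    rw [card_inc, ← hu]
  have hc3 : ({d : Pt F | inc d w} \ hG.dirOf z '' m).ncard = 1 := by
    rw [Set.ncard_sdiff hsub (Set.toFinite _), hc1, hc2]; omega
  obtain ⟨d0, hd0⟩ := Set.ncard_eq_one.1 hc3
  have hd0' : inc d0 w ∧ d0 ∉ hG.dirOf z '' m := by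
    have : d0 ∈ ({d : Pt F | inc d w} \ hG.dirOf z '' m) := hd0 ▸ rfl
    exact this
  obtain ⟨r, hr, hrd⟩ := hG.exists_dir z d0
  refine ⟨⟨lin φ z r, ⟨z, r, hr, rfl⟩, hG.left_mem z r, ?_, ?_⟩, ?_⟩
  · exact IsPl.lin_subset hG hS hzS (hw ▸ (hG.mem_pl hr).2 (hrd ▸ hd0'.1)) hr
  · rw [Set.disjoint_left]
    intro p hp hp'
    refine hd0'.2 ⟨p, hp, ?_⟩
    rw [((hG.mem_lin hr).1 hp').resolve_left (hne p hp) |>.2, hrd]
  · intro m' m'' hm' hm'' h1 h2 h1S h2S h1d h2d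
    obtain ⟨r', hr', rfl⟩ := hG.ln_of_mem hm' h1
    obtain ⟨r'', hr'', rfl⟩ := hG.ln_of_mem hm'' h2
    have key : ∀ {r}, r ≠ z → lin φ z r ⊆ S → Disjoint m (lin φ z r) → hG.dirOf z r = d0 := by
      intro r hr hrS hd
      have : hG.dirOf z r ∈ ({d : Pt F | inc d w} \ hG.dirOf z '' m) := by
        refine ⟨(hG.mem_pl hr).1 (hw ▸ hrS (right_mem _ _)), ?_⟩
        rintro ⟨p, hp, e⟩
        exact Set.disjoint_left.1 hd hp ((hG.mem_lin hr).2 (Or.inr ⟨hne p hp, e⟩))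
      rw [hd0] at this
      exact this
    rw [lin, lin, hG.TT_eq_of_dir hr'' hr' ((key hr' h1S h1d).trans (key hr'' h2S h2d).symm)]

theorem par_refl {m : Set Ω} (hm : IsLn φ m) : hG.Par m m := ⟨hm, hm, Or.inl rfl⟩

theorem Par.symm {m m' : Set Ω} (h : hG.Par m m') : hG.Par m' m := by
  obtain ⟨h1, h2, h3 | ⟨h3, S, hS, h4, h5⟩⟩ := h
  · exact ⟨h2, h1, Or.inl h3.symm⟩
  · exact ⟨h2, h1, Or.inr ⟨h3.symm, S, hS, h5, h4⟩⟩

theorem Par.eq_of_mem {m m' : Set Ω} (h : hG.Par m m') {z : Ω} (hz : z ∈ m) (hz' : z ∈ m') :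
    m = m' := h.2.2.resolve_right fun h' => Set.disjoint_left.1 h'.1 hz hz'

theorem Par.smul {m m' : Set Ω} (h : hG.Par m m') (g : G) :
    hG.Par ((g • ·) '' m) ((g • ·) '' m') := by
  obtain ⟨h1, h2, h3 | ⟨h3, S, hS, h4, h5⟩⟩ := h
  · exact ⟨hG.ln_smul h1 g, hG.ln_smul h2 g, Or.inl (by rw [h3])⟩
  · exact ⟨hG.ln_smul h1 g, hG.ln_smul h2 g, Or.inr ⟨Set.disjoint_image_of_injective
      (MulAction.injective g) h3, _, IsPl.smul hG hS g, Set.image_mono h4, Set.image_mono h5⟩⟩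

variable (hu : u + 1 = Nat.card F)
include hu

/-- **Transitivity.** -/
theorem Par.trans {m₁ m₂ m₃ : Set Ω} (h : hG.Par m₁ m₂) (h' : hG.Par m₂ m₃) : hG.Par m₁ m₃ := by
  obtain ⟨l1, l2, e | ⟨d12, T, hT, h1T, h2T⟩⟩ := h
  · exact e ▸ h'
  obtain ⟨-, l3, e | ⟨d23, T', hT', h2T', h3T'⟩⟩ := h'
  · exact e ▸ ⟨l1, l2, Or.inr ⟨d12, T, hT, h1T, h2T⟩⟩
  refine ⟨l1, l3, ?_⟩
  by_cases hTT : T = T'
  · subst hTT
    rcases eq_or_ne m₁ m₃ with e | e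
    · exact Or.inl e
    refine Or.inr ⟨Set.disjoint_left.2 fun z hz hz3 => e ?_, T, hT, h1T, h3T'⟩
    exact (hG.par_in_plane hu l2 hT h2T (h1T hz) (Set.disjoint_left.1 d12 hz)).2
      m₁ m₃ l1 l3 hz hz3 h1T h3T' d12.symm d23
  have hint : T ∩ T' = m₂ := hG.pl_inter_ln l2 hT hT' hTT h2T h2T'
  have d13 : Disjoint m₁ m₃ := Set.disjoint_left.2 fun z hz hz3 =>
    Set.disjoint_left.1 d12 hz (hint ▸ ⟨h1T hz, h3T' hz3⟩)
  obtain ⟨z, hz⟩ := hG.ln_nonempty l3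
  have hz1 : z ∉ m₁ := fun h => Set.disjoint_left.1 d13 h hz
  obtain ⟨S, hS, h1S, hzS⟩ := hG.exists_pl_ln l1 hz1
  have hz2 : z ∉ m₂ := fun h => Set.disjoint_left.1 d23 h hz
  have hST : S ≠ T := fun e => hz2 (hint ▸ ⟨e ▸ hzS, h3T' hz⟩)
  have hST' : S ≠ T' := by
    intro e
    have hs : m₁ ⊆ m₂ := hint ▸ Set.subset_inter h1T (e ▸ h1S)
    obtain ⟨y, hy⟩ := hG.ln_nonempty l1
    exact Set.disjoint_left.1 d12 hy (hs hy)
  have hi1 : S ∩ T = m₁ := hG.pl_inter_ln l1 hS hT hST h1S h1T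
  obtain ⟨y, hy, hi2⟩ := hG.pl_inter hS hT' hST' hzS (h3T' hz)
  have hd : Disjoint m₂ (lin φ z y) := by
    rw [Set.disjoint_left]
    intro p hp hp'
    rw [← hi2] at hp'
    exact Set.disjoint_left.1 d12 (hi1 ▸ ⟨hp'.1, h2T hp⟩) hp
  have e : lin φ z y = m₃ :=
    (hG.par_in_plane hu l2 hT' h2T' (h3T' hz) hz2).2 _ _ ⟨z, y, hy, rfl⟩ l3 (hG.left_mem z y) hz
      (hi2 ▸ Set.inter_subset_right) h3T' hd d23
  exact Or.inr ⟨d13, S, hS, h1S, e ▸ hi2 ▸ Set.inter_subset_left⟩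

/-- There is a parallel through every point. -/
theorem exists_par {m : Set Ω} (hm : IsLn φ m) (z : Ω) : ∃ m', hG.Par m m' ∧ z ∈ m' := by
  by_cases hz : z ∈ m
  · exact ⟨m, hG.par_refl hm, hz⟩
  obtain ⟨S, hS, hmS, hzS⟩ := hG.exists_pl_ln hm hz
  obtain ⟨m', hm', h1, h2, h3⟩ := (hG.par_in_plane hu hm hS hmS hzS hz).1
  exact ⟨m', ⟨hm, hm', Or.inr ⟨h3, S, hS, hmS, h2⟩⟩, h1⟩

theorem par_unique {m m₁ m₂ : Set Ω} (h1 : hG.Par m m₁) (h2 : hG.Par m m₂) {z : Ω} (hz1 : z ∈ m₁)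
    (hz2 : z ∈ m₂) : m₁ = m₂ :=
  Par.eq_of_mem hG (Par.trans hG hu (Par.symm hG h1) h2) hz1 hz2

/-- A plane with a line contains the parallels through its points. -/
theorem par_subset_pl {m m' S : Set Ω} (h : hG.Par m m') (hS : hG.IsPl S) (hmS : m ⊆ S) {z : Ω}
    (hz : z ∈ m') (hzS : z ∈ S) : m' ⊆ S := by
  by_cases hzm : z ∈ m
  · rwa [← Par.eq_of_mem hG h hzm hz]
  obtain ⟨m'', hm'', h1, h2, h3⟩ := (hG.par_in_plane hu h.1 hS hmS hzS hzm).1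
  rwa [hG.par_unique hu h ⟨h.1, hm'', Or.inr ⟨h3, S, hS, hmS, h2⟩⟩ hz h1]

theorem ncard_pl' (x : Ω) (w : Pt F) : (hG.pl x w).ncard = Nat.card F ^ 2 := by
  rw [hG.ncard_pl, ← hu]; ring

theorem IsPl.ncard' {S : Set Ω} (hS : hG.IsPl S) : S.ncard = Nat.card F ^ 2 := by
  rw [IsPl.ncard hG hS, ← hu]; ring

theorem card_omega' (x : Ω) : Nat.card Ω = Nat.card F ^ 3 := by
  rw [hG.card_points x, card_pt, ← hu]; ring

end Geo

end CfsgLib.PlaneStab
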