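import Cfsg.Agent.PlaneStab.Elem

/-!
# Flags as directions: pencils
-/

set_option autoImplicit false

open Matrix

namespace CfsgLib.PlaneStab

variable {F : Type*} [Field F] [CharP F 2] [Finite F] {G Ω : Type*} [Group G] [MulAction G Ω]

/-- The flags on a point. -/
def ptPencil (p : Pt F) : Set (Flag F) := {f | f.1.1 = p}

/-- The flags on a line. -/
def lnPencil (w : Pt F) : Set (Flag F) := {f | f.1.2 = w}

/-- A pencil: all flags on a point or all flags on a line. -/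
def IsPencilDir (D : Set (Flag F)) : Prop := (∃ p, D = ptPencil p) ∨ ∃ w, D = lnPencil w

theorem card_ptPencil (p : Pt F) : Nat.card {f : Flag F // f ∈ ptPencil p} = Nat.card F + 1 := by
  rw [← card_inc' p]
  refine (Nat.card_congr (Equiv.ofBijective
    (fun w : {w : Pt F // inc p w} => (⟨⟨(p, w.1), w.2⟩, rfl⟩ : {f : Flag F // f ∈ ptPencil p}))
    ⟨fun a b e => Subtype.ext (congrArg (fun f => f.1.1.2) e :), ?_⟩)).symm
  rintro ⟨⟨⟨p', w⟩, hpw⟩, rfl⟩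
  exact ⟨⟨w, hpw⟩, rfl⟩

theorem card_lnPencil (w : Pt F) : Nat.card {f : Flag F // f ∈ lnPencil w} = Nat.card F + 1 := by
  rw [← card_inc w]
  refine (Nat.card_congr (Equiv.ofBijective
    (fun p : {p : Pt F // inc p w} => (⟨⟨(p.1, w), p.2⟩, rfl⟩ : {f : Flag F // f ∈ lnPencil w}))
    ⟨fun a b e => Subtype.ext (congrArg (fun f => f.1.1.1) e :), ?_⟩)).symm
  rintro ⟨⟨⟨p, w'⟩, hpw⟩, rfl⟩
  exact ⟨⟨p, hpw⟩, rfl⟩

theorem IsPencilDir.card {D : Set (Flag F)} (h : IsPencilDir D) :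
    Nat.card {f : Flag F // f ∈ D} = Nat.card F + 1 := by
  rcases h with ⟨p, rfl⟩ | ⟨w, rfl⟩
  · exact card_ptPencil p
  · exact card_lnPencil w

/-- Flags fixed by the transvections with a given centre. -/
theorem fixed_qp_iff (k : L F) (f : Flag F) :
    (∀ g ∈ qp F, (k * g * k⁻¹) • f = f) ↔ f ∈ ptPencil (k • p0 F) := by
  have e : ∀ g : L F, (k * g * k⁻¹) • f = f ↔ g • (k⁻¹ • f) = k⁻¹ • f := fun g => by
    rw [mul_smul, mul_smul]; exact eq_inv_smul_iff.symm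
  simp only [e]
  show _ ↔ f.1.1 = k • p0 F
  rw [← inv_smul_eq_iff]
  exact ⟨fun h => eq_p0_of_fixed fun x z => (flag_fixed.1 (h _ ⟨x, z, rfl⟩)).1,
    fun h => by rintro g ⟨x, z, rfl⟩; exact fix_of_point h⟩

/-- Flags fixed by the transvections with a given axis. -/
theorem fixed_ql_iff (k : L F) (f : Flag F) :
    (∀ g ∈ ql F, (k * g * k⁻¹) • f = f) ↔ f ∈ lnPencil (dv k • p2 F) := by
  have e : ∀ g : L F, (k * g * k⁻¹) • f = f ↔ g • (k⁻¹ • f) = k⁻¹ • f := fun g => by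
    rw [mul_smul, mul_smul]; exact eq_inv_smul_iff.symm
  simp only [e]
  show _ ↔ f.1.2 = dv k • p2 F
  rw [← inv_smul_eq_iff, ← dv_inv]
  exact ⟨fun h => eq_p2_of_fixed fun y z => (flag_fixed.1 (h _ ⟨y, z, rfl⟩)).2,
    fun h => by rintro g ⟨y, z, rfl⟩; exact fix_of_line h⟩

/-- The flags fixed by an involution make two pencils. -/
theorem flags_involution {g : L F} (hg1 : g ≠ 1) (hg2 : g ^ 2 = 1) :
    ∃ C A : Pt F, inc C A ∧ ∀ f : Flag F, g • f = f ↔ f ∈ ptPencil C ∨ f ∈ lnPencil A := by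
  haveI := Fintype.ofFinite F
  obtain ⟨k, x, y, z, e⟩ := exists_conj_mem_upper
    (show g ^ 4 = 1 by rw [show 4 = 2 * 2 from rfl, pow_mul, hg2, one_pow])
  have hxy : x = 0 ∨ y = 0 := by
    apply (uu_sq_eq_one_iff (z := z)).1
    rw [← e, conj_inv_pow, hg2, mul_one, inv_mul_cancel]
  have hne : x ≠ 0 ∨ y ≠ 0 ∨ z ≠ 0 := by
    by_contra hc
    simp only [not_or, not_not] at hc
    rw [hc.1, hc.2.1, hc.2.2, uu_zero, mul_assoc, inv_mul_eq_iff_eq_mul, mul_one] at e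
    exact hg1 (mul_eq_right.1 e)
  obtain ⟨A, C, hCA, hA, hC⟩ := involution_axis hxy hne
  refine ⟨k • C, dv k • A, (inc_smul k C A).2 hCA, fun f => ?_⟩
  have e2 : g • f = f ↔ uu x y z • (k⁻¹ • f) = k⁻¹ • f := by
    rw [← e, mul_smul, mul_smul, smul_inv_smul, smul_left_cancel_iff]
  show _ ↔ f.1.1 = k • C ∨ f.1.2 = dv k • A
  rw [e2, flag_fixed, hA, hC, ← inv_smul_eq_iff, ← inv_smul_eq_iff, ← dv_inv]
  show inc (k⁻¹ • f.1.1) A ∧ inc C (dv k⁻¹ • f.1.2) ↔ _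
  constructor
  · rintro ⟨h1, h2⟩
    by_cases hp : k⁻¹ • f.1.1 = C
    · exact Or.inl hp
    · exact Or.inr (inc_unique hp ((inc_smul _ _ _).2 f.2) h2 h1 hCA)
  · rintro (hp | hw)
    · exact ⟨hp ▸ hCA, by rw [← hp]; exact (inc_smul _ _ _).2 f.2⟩
    · exact ⟨by rw [← hw]; exact (inc_smul _ _ _).2 f.2, hw ▸ hCA⟩

variable [Finite G] [Finite Ω] [FaithfulSMul G Ω]

/-- A pencil at `x`. -/
def Geo.IsPencil {φ : Ω → L F →* G} {u : ℕ} (hG : Geo φ (Flag F) u) (x : Ω) (H : Set Ω) : Prop :=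
  ∃ D, IsPencilDir D ∧ H = {y | y = x ∨ y ≠ x ∧ hG.dirOf x y ∈ D}

namespace Geo

variable {φ : Ω → L F →* G} {u : ℕ} (hG : Geo φ (Flag F) u)
include hG

/-- A pencil is the fixed set of an elementary abelian group of order `q^2`. -/
theorem IsPencil.exists_group {x : Ω} {H : Set Ω} (hH : hG.IsPencil x H) :
    ∃ A : Subgroup G, A ≤ (φ x).range ∧ (∀ a ∈ A, a ^ 2 = 1) ∧ Nat.card A = Nat.card F ^ 2 ∧
      H = {y | ∀ a ∈ A, a • y = y} := by
  obtain ⟨D, hD, rfl⟩ := hH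
  have main : ∀ (k : L F) (Q : Subgroup (L F)), (∀ g ∈ Q, g ^ 2 = 1) →
      Nat.card (Q.map ((φ x).comp (MulAut.conj k).toMonoidHom)) = Nat.card F ^ 2 →
      (∀ f : Flag F, (∀ g ∈ Q, (k * g * k⁻¹) • f = f) ↔ f ∈ D) →
      ∃ A : Subgroup G, A ≤ (φ x).range ∧ (∀ a ∈ A, a ^ 2 = 1) ∧ Nat.card A = Nat.card F ^ 2 ∧
        {y | y = x ∨ y ≠ x ∧ hG.dirOf x y ∈ D} = {y | ∀ a ∈ A, a • y = y} := by
    intro k Q hQ hc hfix
    have h4 : ∀ g ∈ Q, (k * g * k⁻¹) ^ 4 = 1 := fun g hg =>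
      conj_four k g (by rw [show 4 = 2 * 2 from rfl, pow_mul, hQ g hg, one_pow])
    refine ⟨_, (Subgroup.map_le_range _ _).trans (range_comp_conj _ k).le, ?_, hc, ?_⟩
    · rintro _ ⟨g, hg, rfl⟩
      rw [← map_pow, hQ g hg, map_one]
    · ext y
      simp only [Set.mem_setOf_eq, Subgroup.mem_map, forall_exists_index, and_imp]
      constructor
      · rintro (rfl | ⟨hy, hd⟩) _ g hg rfl
        · exact hG.plane.fix _ _
        · exact (hG.dir_iff hy (h4 g hg)).2 ((hfix _).2 hd g hg)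
      · intro h
        rcases eq_or_ne y x with hy | hy
        · exact Or.inl hy
        · exact Or.inr ⟨hy, (hfix _).1 fun g hg => (hG.dir_iff hy (h4 g hg)).1 (h _ g hg rfl)⟩
  rcases hD with ⟨p, rfl⟩ | ⟨w, rfl⟩
  · obtain ⟨k, rfl⟩ := exists_smul_eq_pt (p0 F) p
    refine main k (qp F) ?_ (card_map_qp (ker_comp_conj (hG.plane.ker x) k)) (fixed_qp_iff k)
    rintro _ ⟨a, c, rfl⟩
    exact uu_sq_eq_one_iff.2 (Or.inr rfl)
  · obtain ⟨k, hk⟩ := exists_smul_eq_pt (p2 F) w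
    refine main (dv k) (ql F) ?_ (card_map_ql (ker_comp_conj (hG.plane.ker x) _))
      (fun f => (fixed_ql_iff (dv k) f).trans (by rw [dv_dv, hk]))
    rintro _ ⟨a, c, rfl⟩
    exact uu_sq_eq_one_iff.2 (Or.inl rfl)

/-- A pencil is a pencil at each of its points. -/
theorem IsPencil.move {x y : Ω} {H : Set Ω} (hH : hG.IsPencil x H) (hy : y ∈ H) :
    hG.IsPencil y H := by
  obtain ⟨A, hA, hA2, hAc, rfl⟩ := IsPencil.exists_group hG hH
  have hAy : A ≤ (φ y).range := fun a ha => hG.mem_range_of_fix (hA ha)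
    (by rw [show 4 = 2 * 2 from rfl, pow_mul, hA2 a ha, one_pow]) (hy a ha)
  obtain ⟨h, hA' | hA'⟩ := elem_cases (hG.plane.ker y) hAy hA2 hAc.ge
  · refine ⟨ptPencil (h • p0 F), Or.inl ⟨_, rfl⟩, ?_⟩
    ext z
    simp only [Set.mem_setOf_eq, hA', Subgroup.mem_map, forall_exists_index, and_imp]
    constructor
    · intro hz
      rcases eq_or_ne z y with e | e
      · exact Or.inl e
      · exact Or.inr ⟨e, (fixed_qp_iff h _).1 fun g hg =>
          (hG.dir_iff e (conj_four h g (pow_four_qp hg))).1 (hz _ g hg rfl)⟩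
    · rintro (rfl | ⟨e, hd⟩) _ g hg rfl
      · exact hG.plane.fix _ _
      · exact (hG.dir_iff e (conj_four h g (pow_four_qp hg))).2 ((fixed_qp_iff h _).2 hd g hg)
  · refine ⟨lnPencil (dv h • p2 F), Or.inr ⟨_, rfl⟩, ?_⟩
    ext z
    simp only [Set.mem_setOf_eq, hA', Subgroup.mem_map, forall_exists_index, and_imp]
    constructor
    · intro hz
      rcases eq_or_ne z y with e | e
      · exact Or.inl e
      · exact Or.inr ⟨e, (fixed_ql_iff h _).1 fun g hg =>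
          (hG.dir_iff e (conj_four h g (pow_four_ql hg))).1 (hz _ g hg rfl)⟩
    · rintro (rfl | ⟨e, hd⟩) _ g hg rfl
      · exact hG.plane.fix _ _
      · exact (hG.dir_iff e (conj_four h g (pow_four_ql hg))).2 ((fixed_ql_iff h _).2 hd g hg)

/-- The fixed points of an involution make two pencils, and hold no other. -/
theorem involution_pencils {x : Ω} {t : G} (ht : t ∈ (φ x).range) (ht1 : t ≠ 1) (ht2 : t ^ 2 = 1) :
    ∃ H₁ H₂ : Set Ω, hG.IsPencil x H₁ ∧ hG.IsPencil x H₂ ∧ {y | t • y = y} = H₁ ∪ H₂ ∧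
      (∃ f : Flag F, H₁ ∩ H₂ = {y | y = x ∨ y ≠ x ∧ hG.dirOf x y = f}) ∧
      ∀ H, hG.IsPencil x H → H ⊆ {y | t • y = y} → H = H₁ ∨ H = H₂ := by
  obtain ⟨g, hg4, rfl⟩ := exists_lift (hG.plane.ker x) ht
    (by rw [show 4 = 2 * 2 from rfl, pow_mul, ht2, one_pow])
  have hg1 : g ≠ 1 := fun e => ht1 (by rw [e, map_one])
  have hg2 : g ^ 2 = 1 := inj4 (hG.plane.ker x) (by rw [← pow_mul, show 2 * 4 = 4 * 2 from rfl, pow_mul, hg4, one_pow])
    (one_pow 4) (by rw [map_pow, ht2, map_one])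
  obtain ⟨C, A, hCA, hfix⟩ := flags_involution hg1 hg2
  refine ⟨_, _, ⟨ptPencil C, Or.inl ⟨C, rfl⟩, rfl⟩, ⟨lnPencil A, Or.inr ⟨A, rfl⟩, rfl⟩, ?_,
    ⟨⟨(C, A), hCA⟩, ?_⟩, ?_⟩
  · ext y
    simp only [Set.mem_setOf_eq, Set.mem_union]
    rcases eq_or_ne y x with rfl | hy
    · simp [hG.plane.fix]
    · rw [hG.dir_iff hy hg4, hfix]
      simp [hy]
  · ext y
    simp only [Set.mem_setOf_eq, Set.mem_inter_iff]
    constructor
    · rintro ⟨rfl | ⟨hy, h1⟩, h2⟩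
      · exact Or.inl rfl
      · obtain ⟨-, h2⟩ := h2.resolve_left hy
        exact Or.inr ⟨hy, Subtype.ext (Prod.ext h1 h2)⟩
    · rintro (rfl | ⟨hy, e⟩)
      · exact ⟨Or.inl rfl, Or.inl rfl⟩
      · exact ⟨Or.inr ⟨hy, by rw [e]; exact rfl⟩, Or.inr ⟨hy, by rw [e]; exact rfl⟩⟩
  · rintro H ⟨D, hD, rfl⟩ hsub
    have hD' : ∀ f ∈ D, f ∈ ptPencil C ∨ f ∈ lnPencil A := fun f hf => by
      obtain ⟨y, hy, rfl⟩ := hG.exists_dir x f
      exact (hfix _).1 ((hG.dir_iff hy hg4).1 (hsub (Or.inr ⟨hy, hf⟩)))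
    have hq := two_le_card (F := F)
    rcases hD with ⟨p, rfl⟩ | ⟨w, rfl⟩
    · suffices p = C by rw [this]; exact Or.inl rfl
      by_contra hp
      have hall : ∀ w, inc p w → w = A := fun w hw =>
        (hD' ⟨(p, w), hw⟩ rfl).resolve_left hp
      obtain ⟨w, hw, hwA⟩ := exists_ne_inc p A
      exact hwA (hall w (inc_comm.1 hw))
    · suffices w = A by rw [this]; exact Or.inr rfl
      by_contra hw
      have hall : ∀ p, inc p w → p = C := fun p hp => (hD' ⟨(p, w), hp⟩ rfl).resolve_right hw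
      obtain ⟨p, hp, hpC⟩ := exists_ne_inc w C
      exact hpC (hall p hp)

end Geo

end CfsgLib.PlaneStab
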