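import Cfsg.Agent.Linear.Basic
import Cfsg.Agent.AutPSL.Realise

/-!
# Upper unitriangular matrices of `SL(3, q)`, `q` even, and their fixed points in the plane

Support for the theorem on doubly transitive groups with a normal `PSL(3, 2^n)` in a point
stabiliser (S3727).
-/

set_option autoImplicit false

open Matrix
open scoped MatrixGroups LinearAlgebra.Projectivization

namespace CfsgLib.PlaneStab

/-- `SL(3, F)`. -/
abbrev L (F : Type*) [Field F] := Matrix.SpecialLinearGroup (Fin 3) F

/-- Points of the projective plane; also used for lines, through the dot product. -/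
abbrev Pt (F : Type*) [Field F] := ℙ F (Fin 3 → F)

variable {F : Type*} [Field F]

/-- Upper unitriangular matrix with entries `x` at `(0,1)`, `y` at `(1,2)`, `z` at `(0,2)`. -/
def uu (x y z : F) : L F :=
  ⟨!![1, x, z; 0, 1, y; 0, 0, 1], by simp [Matrix.det_fin_three]⟩

/-- Lower unitriangular matrix with entries `x` at `(1,0)`, `y` at `(2,1)`, `z` at `(2,0)`. -/
def ll (x y z : F) : L F :=
  ⟨!![1, 0, 0; x, 1, 0; z, y, 1], by simp [Matrix.det_fin_three]⟩

theorem uu_coe (x y z : F) : (uu x y z : Matrix (Fin 3) (Fin 3) F) = !![1, x, z; 0, 1, y; 0, 0, 1] :=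
  rfl

theorem ll_coe (x y z : F) : (ll x y z : Matrix (Fin 3) (Fin 3) F) = !![1, 0, 0; x, 1, 0; z, y, 1] :=
  rfl

theorem uu_mul (x y z x' y' z' : F) :
    uu x y z * uu x' y' z' = uu (x + x') (y + y') (z + z' + x * y') := by
  apply Subtype.ext
  simp only [Matrix.SpecialLinearGroup.coe_mul, uu_coe]
  ext i j
  fin_cases i <;> fin_cases j <;> simp [Matrix.mul_apply, Fin.sum_univ_three] <;> ring

theorem ll_mul (x y z x' y' z' : F) :
    ll x y z * ll x' y' z' = ll (x + x') (y + y') (z + z' + y * x') := by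
  apply Subtype.ext
  simp only [Matrix.SpecialLinearGroup.coe_mul, ll_coe]
  ext i j
  fin_cases i <;> fin_cases j <;> simp [Matrix.mul_apply, Fin.sum_univ_three] <;> ring

theorem uu_zero : uu (0 : F) 0 0 = 1 := by
  apply Subtype.ext
  rw [uu_coe, Matrix.SpecialLinearGroup.coe_one, Matrix.one_fin_three]

theorem ll_zero : ll (0 : F) 0 0 = 1 := by
  apply Subtype.ext
  rw [ll_coe, Matrix.SpecialLinearGroup.coe_one, Matrix.one_fin_three]

theorem uu_inj {x y z x' y' z' : F} (h : uu x y z = uu x' y' z') : x = x' ∧ y = y' ∧ z = z' := by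
  refine ⟨?_, ?_, ?_⟩
  · simpa [uu_coe] using congrArg (fun g : L F => (g : Matrix (Fin 3) (Fin 3) F) 0 1) h
  · simpa [uu_coe] using congrArg (fun g : L F => (g : Matrix (Fin 3) (Fin 3) F) 1 2) h
  · simpa [uu_coe] using congrArg (fun g : L F => (g : Matrix (Fin 3) (Fin 3) F) 0 2) h

theorem ll_inj {x y z x' y' z' : F} (h : ll x y z = ll x' y' z') : x = x' ∧ y = y' ∧ z = z' := by
  refine ⟨?_, ?_, ?_⟩
  · simpa [ll_coe] using congrArg (fun g : L F => (g : Matrix (Fin 3) (Fin 3) F) 1 0) h
  · simpa [ll_coe] using congrArg (fun g : L F => (g : Matrix (Fin 3) (Fin 3) F) 2 1) h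
  · simpa [ll_coe] using congrArg (fun g : L F => (g : Matrix (Fin 3) (Fin 3) F) 2 0) h

theorem uu_ne_one {x y z : F} (h : x ≠ 0 ∨ y ≠ 0 ∨ z ≠ 0) : uu x y z ≠ 1 := by
  intro e
  obtain ⟨hx, hy, hz⟩ := uu_inj (e.trans uu_zero.symm)
  rcases h with h | h | h <;> contradiction

/-- The upper unitriangular group. -/
def upper (F : Type*) [Field F] : Subgroup (L F) where
  carrier := {g | ∃ x y z, g = uu x y z}
  one_mem' := ⟨0, 0, 0, uu_zero.symm⟩
  mul_mem' := by
    rintro _ _ ⟨x, y, z, rfl⟩ ⟨x', y', z', rfl⟩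
    exact ⟨_, _, _, uu_mul x y z x' y' z'⟩
  inv_mem' := by
    rintro _ ⟨x, y, z, rfl⟩
    refine ⟨-x, -y, -z + x * y, inv_eq_of_mul_eq_one_right ?_⟩
    rw [uu_mul, ← uu_zero]
    congr 1 <;> ring

theorem mem_upper {g : L F} : g ∈ upper F ↔ ∃ x y z, g = uu x y z := Iff.rfl

theorem uu_mem (x y z : F) : uu x y z ∈ upper F := ⟨x, y, z, rfl⟩

/-- The lower unitriangular group. -/
def lower (F : Type*) [Field F] : Subgroup (L F) where
  carrier := {g | ∃ x y z, g = ll x y z}
  one_mem' := ⟨0, 0, 0, ll_zero.symm⟩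
  mul_mem' := by
    rintro _ _ ⟨x, y, z, rfl⟩ ⟨x', y', z', rfl⟩
    exact ⟨_, _, _, ll_mul x y z x' y' z'⟩
  inv_mem' := by
    rintro _ ⟨x, y, z, rfl⟩
    refine ⟨-x, -y, -z + y * x, inv_eq_of_mul_eq_one_right ?_⟩
    rw [ll_mul, ← ll_zero]
    congr 1 <;> ring

theorem ll_mem (x y z : F) : ll x y z ∈ lower F := ⟨x, y, z, rfl⟩

theorem mem_lower {g : L F} : g ∈ lower F ↔ ∃ x y z, g = ll x y z := Iff.rfl

theorem card_upper : Nat.card (upper F) = Nat.card F ^ 3 := by
  have h : Function.Bijective (fun t : F × F × F => (⟨uu t.1 t.2.1 t.2.2, uu_mem _ _ _⟩ : upper F)) := by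
    constructor
    · intro s t e
      obtain ⟨e1, e2, e3⟩ := uu_inj (congrArg Subtype.val e)
      exact Prod.ext e1 (Prod.ext e2 e3)
    · rintro ⟨_, x, y, z, rfl⟩
      exact ⟨(x, y, z), rfl⟩
  rw [← Nat.card_eq_of_bijective _ h, Nat.card_prod, Nat.card_prod]
  ring

theorem card_lower : Nat.card (lower F) = Nat.card F ^ 3 := by
  have h : Function.Bijective (fun t : F × F × F => (⟨ll t.1 t.2.1 t.2.2, ll_mem _ _ _⟩ : lower F)) := by
    constructor
    · intro s t e
      obtain ⟨e1, e2, e3⟩ := ll_inj (congrArg Subtype.val e)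
      exact Prod.ext e1 (Prod.ext e2 e3)
    · rintro ⟨_, x, y, z, rfl⟩
      exact ⟨(x, y, z), rfl⟩
  rw [← Nat.card_eq_of_bijective _ h, Nat.card_prod, Nat.card_prod]
  ring

theorem center_cube {z : L F} (hz : z ∈ Subgroup.center (L F)) : z ^ 3 = 1 := by
  obtain ⟨r, hr, hs⟩ := Matrix.SpecialLinearGroup.mem_center_iff.1 hz
  apply Subtype.ext
  rw [Matrix.SpecialLinearGroup.coe_pow, ← hs, ← map_pow, Matrix.SpecialLinearGroup.coe_one]
  simp only [Fintype.card_fin] at hr
  rw [hr, map_one]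

section CharTwo

variable [CharP F 2]

theorem uu_sq (x y z : F) : uu x y z * uu x y z = uu 0 0 (x * y) := by
  rw [uu_mul, CharTwo.add_self_eq_zero, CharTwo.add_self_eq_zero, CharTwo.add_self_eq_zero, zero_add]

theorem uu_pow_two (x y z : F) : uu x y z ^ 2 = uu 0 0 (x * y) := by rw [sq, uu_sq]

theorem uu_pow_four (x y z : F) : uu x y z ^ 4 = 1 := by
  rw [show 4 = 2 * 2 from rfl, pow_mul, uu_pow_two, uu_pow_two, mul_zero, uu_zero]

theorem uu_sq_eq_one_iff {x y z : F} : uu x y z ^ 2 = 1 ↔ x = 0 ∨ y = 0 := by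
  rw [uu_pow_two]
  constructor
  · intro h
    exact mul_eq_zero.1 (uu_inj (h.trans uu_zero.symm)).2.2
  · intro h
    rw [mul_eq_zero.2 h, uu_zero]

theorem uu_inv (x y z : F) : (uu x y z)⁻¹ = uu x y (z + x * y) := by
  refine inv_eq_of_mul_eq_one_right ?_
  rw [uu_mul, ← uu_zero, CharTwo.add_self_eq_zero, CharTwo.add_self_eq_zero]
  congr 1
  linear_combination CharTwo.two_eq_zero (R := F) * (z + x * y)

theorem dv_uu (x y z : F) : AutPSL.invTransSL (uu x y z) = ll x y (z + x * y) := by
  apply Subtype.ext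
  rw [AutPSL.invTransSL_coe, uu_inv, uu_coe, ll_coe]
  ext i j
  fin_cases i <;> fin_cases j <;> simp

section Sylow

variable [Fintype F]

theorem exists_card_eq : ∃ n : ℕ, 1 ≤ n ∧ Fintype.card F = 2 ^ n := by
  obtain ⟨n, -, h⟩ := FiniteField.card F 2
  exact ⟨n, n.2, h⟩

theorem card_L : Nat.card (L F) =
    Fintype.card F ^ 3 * ((Fintype.card F ^ 3 - 1) * (Fintype.card F ^ 2 - 1)) := by
  have h := Linear.card_SL_mul (n := Fin 3) (F := F)
  rw [Linear.card_GL, Linear.prod_pow_sub_pow, Fintype.card_fin] at h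
  simp only [Finset.prod_range_succ, Finset.prod_range_zero, one_mul] at h
  norm_num at h
  have hq : 1 < Fintype.card F := Fintype.one_lt_card
  refine Nat.eq_of_mul_eq_mul_left (Nat.sub_pos_of_lt hq) (h.trans ?_)
  ring

theorem not_two_dvd_index_upper : ¬ 2 ∣ (upper F).index := by
  obtain ⟨n, hn, hq⟩ := exists_card_eq (F := F)
  have h := (upper F).card_mul_index
  rw [card_upper, card_L, Nat.card_eq_fintype_card] at h
  rw [Nat.eq_of_mul_eq_mul_left (pow_pos Fintype.card_pos 3) h]
  intro hd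
  have hev : 2 ∣ Fintype.card F := hq ▸ dvd_pow_self 2 (by omega)
  have hq1 : 1 < Fintype.card F := Fintype.one_lt_card
  rcases Nat.prime_two.dvd_mul.1 hd with h' | h' <;>
  · have h1 : 2 ∣ Fintype.card F ^ 3 := hev.pow (by norm_num)
    have h2 : 2 ∣ Fintype.card F ^ 2 := hev.pow (by norm_num)
    have h3 : 1 ≤ Fintype.card F ^ 3 := Nat.one_le_pow _ _ (by omega)
    have h4 : 1 ≤ Fintype.card F ^ 2 := Nat.one_le_pow _ _ (by omega)
    omega

theorem isPGroup_upper : IsPGroup 2 (upper F) := by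
  rintro ⟨g, x, y, z, rfl⟩
  exact ⟨2, Subtype.ext (uu_pow_four x y z)⟩

theorem exists_conj_upper {P : Subgroup (L F)} (hP : IsPGroup 2 P) :
    ∃ h : L F, ∀ g ∈ P, h⁻¹ * g * h ∈ upper F := by
  haveI : Fact (Nat.Prime 2) := ⟨Nat.prime_two⟩
  obtain ⟨Q, hQ⟩ := hP.exists_le_sylow
  obtain ⟨h, hh⟩ := MulAction.exists_smul_eq (L F)
    (isPGroup_upper.toSylow (not_two_dvd_index_upper (F := F))) Q
  refine ⟨h, fun g hg => ?_⟩
  have : g ∈ (Q : Subgroup (L F)) := hQ hg
  rw [← hh, Sylow.coe_subgroup_smul, IsPGroup.toSylow_coe, Subgroup.mem_pointwise_smul_iff_inv_smul_mem,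
    MulAut.smul_def, MulAut.conj_inv_apply] at this
  exact this

theorem exists_conj_mem_upper {g : L F} (hg : g ^ 4 = 1) : ∃ h : L F, h⁻¹ * g * h ∈ upper F := by
  have hP : IsPGroup 2 (Subgroup.zpowers g) := by
    rintro ⟨x, k, rfl⟩
    refine ⟨2, Subtype.ext ?_⟩
    rw [SubmonoidClass.coe_pow, ← zpow_natCast, ← _root_.zpow_mul, mul_comm, _root_.zpow_mul, zpow_natCast]
    rw [show (2 ^ 2 : ℕ) = 4 from rfl, hg, _root_.one_zpow, Subgroup.coe_one]
  obtain ⟨h, hh⟩ := exists_conj_upper hP
  exact ⟨h, hh g (Subgroup.mem_zpowers g)⟩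

end Sylow

end CharTwo

/-! ### Vectors and points -/

/-- The matrix acting on column vectors. -/
abbrev mv (g : L F) (v : Fin 3 → F) : Fin 3 → F := (g : Matrix (Fin 3) (Fin 3) F) *ᵥ v

theorem mv_ne_zero (g : L F) {v : Fin 3 → F} (hv : v ≠ 0) : mv g v ≠ 0 := by
  intro h
  apply hv
  have h2 := congrArg (mv g⁻¹) h
  simp only [mv, Matrix.mulVec_mulVec, ← Matrix.SpecialLinearGroup.coe_mul, inv_mul_cancel,
    Matrix.SpecialLinearGroup.coe_one, Matrix.one_mulVec, Matrix.mulVec_zero] at h2
  exact h2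

theorem smul_pt (g : L F) {v : Fin 3 → F} (hv : v ≠ 0) :
    g • Projectivization.mk F v hv = Projectivization.mk F (mv g v) (mv_ne_zero g hv) := by
  rw [Projectivization.matrixSpecialLinearGroup_smul_def, Projectivization.smul_mk]
  rfl

theorem mv_uu (x y z : F) (v : Fin 3 → F) :
    mv (uu x y z) v = ![v 0 + x * v 1 + z * v 2, v 1 + y * v 2, v 2] := by
  ext i
  fin_cases i <;> simp [mv, uu_coe, Matrix.mulVec, dotProduct, Fin.sum_univ_three] <;> ring

theorem mv_ll (x y z : F) (v : Fin 3 → F) :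
    mv (ll x y z) v = ![v 0, x * v 0 + v 1, z * v 0 + y * v 1 + v 2] := by
  ext i
  fin_cases i <;> simp [mv, ll_coe, Matrix.mulVec, dotProduct, Fin.sum_univ_three] <;> ring

theorem smul_pt_eq_iff [CharP F 2] {g : L F} (hg : g ^ 4 = 1) {v : Fin 3 → F} (hv : v ≠ 0) :
    g • Projectivization.mk F v hv = Projectivization.mk F v hv ↔ mv g v = v := by
  rw [smul_pt, Projectivization.mk_eq_mk_iff']
  constructor
  · rintro ⟨c, hc⟩
    have hk : ∀ k : ℕ, mv (g ^ k) v = c ^ k • v := by
      intro k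
      induction k with
      | zero => simp [mv]
      | succ k ih =>
        simp only [mv] at ih ⊢
        rw [pow_succ', Matrix.SpecialLinearGroup.coe_mul, ← Matrix.mulVec_mulVec, ih,
          Matrix.mulVec_smul, pow_succ, mul_smul]
        congr 1
        exact hc.symm
    have h4 := hk 4
    rw [hg] at h4
    simp only [mv, Matrix.SpecialLinearGroup.coe_one, Matrix.one_mulVec] at h4
    have hc4 : c ^ 4 = 1 := by
      obtain ⟨i, hi⟩ := Function.ne_iff.1 hv
      have := congrFun h4 i
      rw [Pi.smul_apply, smul_eq_mul] at this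
      exact (mul_eq_right₀ hi).1 this.symm
    have hc1 : c = 1 := by
      have h0 : (c - 1) ^ 4 = 0 := by
        rw [show 4 = 2 * 2 from rfl, pow_mul, CharTwo.sub_eq_add, CharTwo.add_sq,
          CharTwo.add_sq, one_pow, one_pow, ← pow_mul, hc4, CharTwo.add_self_eq_zero]
      exact sub_eq_zero.1 (pow_eq_zero_iff (by norm_num) |>.1 h0)
    rw [← hc, hc1, one_smul]
  · intro h
    exact ⟨1, by rw [one_smul, h]⟩

/-- Incidence of a point and a line. -/
def inc (p w : Pt F) : Prop := p.rep ⬝ᵥ w.rep = 0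

theorem inc_mk {v w : Fin 3 → F} (hv : v ≠ 0) (hw : w ≠ 0) :
    inc (Projectivization.mk F v hv) (Projectivization.mk F w hw) ↔ v ⬝ᵥ w = 0 := by
  obtain ⟨a, ha⟩ := Projectivization.exists_smul_eq_mk_rep F v hv
  obtain ⟨b, hb⟩ := Projectivization.exists_smul_eq_mk_rep F w hw
  rw [inc, ← ha, ← hb, smul_dotProduct, dotProduct_smul]
  simp [Units.smul_def]

theorem inc_comm {p w : Pt F} : inc p w ↔ inc w p := by rw [inc, inc, dotProduct_comm]

/-- The action on lines. -/
abbrev dv (g : L F) : L F := AutPSL.invTransSL g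

theorem inc_smul (g : L F) (p w : Pt F) : inc (g • p) (dv g • w) ↔ inc p w := by
  induction p using Projectivization.ind with | _ v hv =>
  induction w using Projectivization.ind with | _ u hu =>
  rw [smul_pt, smul_pt, inc_mk, inc_mk]
  have : mv g v ⬝ᵥ mv (dv g) u = v ⬝ᵥ u := by
    simp only [mv, dv, AutPSL.invTransSL_coe]
    rw [dotProduct_comm, Matrix.mulVec_transpose, ← Matrix.dotProduct_mulVec,
      Matrix.mulVec_mulVec, ← Matrix.SpecialLinearGroup.coe_mul, inv_mul_cancel,
      Matrix.SpecialLinearGroup.coe_one, Matrix.one_mulVec, dotProduct_comm]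
  rw [this]

/-- The point (or line) with coordinates `v`. -/
abbrev pt (v : Fin 3 → F) (hv : v ≠ 0) : Pt F := Projectivization.mk F v hv

theorem e0_ne : (![1, 0, 0] : Fin 3 → F) ≠ 0 := fun h => one_ne_zero (congrFun h 0)

theorem e1_ne : (![0, 1, 0] : Fin 3 → F) ≠ 0 := fun h => one_ne_zero (congrFun h 1)

theorem e2_ne : (![0, 0, 1] : Fin 3 → F) ≠ 0 := fun h => one_ne_zero (congrFun h 2)

/-- First coordinate point (or line). -/
abbrev p0 (F : Type*) [Field F] : Pt F := pt ![1, 0, 0] e0_ne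

/-- Last coordinate point (or line). -/
abbrev p2 (F : Type*) [Field F] : Pt F := pt ![0, 0, 1] e2_ne

theorem exists_smul_eq_pt (p p' : Pt F) : ∃ g : L F, g • p = p' := by
  haveI : MulAction.IsPretransitive (L F) (Pt F) :=
    MulAction.isPretransitive_of_is_two_pretransitive
  exact MulAction.exists_smul_eq _ _ _

theorem exists_smul_pair {p q p' q' : Pt F} (h : p ≠ q) (h' : p' ≠ q') :
    ∃ g : L F, g • p = p' ∧ g • q = q' :=
  (MulAction.is_two_pretransitive_iff (G := L F) (α := Pt F)).1 inferInstance h h'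

theorem card_inc_p2 [Finite F] : Nat.card {p : Pt F // inc p (p2 F)} = Nat.card F + 1 := by
  let f : (Fin 2 → F) →ₗ[F] (Fin 3 → F) :=
    { toFun := fun v => ![v 0, v 1, 0]
      map_add' := fun u v => by ext i; fin_cases i <;> simp
      map_smul' := fun c v => by ext i; fin_cases i <;> simp }
  have hf : Function.Injective f := by
    intro u v e
    ext i
    fin_cases i
    · exact congrFun e 0
    · exact congrFun e 1
  have hb : Function.Bijective (fun p : ℙ F (Fin 2 → F) =>
      (⟨Projectivization.map f hf p, by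
        induction p using Projectivization.ind with | _ v hv =>
        rw [Projectivization.map_mk, inc_mk]
        simp [f, dotProduct, Fin.sum_univ_three]⟩ : {p : Pt F // inc p (p2 F)})) := by
    constructor
    · intro a b e
      exact Projectivization.map_injective f hf (congrArg Subtype.val e)
    · rintro ⟨p, hp⟩
      induction p using Projectivization.ind with | _ v hv =>
      have h2 : v 2 = 0 := by
        rw [inc_mk] at hp
        simpa [dotProduct, Fin.sum_univ_three] using hp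
      have hv' : (![v 0, v 1] : Fin 2 → F) ≠ 0 := by
        intro h
        apply hv
        ext i
        fin_cases i
        · exact congrFun h 0
        · exact congrFun h 1
        · exact h2
      refine ⟨Projectivization.mk F ![v 0, v 1] hv', Subtype.ext ?_⟩
      change Projectivization.map f hf (Projectivization.mk F ![v 0, v 1] hv') =
        Projectivization.mk F v hv
      rw [Projectivization.map_mk, Projectivization.mk_eq_mk_iff']
      refine ⟨1, ?_⟩
      ext i
      fin_cases i <;> simp [f, h2]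
  rw [← Nat.card_eq_of_bijective _ hb, Projectivization.card_of_finrank_two F _ (by simp)]

/-- A line has `q + 1` points. -/
theorem card_inc [Finite F] (w : Pt F) : Nat.card {p : Pt F // inc p w} = Nat.card F + 1 := by
  obtain ⟨g, hg⟩ := exists_smul_eq_pt (p2 F) w
  rw [← card_inc_p2 (F := F)]
  refine Nat.card_congr ((MulAction.toPerm (dv g)).subtypeEquiv fun p => ?_).symm
  show inc p (p2 F) ↔ inc (dv g • p) w
  rw [← hg, inc_comm (p := dv g • p), inc_smul, inc_comm]

/-- A point is on `q + 1` lines. -/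
theorem card_inc' [Finite F] (p : Pt F) : Nat.card {w : Pt F // inc p w} = Nat.card F + 1 := by
  rw [← card_inc p]
  exact Nat.card_congr (Equiv.subtypeEquivRight fun w => inc_comm)

/-- Two points are on at most one line. -/
theorem inc_unique {p q w w' : Pt F} (h : p ≠ q) (hp : inc p w) (hq : inc q w) (hp' : inc p w')
    (hq' : inc q w') : w = w' := by
  have he : p0 F ≠ pt ![0, 1, 0] e1_ne := by
    intro e
    rw [Projectivization.mk_eq_mk_iff'] at e
    obtain ⟨c, hc⟩ := e
    simpa using congrFun hc 0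
  obtain ⟨g, hgp, hgq⟩ := exists_smul_pair h he
  have key : ∀ z : Pt F, inc p z → inc q z → dv g • z = p2 F := by
    intro z hpz hqz
    have h0 := (inc_smul g p z).2 hpz
    have h1 := (inc_smul g q z).2 hqz
    rw [hgp] at h0
    rw [hgq] at h1
    revert h0 h1
    generalize dv g • z = y
    induction y using Projectivization.ind with | _ u hu =>
    intro h0 h1
    rw [inc_mk] at h0 h1
    simp [dotProduct, Fin.sum_univ_three] at h0 h1
    rw [Projectivization.mk_eq_mk_iff']
    refine ⟨u 2, ?_⟩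
    ext i
    fin_cases i <;> simp [h0, h1]
  exact smul_left_cancel _ ((key w hp hq).trans (key w' hp' hq').symm)

/-- Two lines have at most one common point. -/
theorem inc_unique' {p q w w' : Pt F} (h : w ≠ w') (hp : inc p w) (hp' : inc p w') (hq : inc q w)
    (hq' : inc q w') : p = q :=
  inc_unique h (inc_comm.1 hp) (inc_comm.1 hp') (inc_comm.1 hq) (inc_comm.1 hq')

end CfsgLib.PlaneStab
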