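import Cfsg.Agent.PlaneStab.Heis

/-!
# Charts of a 2-transitive group with a normal `PSL(3, 2^n)` in a point stabiliser

A chart at a point `x` is a homomorphism `SL(3, F) → G` onto the normal subgroup `N_x` together
with a map sending every other point to a point of a set `X` (points or flags of the plane) with
the same fixing 2-elements.
-/

set_option autoImplicit false

open Matrix

namespace CfsgLib.PlaneStab

variable {F : Type*} [Field F] {G Ω : Type*} [Group G] [MulAction G Ω]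

/-- The standing hypotheses. -/
structure Plane (φ : Ω → L F →* G) : Prop where
  ker : ∀ x, (φ x).ker ≤ Subgroup.center (L F)
  fix : ∀ x g, φ x g • x = x
  conj : ∀ (g : G) (x : Ω), ∀ n ∈ (φ x).range, g * n * g⁻¹ ∈ (φ (g • x)).range
  trans2 : ∀ a b c d : Ω, a ≠ b → c ≠ d → ∃ g : G, g • a = c ∧ g • b = d
  even : Even (Nat.card Ω)

/-- The properties of the set of directions. -/
structure Kind (F X : Type*) [Field F] [MulAction (L F) X] : Prop where
  trans : ∀ d d' : X, ∃ g : L F, g • d = d'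
  sep : ∀ d d' : X, (∀ g : L F, g ^ 4 = 1 → g • d = d → g • d' = d') → d = d'
  base : ∃ d : X, ∀ t ∈ upper F, t • d = d
  fix2 : ∃ n : ℕ, 2 ≤ n ∧ ∀ g : L F, g ≠ 1 → g ^ 2 = 1 → Nat.card {d : X // g • d = d} = n
  fix4 : ∀ g : L F, g ^ 4 = 1 → g ^ 2 ≠ 1 → Nat.card {d : X // g • d = d} = 1
  odd : Odd (Nat.card X)
  swap : Nat.card {d : X // ∀ x z : F, uu x 0 z • d = d} ≠
      Nat.card {d : X // ∀ y z : F, uu 0 y z • d = d} ∨
    ((∀ x z c : F, x ≠ 0 → c ≠ 0 → 2 ≤ Nat.card {d : X // uu x 0 z • d = d ∧ uu 0 0 c • d = d}) ∧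
      (∀ y z c : F, y ≠ 0 → c ≠ 0 → 2 ≤ Nat.card {d : X // uu 0 y z • d = d ∧ uu 0 0 c • d = d}) ∧
      ∀ (c : F) (d : X), c ≠ 0 → uu 0 0 c • d = d →
        (∀ x z : F, uu x 0 z • d = d) ∨ ∀ y z : F, uu 0 y z • d = d)

/-- The directions at every point. -/
def HasDir (φ : Ω → L F →* G) (X : Type*) [MulAction (L F) X] : Prop :=
  ∀ x y : Ω, y ≠ x → ∃ d : X, ∀ g : L F, g ^ 4 = 1 → (φ x g • y = y ↔ g • d = d)

/-- A chart at `x`. -/
structure Chart (X : Type*) [MulAction (L F) X] (x : Ω) (ψ : L F →* G) (u : ℕ) : Prop where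
  ker : ψ.ker ≤ Subgroup.center (L F)
  fix : ∀ g, ψ g • x = x
  dirs : ∃ δ : Ω → X, (∀ y, y ≠ x → ∀ g : L F, g ^ 4 = 1 → (ψ g • y = y ↔ g • δ y = δ y)) ∧
    (∀ y, y ≠ x → ∀ g : L F, δ (ψ g • y) = g • δ y) ∧
    ∀ d, Nat.card {y : Ω // y ≠ x ∧ δ y = d} = u

theorem conj_four (h g : L F) (hg : g ^ 4 = 1) : (h * g * h⁻¹) ^ 4 = 1 := by
  rw [conj_pow, hg, mul_one, mul_inv_cancel]

theorem smul_ne_self {x y : Ω} {g : G} (hg : g • x = x) (hy : y ≠ x) : g • y ≠ x := fun e =>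
  hy (smul_left_cancel g (e.trans hg.symm))

/-- A 2-subgroup of the image lies in a conjugate of the unitriangular group. -/
theorem exists_conj_of_pgroup [CharP F 2] [Finite F] [Finite G] {ψ : L F →* G} {T : Subgroup G}
    (hT : T ≤ ψ.range) (hT2 : IsPGroup 2 T) :
    ∃ h : L F, T ≤ (upper F).map (ψ.comp (MulAut.conj h).toMonoidHom) := by
  haveI := Fintype.ofFinite F
  haveI : Fact (Nat.Prime 2) := ⟨Nat.prime_two⟩
  let φQ : T.comap ψ →* T := ψ.subgroupComap T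
  have hφQ : Function.Surjective φQ := fun n => by
    obtain ⟨a, ha⟩ := hT n.2
    exact ⟨⟨a, by rw [Subgroup.mem_comap, ha]; exact n.2⟩, Subtype.ext ha⟩
  obtain ⟨R⟩ : Nonempty (Sylow 2 (T.comap ψ)) := inferInstance
  have hRtop : (R : Subgroup (T.comap ψ)).map φQ = ⊤ := by
    obtain ⟨k, hk2⟩ := hT2.index ((R : Subgroup (T.comap ψ)).map φQ)
    have hd : ((R : Subgroup (T.comap ψ)).map φQ).index ∣ (R : Subgroup (T.comap ψ)).index :=
      Subgroup.index_map_dvd _ hφQ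
    rw [← Subgroup.index_eq_one, hk2]
    rcases Nat.eq_zero_or_pos k with h | h
    · rw [h, pow_zero]
    · exact absurd ((dvd_pow_self 2 h.ne').trans (hk2 ▸ hd)) R.not_dvd_index
  obtain ⟨h, hh⟩ := exists_conj_upper (P := (R : Subgroup (T.comap ψ)).map (T.comap ψ).subtype)
    (R.2.map _)
  refine ⟨h, fun t ht => ?_⟩
  have hmm : (⟨t, ht⟩ : T) ∈ (R : Subgroup (T.comap ψ)).map φQ := by
    rw [hRtop]; exact Subgroup.mem_top _
  obtain ⟨r, hr, hrv⟩ := hmm
  refine ⟨h⁻¹ * (r : L F) * h, hh _ ⟨r, hr, rfl⟩, ?_⟩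
  have e : ψ (r : L F) = t := congrArg Subtype.val hrv
  simpa [mul_assoc] using e

theorem ker_comp_conj {ψ : L F →* G} (hk : ψ.ker ≤ Subgroup.center (L F)) (h : L F) :
    (ψ.comp (MulAut.conj h).toMonoidHom).ker ≤ Subgroup.center (L F) := by
  intro c hc
  have h1 : h * c * h⁻¹ ∈ Subgroup.center (L F) := hk hc
  have h2 := Subgroup.mem_center_iff.1 h1 h
  have : h * c * h⁻¹ = c := by
    calc h * c * h⁻¹ = h⁻¹ * (h * (h * c * h⁻¹)) := by group
      _ = h⁻¹ * (h * c * h⁻¹ * h) := by rw [h2]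
      _ = c := by group
  rwa [this] at h1

theorem range_comp_conj (ψ : L F →* G) (h : L F) :
    (ψ.comp (MulAut.conj h).toMonoidHom).range = ψ.range :=
  by rw [MonoidHom.range_comp, MonoidHom.range_eq_top.2 (MulAut.conj h).surjective, ← MonoidHom.range_eq_map]

namespace Plane

variable {φ : Ω → L F →* G} (hP : Plane φ)
include hP

theorem range_smul (g : G) (x : Ω) {n : G} :
    g * n * g⁻¹ ∈ (φ (g • x)).range ↔ n ∈ (φ x).range := by
  refine ⟨fun h => ?_, hP.conj g x n⟩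
  have := hP.conj g⁻¹ (g • x) _ h
  simpa [mul_assoc] using this

theorem normal_range (x : Ω) {g : G} (hg : g • x = x) : ∀ n ∈ (φ x).range, g * n * g⁻¹ ∈ (φ x).range :=
  fun n hn => by simpa [hg] using hP.conj g x n hn

theorem odd_card_others [Finite Ω] (x : Ω) : Odd (Nat.card {y : Ω // y ≠ x}) := by
  classical
  haveI := Fintype.ofFinite Ω
  have h := hP.even
  rw [Nat.card_eq_fintype_card] at h ⊢
  have h0 : 0 < Fintype.card Ω := Fintype.card_pos_iff.2 ⟨x⟩
  rw [Fintype.card_subtype_compl (fun y => y = x), Fintype.card_subtype_eq]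
  obtain ⟨k, hk⟩ := h
  exact ⟨k - 1, by omega⟩

theorem exists_upper_fixing [CharP F 2] [Finite F] [Finite G] [Finite Ω] {x y : Ω} (hy : y ≠ x) :
    ∃ h : L F, ∀ t ∈ upper F, φ x (h * t * h⁻¹) • y = y := by
  haveI : Fact (Nat.Prime 2) := ⟨Nat.prime_two⟩
  haveI := Fintype.ofFinite F
  set A := MulAction.stabilizer G x
  let D : Subgroup A := MulAction.stabilizer A y
  have horb : MulAction.orbit A y = {z : Ω | z ≠ x} := by
    ext z
    constructor
    · rintro ⟨g, rfl⟩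
      exact smul_ne_self g.2 hy
    · intro hz
      obtain ⟨g, hgx, hgy⟩ := hP.trans2 x y x z hy.symm (Ne.symm hz)
      exact ⟨⟨g, hgx⟩, hgy⟩
  have hDodd : ¬ 2 ∣ D.index := by
    rw [MulAction.index_stabilizer, horb, ← Nat.card_coe_set_eq]
    exact (hP.odd_card_others x).not_two_dvd_nat
  obtain ⟨S⟩ : Nonempty (Sylow 2 D) := inferInstance
  have hS' : IsPGroup 2 ((S : Subgroup D).map D.subtype) := S.2.map _
  have hSidx : ¬ 2 ∣ ((S : Subgroup D).map D.subtype).index := by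
    rw [Subgroup.index_map_subtype]
    intro h
    rcases Nat.prime_two.dvd_mul.1 h with h | h
    · exact S.not_dvd_index h
    · exact hDodd h
  let P : Subgroup A := ((upper F).map (φ x)).subgroupOf A
  have hPle : (upper F).map (φ x) ≤ A := by
    rintro _ ⟨t, -, rfl⟩
    exact hP.fix x t
  have hP2 : IsPGroup 2 P := by
    intro n
    obtain ⟨t, ⟨a, b, c, rfl⟩, hte⟩ := Subgroup.mem_subgroupOf.1 n.2
    refine ⟨2, ?_⟩
    apply Subtype.ext
    apply Subtype.ext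
    simp only [SubmonoidClass.coe_pow, OneMemClass.coe_one]
    rw [← hte, ← map_pow, show 2 ^ 2 = 4 from rfl, uu_pow_four, map_one]
  obtain ⟨Q, hQ⟩ := hP2.exists_le_sylow
  obtain ⟨g, hg⟩ := MulAction.exists_smul_eq A Q (hS'.toSylow hSidx)
  let T : Subgroup G := ((upper F).map (φ x)).map (MulAut.conj (g : G)).toMonoidHom
  have hTr : T ≤ (φ x).range := by
    rintro _ ⟨n, hn, rfl⟩
    exact hP.normal_range x g.2 n (Subgroup.map_le_range _ _ hn)
  have hT2 : IsPGroup 2 T := ((isPGroup_upper (F := F)).map _).map _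
  obtain ⟨h, hh⟩ := exists_conj_of_pgroup hTr hT2
  have heq : T = (upper F).map ((φ x).comp (MulAut.conj h).toMonoidHom) := by
    refine Subgroup.eq_of_le_of_card_ge hh (le_of_eq ?_)
    have e1 : Nat.card T = Nat.card ((upper F).map (φ x)) :=
      Subgroup.card_map_of_injective (MulAut.conj (g : G)).injective
    rw [e1, card_U (ker_comp_conj (hP.ker x) h), card_U (hP.ker x)]
  refine ⟨h, fun t ht => ?_⟩
  have hmem : φ x (h * t * h⁻¹) ∈ T := by
    rw [heq]; exact ⟨t, ht, rfl⟩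
  obtain ⟨n, hn, hne⟩ := hmem
  have hnA : n ∈ A := hPle hn
  have h2 : g * (⟨n, hnA⟩ : A) * g⁻¹ ∈ (S : Subgroup D).map D.subtype := by
    have hm : (⟨n, hnA⟩ : A) ∈ (Q : Subgroup A) := hQ (Subgroup.mem_subgroupOf.2 hn)
    have h3 : g * (⟨n, hnA⟩ : A) * g⁻¹ ∈ ((g • Q : Sylow 2 A) : Subgroup A) := by
      rw [Sylow.coe_subgroup_smul, Subgroup.mem_pointwise_smul_iff_inv_smul_mem, MulAut.smul_def,
        MulAut.conj_inv_apply]
      simpa [mul_assoc] using hm
    rw [hg, IsPGroup.toSylow_coe] at h3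
    exact h3
  obtain ⟨d, -, hd⟩ := h2
  have hfix : ((d : A) : G) • y = y := d.2
  rw [← hne]
  rw [show ((d : A) : G) = (g : G) * n * (g : G)⁻¹ from congrArg (Subtype.val (p := fun z => z ∈ A)) hd] at hfix
  exact hfix

end Plane

namespace Chart

variable {X : Type*} [MulAction (L F) X] {x : Ω} {ψ : L F →* G} {u : ℕ}

theorem conj (hψ : Chart X x ψ u) (hs : Kind F X) (h : L F) :
    Chart X x (ψ.comp (MulAut.conj h).toMonoidHom) u := by
  obtain ⟨δ, h1, h2, h3⟩ := hψ.dirs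
  refine ⟨ker_comp_conj hψ.ker h, fun g => hψ.fix _, fun y => h⁻¹ • δ y, fun y hy g hg => ?_, fun y hy g => ?_, fun d => ?_⟩
  · show ψ (h * g * h⁻¹) • y = y ↔ _
    rw [h1 y hy _ (conj_four h g hg), mul_smul, mul_smul, eq_comm, ← inv_smul_eq_iff, eq_comm]
  · show h⁻¹ • δ (ψ (h * g * h⁻¹) • y) = _
    rw [h2 y hy, mul_smul, mul_smul, inv_smul_smul]
  · rw [← h3 (h • d)]
    exact Nat.card_congr (Equiv.subtypeEquivRight fun y => and_congr_right fun _ => inv_smul_eq_iff)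

/-- Fixed points of a set of elements of exponent four. -/
theorem card_fixed [Finite Ω] [Finite X] (hψ : Chart X x ψ u) (S : Set (L F))
    (hS : ∀ g ∈ S, g ^ 4 = 1) :
    Nat.card {y : Ω // y ≠ x ∧ ∀ g ∈ S, ψ g • y = y} =
      Nat.card {d : X // ∀ g ∈ S, g • d = d} * u := by
  obtain ⟨δ, h1, -, h3⟩ := hψ.dirs
  haveI := Fintype.ofFinite {d : X // ∀ g ∈ S, g • d = d}
  let e : {y : Ω // y ≠ x ∧ ∀ g ∈ S, ψ g • y = y} ≃
      Σ d : {d : X // ∀ g ∈ S, g • d = d}, {y : Ω // y ≠ x ∧ δ y = d.1} :=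
    { toFun := fun y => ⟨⟨δ y.1, fun g hg => (h1 y.1 y.2.1 g (hS g hg)).1 (y.2.2 g hg)⟩, ⟨y.1, y.2.1, rfl⟩⟩
      invFun := fun p => ⟨p.2.1, p.2.2.1, fun g hg => (h1 _ p.2.2.1 g (hS g hg)).2
        (by rw [p.2.2.2]; exact p.1.2 g hg)⟩
      left_inv := fun y => rfl
      right_inv := by
        rintro ⟨⟨d, hd⟩, y, hy, hyd⟩
        simp only at hyd
        subst hyd
        rfl }
  rw [Nat.card_congr e, Nat.card_sigma]
  simp [h3, Nat.card_eq_fintype_card]

theorem card_fix_one [Finite Ω] [Finite X] (hψ : Chart X x ψ u) {g : L F} (hg : g ^ 4 = 1) :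
    Nat.card {y : Ω // y ≠ x ∧ ψ g • y = y} = Nat.card {d : X // g • d = d} * u := by
  simpa using hψ.card_fixed {g} (by simpa using hg)

theorem card_others [Finite Ω] [Finite X] (hψ : Chart X x ψ u) :
    Nat.card {y : Ω // y ≠ x} = Nat.card X * u := by
  have := hψ.card_fixed ∅ (by simp)
  simpa [Nat.card_congr (Equiv.subtypeUnivEquiv (p := fun _ : X => True) fun _ => trivial)] using this

variable [Finite Ω] [Finite X] [FaithfulSMul G Ω]

/-- An element centralising `N_x`, fixing `x` and a whole fibre, is trivial. -/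
theorem eq_one_of_cent (hψ : Chart X x ψ u) (hs : Kind F X) {c : G} (hcx : c • x = x)
    (hc : ∀ g, c * ψ g = ψ g * c) {g : L F} (hg : g ^ 4 = 1) (hd : ∃ d : X, g • d = d)
    (hfix : ∀ y, y ≠ x → ψ g • y = y → c • y = y) : c = 1 := by
  obtain ⟨δ, h1, h2, -⟩ := hψ.dirs
  obtain ⟨d, hd⟩ := hd
  refine eq_of_smul_eq_smul (α := Ω) fun y => ?_
  rw [one_smul]
  rcases eq_or_ne y x with rfl | hy
  · exact hcx
  obtain ⟨k, hk⟩ := hs.trans (δ y) d
  have hky : ψ k • y ≠ x := smul_ne_self (hψ.fix k) hy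
  have h' : c • (ψ k • y) = ψ k • y :=
    hfix _ hky ((h1 _ hky g hg).2 (by rw [h2 y hy, hk, hd]))
  rw [← mul_smul, hc, mul_smul, smul_left_cancel_iff] at h'
  exact h'

/-- A centralising element does not change directions. -/
theorem fixes_of_cent (hψ : Chart X x ψ u) (hs : Kind F X) {c : G} (hcx : c • x = x)
    (hc : ∀ g, c * ψ g = ψ g * c) {g : L F} (hg : g ^ 4 = 1) {y : Ω} (hy : y ≠ x)
    (h : ψ g • (c • y) = y) : ψ g • y = y ∧ c • y = y := by
  obtain ⟨δ, h1, h2, -⟩ := hψ.dirs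
  have hcy : c • y ≠ x := smul_ne_self hcx hy
  have hd : δ (c • y) = δ y := by
    refine (hs.sep _ _ fun k hk hky => ?_).symm
    refine (h1 _ hcy k hk).1 ?_
    rw [← mul_smul, ← hc, mul_smul, (h1 y hy k hk).2 hky]
  have hgd : g • δ y = δ y := by
    rw [← hd, ← h2 _ hcy, h, hd]
  have hgy := (h1 y hy g hg).2 hgd
  exact ⟨hgy, smul_left_cancel (ψ g) (h.trans hgy.symm)⟩

end Chart

/-- Charts exist. -/
theorem exists_charts [Finite Ω] [Nonempty Ω] {X : Type*} [Finite X] [MulAction (L F) X]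
    {φ : Ω → L F →* G} (hP : Plane φ) (hs : Kind F X) (hd : HasDir φ X) :
    ∃ u : ℕ, Odd u ∧ ∀ x, Chart X x (φ x) u := by
  classical
  obtain ⟨d₀, -⟩ := hs.base
  have key : ∀ x, ∃ δ : Ω → X, (∀ y, y ≠ x → ∀ g : L F, g ^ 4 = 1 → (φ x g • y = y ↔ g • δ y = δ y)) ∧
      (∀ y, y ≠ x → ∀ g : L F, δ (φ x g • y) = g • δ y) ∧
      ∃ u, ∀ d, Nat.card {y : Ω // y ≠ x ∧ δ y = d} = u := by
    intro x
    let δ : Ω → X := fun y => if h : y = x then d₀ else (hd x y h).choose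
    have h1 : ∀ y, y ≠ x → ∀ g : L F, g ^ 4 = 1 → (φ x g • y = y ↔ g • δ y = δ y) := by
      intro y hy g hg
      simp only [δ, dif_neg hy]
      exact (hd x y hy).choose_spec g hg
    have h2 : ∀ y, y ≠ x → ∀ g : L F, δ (φ x g • y) = g • δ y := by
      intro y hy g
      have hgy : φ x g • y ≠ x := smul_ne_self (hP.fix x g) hy
      refine hs.sep _ _ fun k hk hkd => ?_
      have hk' := (h1 _ hgy k hk).2 hkd
      rw [← mul_smul, ← map_mul, ← inv_smul_eq_iff, ← map_inv, ← mul_smul, ← map_mul] at hk'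
      have h4 : (g⁻¹ * (k * g)) ^ 4 = 1 := by
        rw [← mul_assoc]; simpa using conj_four g⁻¹ k hk
      have := (h1 y hy _ h4).1 hk'
      rw [mul_smul, mul_smul, inv_smul_eq_iff] at this
      exact this
    refine ⟨δ, h1, h2, Nat.card {y : Ω // y ≠ x ∧ δ y = d₀}, fun d => ?_⟩
    obtain ⟨g, hg⟩ := hs.trans d d₀
    refine Nat.card_congr ((MulAction.toPerm (φ x g)).subtypeEquiv fun y => ?_)
    show _ ↔ φ x g • y ≠ x ∧ δ (φ x g • y) = d₀
    constructor
    · rintro ⟨hy, rfl⟩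
      exact ⟨smul_ne_self (hP.fix x g) hy, by rw [h2 y hy, hg]⟩
    · rintro ⟨hy, he⟩
      have hy' : y ≠ x := fun e => hy (by rw [e, hP.fix])
      rw [h2 y hy', ← hg] at he
      exact ⟨hy', smul_left_cancel g he⟩
  choose δ h1 h2 u h3 using key
  have hc : ∀ x, Nat.card {y : Ω // y ≠ x} = Nat.card X * u x := fun x =>
    Chart.card_others ⟨hP.ker x, hP.fix x, δ x, h1 x, h2 x, h3 x⟩
  have hX : 0 < Nat.card X := Nat.card_pos_iff.2 ⟨⟨d₀⟩, inferInstance⟩
  obtain ⟨x₀⟩ := ‹Nonempty Ω›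
  refine ⟨u x₀, (Nat.odd_mul.1 (hc x₀ ▸ hP.odd_card_others x₀)).2, fun x => ?_⟩
  have hu : u x = u x₀ := by
    refine Nat.eq_of_mul_eq_mul_left hX ?_
    rw [← hc, ← hc]
    haveI := Fintype.ofFinite Ω
    simp only [Nat.card_eq_fintype_card]
    rw [Fintype.card_subtype_compl (fun y => y = x), Fintype.card_subtype_compl (fun y => y = x₀),
      Fintype.card_subtype_eq, Fintype.card_subtype_eq]
  exact hu ▸ ⟨hP.ker x, hP.fix x, δ x, h1 x, h2 x, h3 x⟩

end CfsgLib.PlaneStab
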