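import Cfsg.Agent.PlaneStab.Parallel

/-!
# The affine case: the shears along a class of parallel lines
-/

set_option autoImplicit false

open Matrix

namespace CfsgLib.PlaneStab

variable {F : Type*} [Field F] [CharP F 2] [Finite F] {G Ω : Type*} [Group G] [MulAction G Ω]
  [Finite G] [Finite Ω] [FaithfulSMul G Ω] {φ : Ω → L F →* G} {u : ℕ}

namespace Geo

/-- A shear along the line `m`. -/
def InQ (hG : Geo φ (Pt F) u) (m : Set Ω) (t : G) : Prop :=
  t ^ 4 = 1 ∧ (∀ z ∈ m, t ∈ (φ z).range) ∧ (∀ z ∈ m, t • z = z) ∧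
    ∀ S, hG.IsPl S → m ⊆ S → ∀ z ∈ S, t • z ∈ S

/-- The shears along `m`. -/
def shears (hG : Geo φ (Pt F) u) (m : Set Ω) : Subgroup G := Subgroup.closure {t | hG.InQ m t}

/-- The group generated by the shears along a class of parallel lines. -/
def classGroup (hG : Geo φ (Pt F) u) (m : Set Ω) : Subgroup G :=
  Subgroup.closure {t | ∃ m', hG.Par m m' ∧ t ∈ hG.shears m'}

variable (hG : Geo φ (Pt F) u)
include hG

theorem smul_mem_pl {x y : Ω} (g : L F) {w : Pt F} :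
    φ x g • y ∈ hG.pl x (dv g • w) ↔ y ∈ hG.pl x w := by
  rcases eq_or_ne y x with rfl | hy
  · rw [hG.plane.fix]
    exact iff_of_true (hG.self_mem_pl _ _) (hG.self_mem_pl _ _)
  · rw [hG.mem_pl hy, hG.mem_pl (smul_ne_self (hG.plane.fix x g) hy), hG.dir_smul hy, inc_smul]

theorem inQ_iff {m : Set Ω} (hm : IsLn φ m) {x : Ω} (hx : x ∈ m) {k : L F}
    (hk : ∀ y ∈ m, y ≠ x → k • p0 F = hG.dirOf x y) (t : G) :
    hG.InQ m t ↔ ∃ g ∈ qp F, φ x (k * g * k⁻¹) = t := by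
  obtain ⟨y, hy, hmy⟩ := hG.ln_of_mem hm hx
  have hym : y ∈ m := hmy ▸ right_mem x y
  have hd := hk y hym hy
  constructor
  · rintro ⟨ht4, hr, hfix, hpl⟩
    obtain ⟨g, hg, rfl⟩ := exists_lift (hG.plane.ker x) (hr x hx) ht4
    refine ⟨k⁻¹ * g * k, ?_, by congr 1; group⟩
    have hgd : g • (k • p0 F) = k • p0 F := by
      rw [hd]; exact (hG.dir_iff hy hg).1 (hfix y hym)
    have hw : ∀ w, inc (k • p0 F) w → dv g • w = w := by
      intro w hw
      refine hG.pl_inj (x := x) (Set.eq_of_subset_of_ncard_le ?_ ?_ (Set.toFinite _))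
      · intro z hz
        have hmem : m ⊆ hG.pl x w := hG.ln_subset_pl hm ⟨x, w, rfl⟩ hy hx hym (hG.self_mem_pl _ _)
          ((hG.mem_pl hy).2 (hd ▸ hw))
        have h1 : φ x g • ((φ x g)⁻¹ • z) ∈ hG.pl x (dv g • w) := by rw [smul_inv_smul]; exact hz
        rw [hG.smul_mem_pl] at h1
        have := hpl _ ⟨x, w, rfl⟩ hmem _ h1
        rwa [smul_inv_smul] at this
      · rw [hG.ncard_pl, hG.ncard_pl]
    have h4 : (k⁻¹ * g * k) ^ 4 = 1 := by rw [conj_inv_pow, hg, mul_one, inv_mul_cancel]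
    have hw' : ∀ w, inc (p0 F) w → dv (k⁻¹ * g * k) • w = w := fun w hw0 => by
      rw [dv_mul, dv_mul, dv_inv, mul_smul, mul_smul, hw _ ((inc_smul k _ _).2 hw0), inv_smul_smul]
    obtain ⟨a, b, c, e⟩ := mem_upper_of_fix h4
      (by rw [mul_smul, mul_smul, hgd, inv_smul_smul]) (hw' _ inc_p0_p2)
    refine ⟨a, c, ?_⟩
    rw [e]
    have he : (![0, 1, 0] : Fin 3 → F) ≠ 0 := e1_ne
    have := (dv_uu_smul_eq_iff a b c he).1 (e ▸ hw' _ (by
      rw [inc_mk]; simp [dotProduct, Fin.sum_univ_three]))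
    simp at this
    rw [this]
  · rintro ⟨g, hg, rfl⟩
    have h4 := conj_four k g (pow_four_qp hg)
    obtain ⟨a, c, rfl⟩ := hg
    have hfix : ∀ z ∈ m, φ x (k * uu a 0 c * k⁻¹) • z = z := by
      intro z hz
      rcases eq_or_ne z x with rfl | hzx
      · exact hG.plane.fix _ _
      · refine (hG.dir_iff hzx h4).2 ?_
        rw [← hk z hz hzx, mul_smul, mul_smul, inv_smul_smul, (upper_fix_p0 (uu_mem a 0 c)).1]
    refine ⟨by rw [← map_pow, h4, map_one], fun z hz => ?_, hfix, fun S hS hmS z hzS => ?_⟩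
    · exact hG.mem_range_of_fix ⟨_, rfl⟩ (by rw [← map_pow, h4, map_one]) (hfix z hz)
    · obtain ⟨w, rfl⟩ := IsPl.exists_at hG hS (hmS hx)
      have hw : inc (k • p0 F) w := hd ▸ (hG.mem_pl hy).1 (hmS hym)
      have e : dv (k * uu a 0 c * k⁻¹) • w = w := by
        rw [dv_mul, dv_mul, dv_inv, mul_smul, mul_smul]
        have h0 : inc (p0 F) ((dv k)⁻¹ • w) := by
          rwa [← inc_smul k, smul_inv_smul]
        have : dv (uu a 0 c) • ((dv k)⁻¹ • w) = (dv k)⁻¹ • w := by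
          revert h0
          generalize (dv k)⁻¹ • w = p
          induction p using Projectivization.ind with | _ v hv =>
          intro h0
          rw [inc_mk] at h0
          simp [dotProduct, Fin.sum_univ_three] at h0
          exact (dv_uu_smul_eq_iff _ _ _ hv).2 (by simp [h0])
        rw [this, smul_inv_smul]
      have := (hG.smul_mem_pl (k * uu a 0 c * k⁻¹)).2 hzS
      rwa [e] at this

theorem exists_conj_dir {m : Set Ω} (hm : IsLn φ m) {x : Ω} (hx : x ∈ m) :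
    ∃ k : L F, ∀ y ∈ m, y ≠ x → k • p0 F = hG.dirOf x y := by
  obtain ⟨y, hy, rfl⟩ := hG.ln_of_mem hm hx
  obtain ⟨k, hk⟩ := exists_smul_eq_pt (p0 F) (hG.dirOf x y)
  refine ⟨k, fun z hz hzx => ?_⟩
  rw [hk, (((hG.mem_lin hy).1 hz).resolve_left hzx).2]

theorem shears_eq {m : Set Ω} (hm : IsLn φ m) {x : Ω} (hx : x ∈ m) {k : L F}
    (hk : ∀ y ∈ m, y ≠ x → k • p0 F = hG.dirOf x y) :
    hG.shears m = (qp F).map ((φ x).comp (MulAut.conj k).toMonoidHom) := by
  refine le_antisymm ((Subgroup.closure_le _).2 fun t ht => ?_) ?_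
  · exact (hG.inQ_iff hm hx hk t).1 ht
  · rintro t ⟨g, hg, rfl⟩
    exact Subgroup.subset_closure ((hG.inQ_iff hm hx hk _).2 ⟨g, hg, rfl⟩)

theorem inQ_of_mem {m : Set Ω} (hm : IsLn φ m) {t : G} (ht : t ∈ hG.shears m) : hG.InQ m t := by
  obtain ⟨x, hx⟩ := hG.ln_nonempty hm
  obtain ⟨k, hk⟩ := hG.exists_conj_dir hm hx
  rw [hG.shears_eq hm hx hk] at ht
  exact (hG.inQ_iff hm hx hk t).2 ht

theorem card_shears {m : Set Ω} (hm : IsLn φ m) : Nat.card (hG.shears m) = Nat.card F ^ 2 := by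
  obtain ⟨x, hx⟩ := hG.ln_nonempty hm
  obtain ⟨k, hk⟩ := hG.exists_conj_dir hm hx
  rw [hG.shears_eq hm hx hk]
  exact card_map_qp (ker_comp_conj (hG.plane.ker x) k)

theorem shears_sq {m : Set Ω} (hm : IsLn φ m) {t : G} (ht : t ∈ hG.shears m) : t * t = 1 := by
  obtain ⟨x, hx⟩ := hG.ln_nonempty hm
  obtain ⟨k, hk⟩ := hG.exists_conj_dir hm hx
  rw [hG.shears_eq hm hx hk] at ht
  obtain ⟨_, ⟨a, c, rfl⟩, rfl⟩ := ht
  rw [← map_mul, uu_sq, mul_zero, uu_zero, map_one]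

theorem shears_comm {m : Set Ω} (hm : IsLn φ m) {t s : G} (ht : t ∈ hG.shears m)
    (hs : s ∈ hG.shears m) : t * s = s * t := by
  have h := hG.shears_sq hm (mul_mem ht hs)
  rw [mul_eq_one_iff_eq_inv, _root_.mul_inv_rev] at h
  rwa [← eq_inv_of_mul_eq_one_left (hG.shears_sq hm hs), ← eq_inv_of_mul_eq_one_left (hG.shears_sq hm ht)] at h

theorem shears_smul {m : Set Ω} (hm : IsLn φ m) (g : G) {t : G} (ht : t ∈ hG.shears m) :
    g * t * g⁻¹ ∈ hG.shears ((g • ·) '' m) := by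
  obtain ⟨h1, h2, h3, h4⟩ := hG.inQ_of_mem hm ht
  refine Subgroup.subset_closure ⟨by rw [conj_pow, h1, mul_one, mul_inv_cancel], ?_, ?_, fun S hS hmS z hz => ?_⟩
  · rintro _ ⟨z, hz, rfl⟩
    exact hG.plane.conj g z t (h2 z hz)
  · rintro _ ⟨z, hz, rfl⟩
    show (g * t * g⁻¹) • g • z = g • z
    rw [mul_smul, mul_smul, inv_smul_smul, h3 z hz]
  · have := h4 _ (IsPl.smul hG hS g⁻¹)
      (fun y hy => ⟨g • y, hmS ⟨y, hy, rfl⟩, inv_smul_smul g y⟩) (g⁻¹ • z) ⟨z, hz, rfl⟩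
    obtain ⟨r, hr, e⟩ := this
    change g⁻¹ • r = t • g⁻¹ • z at e
    rw [mul_smul, mul_smul, ← e, smul_inv_smul]
    exact hr

variable (hu : u + 1 = Nat.card F)
include hu

/-- Shears preserve the parallel lines. -/
theorem shears_par {m m' : Set Ω} (h : hG.Par m m') {t : G} (ht : t ∈ hG.shears m) {z : Ω}
    (hz : z ∈ m') : t • z ∈ m' := by
  obtain ⟨ht4, hr, hfix, hpl⟩ := hG.inQ_of_mem h.1 ht
  by_cases e : t • z = z
  · rwa [e]
  by_cases hzm : z ∈ m
  · exact absurd (hfix z hzm) e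
  obtain ⟨S, hS, hmS, hzS⟩ := hG.exists_pl_ln h.1 hzm
  have htz : t • z ∈ S := hpl S hS hmS z hzS
  have hl : IsLn φ (lin φ z (t • z)) := ⟨z, t • z, e, rfl⟩
  have hdis : Disjoint m (lin φ z (t • z)) := by
    rw [Set.disjoint_left]
    intro p hp hp'
    have hzp : z ≠ p := fun e' => hzm (e' ▸ hp)
    have htzp : t • z ≠ p := fun e' => hzp (smul_left_cancel t (e'.trans (hfix p hp).symm))
    obtain ⟨g, hg, hgt⟩ := exists_lift (hG.plane.ker p) (hr p hp) ht4
    have he : lin φ p z = lin φ z (t • z) := hG.lin_eq e hzp hp' (hG.left_mem _ _)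
    have hd : hG.dirOf p (t • z) = hG.dirOf p z :=
      (((hG.mem_lin hzp).1 (he ▸ right_mem z (t • z))).resolve_left htzp).2
    rw [← hgt, hG.dir_smul hzp] at hd
    exact e (hgt ▸ (hG.dir_iff hzp hg).2 hd)
  have hpar : hG.Par m (lin φ z (t • z)) :=
    ⟨h.1, hl, Or.inr ⟨hdis, S, hS, hmS, IsPl.lin_subset hG hS hzS htz e⟩⟩
  rw [hG.par_unique hu h hpar hz (hG.left_mem _ _)]
  exact right_mem _ _

/-- Shears preserve planes containing a parallel line. -/
theorem shears_pl {m m' S : Set Ω} (h : hG.Par m m') (hS : hG.IsPl S) (hmS : m' ⊆ S) {t : G}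
    (ht : t ∈ hG.shears m) {z : Ω} (hz : z ∈ S) : t • z ∈ S := by
  obtain ⟨m'', hm'', hzm⟩ := hG.exists_par hu h.2.1 z
  exact hG.par_subset_pl hu hm'' hS hmS hzm hz
    (hG.shears_par hu (Par.trans hG hu h hm'') ht hzm)

/-- A shear along `m` fixing a point of a parallel line is a shear along that line. -/
theorem shears_of_fix {m m' : Set Ω} (h : hG.Par m m') {t : G} (ht : t ∈ hG.shears m) {y : Ω}
    (hy : y ∈ m') (hty : t • y = y) : t ∈ hG.shears m' := by
  by_cases hym : y ∈ m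
  · rwa [← Par.eq_of_mem hG h hym hy]
  have htQ := hG.inQ_of_mem h.1 ht
  obtain ⟨x, hx⟩ := hG.ln_nonempty h.1
  obtain ⟨k, hk⟩ := hG.exists_conj_dir h.1 hx
  obtain ⟨g, hg, rfl⟩ := (hG.inQ_iff h.1 hx hk t).1 htQ
  have h4 := conj_four k g (pow_four_qp hg)
  have hyx : y ≠ x := fun e => hym (e ▸ hx)
  obtain ⟨x', hx', hx'x⟩ := hG.exists_ne_mem h.1 x
  obtain ⟨S, hS, hmS, hyS⟩ := hG.exists_pl_ln h.1 hym
  obtain ⟨w, rfl⟩ := IsPl.exists_at hG hS (hmS hx)
  have hd : inc (k • p0 F) w := by rw [hk x' hx' hx'x]; exact (hG.mem_pl hx'x).1 (hmS hx')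
  have hfixS : ∀ z ∈ hG.pl x w, φ x (k * g * k⁻¹) • z = z := by
    intro z hz
    rcases eq_or_ne z x with rfl | hzx
    · exact hG.plane.fix _ _
    refine (hG.dir_iff hzx h4).2 ?_
    by_cases hg1 : g = 1
    · rw [hg1, mul_one, mul_inv_cancel, one_smul]
    obtain ⟨a, c, rfl⟩ := hg
    obtain ⟨A, C, -, hA, -⟩ := involution_axis (x := a) (y := 0) (z := c) (Or.inr rfl) (by
      by_contra hc
      simp only [not_or, not_not] at hc
      exact hg1 (by rw [hc.1, hc.2.2, uu_zero]))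
    have key : ∀ d : Pt F, (k * uu a 0 c * k⁻¹) • d = d ↔ inc d (dv k • A) := fun d => by
      rw [← smul_inv_smul k d, inc_smul, ← hA, mul_smul, mul_smul, inv_smul_smul, smul_left_cancel_iff]
    have hyd := (key _).1 ((hG.dir_iff hyx h4).1 hty)
    have h0 : inc (k • p0 F) (dv k • A) :=
      (inc_smul k _ _).2 ((hA _).1 (upper_fix_p0 (uu_mem a 0 c)).1)
    have hne : k • p0 F ≠ hG.dirOf x y := by
      rw [hk x' hx' hx'x]
      intro e'
      refine hym ?_
      rw [hG.ln_eq h.1 hx'x hx hx']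
      exact (hG.mem_lin hx'x).2 (Or.inr ⟨hyx, e'.symm⟩)
    rw [key, inc_unique hne h0 hyd hd ((hG.mem_pl hyx).1 hyS)]
    exact (hG.mem_pl hzx).1 hz
  have hm'S : m' ⊆ hG.pl x w := hG.par_subset_pl hu h hS hmS hy hyS
  exact Subgroup.subset_closure ⟨htQ.1,
    fun z hz => hG.mem_range_of_fix ⟨_, rfl⟩ htQ.1 (hfixS z (hm'S hz)),
    fun z hz => hfixS z (hm'S hz), fun R hR hm'R z hz => hG.shears_pl hu h hR hm'R ht hz⟩

/-- Three lines of a class which are not coplanar. -/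
theorem shears_split {m m' m'' : Set Ω} (h' : hG.Par m m') (h'' : hG.Par m m'') (hne : m' ≠ m)
    (hne' : m'' ≠ m)
    (hnc : ¬ ∃ S, hG.IsPl S ∧ m ⊆ S ∧ m' ⊆ S ∧ m'' ⊆ S) {t : G} (ht : t ∈ hG.shears m) :
    ∃ t₁ ∈ hG.shears m, ∃ t₂ ∈ hG.shears m, t₁ ∈ hG.shears m' ∧ t₂ ∈ hG.shears m'' ∧ t = t₁ * t₂ := by
  have hm := h'.1
  obtain ⟨x, hx⟩ := hG.ln_nonempty hm
  obtain ⟨y, hy⟩ := hG.ln_nonempty h'.2.1
  obtain ⟨z, hz⟩ := hG.ln_nonempty h''.2.1
  obtain ⟨x', hx', hx'x⟩ := hG.exists_ne_mem hm x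
  obtain ⟨k, hk⟩ := hG.exists_conj_dir hm hx
  have hym : y ∉ m := fun e => hne (Par.eq_of_mem hG h' e hy).symm
  have hzm : z ∉ m := fun e => hne' (Par.eq_of_mem hG h'' e hz).symm
  have hyx : y ≠ x := fun e => hym (e ▸ hx)
  have hzx : z ≠ x := fun e => hzm (e ▸ hx)
  obtain ⟨g, hg, rfl⟩ := (hG.inQ_iff hm hx hk t).1 (hG.inQ_of_mem hm ht)
  obtain ⟨a, c, rfl⟩ := hg
  obtain ⟨v, hv, ev⟩ : ∃ (v : Fin 3 → F) (hv : v ≠ 0), k⁻¹ • hG.dirOf x y = pt v hv := by
    induction (k⁻¹ • hG.dirOf x y) using Projectivization.ind with | _ v hv => exact ⟨v, hv, rfl⟩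
  obtain ⟨r, hr, er⟩ : ∃ (r : Fin 3 → F) (hr : r ≠ 0), k⁻¹ • hG.dirOf x z = pt r hr := by
    induction (k⁻¹ • hG.dirOf x z) using Projectivization.ind with | _ r hr => exact ⟨r, hr, rfl⟩
  have hv12 : v 1 ≠ 0 ∨ v 2 ≠ 0 := by
    by_contra hc
    simp only [not_or, not_not] at hc
    rw [eq_p0 hv hc.1 hc.2, inv_smul_eq_iff, hk x' hx' hx'x] at ev
    refine hym ?_
    rw [hG.ln_eq hm hx'x hx hx']
    exact (hG.mem_lin hx'x).2 (Or.inr ⟨hyx, ev⟩)
  have hΔ : v 2 * r 1 + v 1 * r 2 ≠ 0 := by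
    intro h0
    have hwne : (![0, v 2, v 1] : Fin 3 → F) ≠ 0 := by
      intro e
      rcases hv12 with h | h
      · exact h (congrFun e 2)
      · exact h (congrFun e 1)
    refine hnc ⟨hG.pl x (dv k • pt _ hwne), ⟨x, _, rfl⟩, ?_, ?_, ?_⟩
    · have hx'S : x' ∈ hG.pl x (dv k • pt _ hwne) := by
        rw [hG.mem_pl hx'x, ← hk x' hx' hx'x, inc_smul, inc_mk]
        simp [dotProduct, Fin.sum_univ_three]
      exact hG.ln_subset_pl hm ⟨x, _, rfl⟩ hx'x hx hx' (hG.self_mem_pl _ _) hx'S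
    all_goals
      have hmS : m ⊆ hG.pl x (dv k • pt _ hwne) := by
        refine hG.ln_subset_pl hm ⟨x, _, rfl⟩ hx'x hx hx' (hG.self_mem_pl _ _) ?_
        rw [hG.mem_pl hx'x, ← hk x' hx' hx'x, inc_smul, inc_mk]
        simp [dotProduct, Fin.sum_univ_three]
    · refine hG.par_subset_pl hu h' ⟨x, _, rfl⟩ hmS hy ?_
      rw [hG.mem_pl hyx, ← smul_inv_smul k (hG.dirOf x y), inc_smul, ev, inc_mk]
      simp [dotProduct, Fin.sum_univ_three]
      linear_combination (v 1 * v 2) * CharTwo.two_eq_zero (R := F)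
    · refine hG.par_subset_pl hu h'' ⟨x, _, rfl⟩ hmS hz ?_
      rw [hG.mem_pl hzx, ← smul_inv_smul k (hG.dirOf x z), inc_smul, er, inc_mk]
      simp [dotProduct, Fin.sum_univ_three]
      linear_combination h0
  set α := (a * r 1 + c * r 2) / (v 2 * r 1 + v 1 * r 2) with hα
  set β := (a * v 1 + c * v 2) / (v 2 * r 1 + v 1 * r 2) with hβ
  have key : ∀ p q : F, ∀ {y' : Ω} {w : Fin 3 → F} {hw : w ≠ 0}, y' ≠ x →
      k⁻¹ • hG.dirOf x y' = pt w hw → p * w 1 + q * w 2 = 0 →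
      φ x (k * uu p 0 q * k⁻¹) • y' = y' := by
    intro p q y' w hw hne e h0
    refine (hG.dir_iff hne (conj_four k _ (uu_pow_four p 0 q))).2 ?_
    rw [mul_smul, mul_smul, e, (uu_smul_eq_iff p 0 q hw).2 ⟨h0, zero_mul _⟩, ← e, smul_inv_smul]
  have hm1 : φ x (k * uu (α * v 2) 0 (α * v 1) * k⁻¹) ∈ hG.shears m :=
    Subgroup.subset_closure ((hG.inQ_iff hm hx hk _).2 ⟨_, ⟨_, _, rfl⟩, rfl⟩)
  have hm2 : φ x (k * uu (β * r 2) 0 (β * r 1) * k⁻¹) ∈ hG.shears m :=
    Subgroup.subset_closure ((hG.inQ_iff hm hx hk _).2 ⟨_, ⟨_, _, rfl⟩, rfl⟩)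
  refine ⟨_, hm1, _, hm2, hG.shears_of_fix hu h' hm1 hy (key _ _ hyx ev ?_),
    hG.shears_of_fix hu h'' hm2 hz (key _ _ hzx er ?_), ?_⟩
  · linear_combination (α * v 1 * v 2) * CharTwo.two_eq_zero (R := F)
  · linear_combination (β * r 1 * r 2) * CharTwo.two_eq_zero (R := F)
  · rw [← map_mul, show k * uu (α * v 2) 0 (α * v 1) * k⁻¹ * (k * uu (β * r 2) 0 (β * r 1) * k⁻¹) =
      k * (uu (α * v 2) 0 (α * v 1) * uu (β * r 2) 0 (β * r 1)) * k⁻¹ by group, uu_mul]
    congr 4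
    · rw [hα, hβ, div_mul_eq_mul_div, div_mul_eq_mul_div, ← add_div, eq_div_iff hΔ]
      linear_combination -(c * v 2 * r 2) * CharTwo.two_eq_zero (R := F)
    · simp
    · simp only [mul_zero, add_zero]
      rw [hα, hβ, div_mul_eq_mul_div, div_mul_eq_mul_div, ← add_div, eq_div_iff hΔ]
      linear_combination -(a * v 1 * r 1) * CharTwo.two_eq_zero (R := F)

theorem exists_noncoplanar {m m' : Set Ω} (h : hG.Par m m') :
    ∃ m'', hG.Par m m'' ∧ m'' ≠ m ∧ m'' ≠ m' ∧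
      (m ≠ m' → ¬ ∃ S, hG.IsPl S ∧ m ⊆ S ∧ m' ⊆ S ∧ m'' ⊆ S) := by
  obtain ⟨x, hx⟩ := hG.ln_nonempty h.1
  obtain ⟨S, hS, hmS, hm'S⟩ : ∃ S, hG.IsPl S ∧ m ⊆ S ∧ m' ⊆ S := by
    rcases h.2.2 with e | ⟨-, S, hS, h1, h2⟩
    · obtain ⟨y, hy, e'⟩ := hG.ln_of_mem h.1 hx
      obtain ⟨S, hS, h1, h2⟩ := hG.exists_pl_of_lin hy
      have := e' ▸ IsPl.lin_subset hG hS h1 h2 hy
      exact ⟨S, hS, this, e ▸ this⟩
    · exact ⟨S, hS, h1, h2⟩
  obtain ⟨z, hz⟩ : ∃ z, z ∉ S := by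
    by_contra hc
    simp only [not_exists, not_not] at hc
    have := IsPl.ncard' hG hu hS
    rw [Set.eq_univ_of_forall hc, Set.ncard_univ, hG.card_omega' hu x] at this
    have h2 := two_le_card (F := F)
    have h3 : Nat.card F ^ 2 < Nat.card F ^ 3 := Nat.pow_lt_pow_right (by omega) (by norm_num)
    omega
  obtain ⟨m'', hm'', hz'⟩ := hG.exists_par hu h.1 z
  refine ⟨m'', hm'', fun e => hz (hmS (e ▸ hz')), fun e => hz (hm'S (e ▸ hz')), ?_⟩
  rintro hne ⟨T, hT, h1, h2, h3⟩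
  obtain ⟨y, hy⟩ := hG.ln_nonempty h.2.1
  have hym : y ∉ m := fun hy' => hne (Par.eq_of_mem hG h hy' hy)
  exact hz ((hG.pl_unique_ln h.1 hS hT hym hmS (hm'S hy) h1 (h2 hy)).symm ▸ h3 hz')

/-- Shears along parallel lines commute. -/
theorem shears_comm_par {m m' : Set Ω} (h : hG.Par m m') {t s : G} (ht : t ∈ hG.shears m)
    (hs : s ∈ hG.shears m') : Commute t s := by
  rcases eq_or_ne m m' with rfl | hne
  · exact hG.shears_comm h.1 ht hs
  obtain ⟨m'', h'', hne1, hne2, hnc⟩ := hG.exists_noncoplanar hu h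
  obtain ⟨t₁, ht₁, t₂, ht₂, ht₁', ht₂', rfl⟩ := hG.shears_split hu h h'' hne.symm hne1 (hnc hne) ht
  obtain ⟨s₁, hs₁, s₂, hs₂, hs₁', hs₂', rfl⟩ := hG.shears_split hu (Par.symm hG h)
    (Par.trans hG hu (Par.symm hG h) h'') hne hne2
    (fun ⟨T, hT, h1, h2, h3⟩ => hnc hne ⟨T, hT, h2, h1, h3⟩) hs
  refine Commute.mul_left (Commute.mul_right ?_ ?_) (Commute.mul_right ?_ ?_)
  · exact hG.shears_comm h.2.1 ht₁' hs₁
  · exact hG.shears_comm h.2.1 ht₁' hs₂
  · exact hG.shears_comm h.1 ht₂ hs₁'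
  · exact hG.shears_comm h''.2.1 ht₂' hs₂'

/-- Shears along `m` are transitive on every other line of the class. -/
theorem shears_transitive {m m' : Set Ω} (h : hG.Par m m') (hne : m' ≠ m) {y z : Ω} (hy : y ∈ m')
    (hz : z ∈ m') : ∃ t ∈ hG.shears m, t • y = z := by
  obtain ⟨x, hx⟩ := hG.ln_nonempty h.1
  obtain ⟨x', hx', hx'x⟩ := hG.exists_ne_mem h.1 x
  obtain ⟨k, hk⟩ := hG.exists_conj_dir h.1 hx
  have hym : y ∉ m := fun e => hne (Par.eq_of_mem hG h e hy).symm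
  have hyx : y ≠ x := fun e => hym (e ▸ hx)
  obtain ⟨v, hv, ev⟩ : ∃ (v : Fin 3 → F) (hv : v ≠ 0), k⁻¹ • hG.dirOf x y = pt v hv := by
    induction (k⁻¹ • hG.dirOf x y) using Projectivization.ind with | _ v hv => exact ⟨v, hv, rfl⟩
  have hv12 : v 1 ≠ 0 ∨ v 2 ≠ 0 := by
    by_contra hc
    simp only [not_or, not_not] at hc
    rw [eq_p0 hv hc.1 hc.2, inv_smul_eq_iff, hk x' hx' hx'x] at ev
    refine hym ?_
    rw [hG.ln_eq h.1 hx'x hx hx']
    exact (hG.mem_lin hx'x).2 (Or.inr ⟨hyx, ev⟩)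
  set Q := hG.shears m
  have hst : Nat.card (MulAction.stabilizer Q y) ≤ Nat.card F := by
    have : ∀ t : MulAction.stabilizer Q y, ∃ a c : F,
        φ x (k * uu a 0 c * k⁻¹) = ((t : Q) : G) ∧ a * v 1 + c * v 2 = 0 := by
      intro t
      obtain ⟨g, ⟨a, c, rfl⟩, e⟩ := (hG.inQ_iff h.1 hx hk _).1 (hG.inQ_of_mem h.1 t.1.2)
      refine ⟨a, c, e, ?_⟩
      have hfix : φ x (k * uu a 0 c * k⁻¹) • y = y := by rw [e]; exact t.2
      have := (hG.dir_iff hyx (conj_four k _ (uu_pow_four a 0 c))).1 hfix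
      rw [mul_smul, mul_smul, ev] at this
      exact ((uu_smul_eq_iff a 0 c hv).1 ((eq_inv_smul_iff.2 this).trans ev)).1
    choose a c hac hzero using this
    by_cases hv1 : v 1 = 0
    · refine Nat.card_le_card_of_injective a fun t t' e => ?_
      have hc : ∀ t, c t = 0 := fun t => by
        have := hzero t
        rw [hv1, mul_zero, zero_add] at this
        exact (mul_eq_zero.1 this).resolve_right (hv12.resolve_left fun h => h hv1)
      exact Subtype.ext (Subtype.ext (by rw [← hac t, ← hac t', e, hc, hc]))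
    · refine Nat.card_le_card_of_injective c fun t t' e => ?_
      have ha : a t = a t' := by
        have h1 := hzero t
        have h2 := hzero t'
        rw [e] at h1
        exact mul_right_cancel₀ hv1 (add_right_cancel (h1.trans h2.symm))
      exact Subtype.ext (Subtype.ext (by rw [← hac t, ← hac t', e, ha]))
  have hsub : MulAction.orbit Q y ⊆ m' := by
    rintro _ ⟨t, rfl⟩
    exact hG.shears_par hu h t.2 hy
  have heq : MulAction.orbit Q y = m' := by
    refine Set.eq_of_subset_of_ncard_le hsub ?_ (Set.toFinite _)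
    rw [hG.ncard_ln h.2.1, hu, ← MulAction.index_stabilizer]
    have := (MulAction.stabilizer Q y).card_mul_index
    rw [hG.card_shears h.1] at this
    refine Nat.le_of_mul_le_mul_left (a := Nat.card F) ?_ (Nat.card_pos (α := F))
    rw [← pow_two, ← this]
    exact Nat.mul_le_mul_right _ hst
  rw [← heq] at hz
  obtain ⟨t, rfl⟩ := hz
  exact ⟨t, t.2, rfl⟩

theorem classGroup_eq {m m' : Set Ω} (h : hG.Par m m') : hG.classGroup m = hG.classGroup m' := by
  refine congrArg Subgroup.closure (Set.ext fun t => ?_)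
  exact ⟨fun ⟨n, hn, ht⟩ => ⟨n, Par.trans hG hu (Par.symm hG h) hn, ht⟩,
    fun ⟨n, hn, ht⟩ => ⟨n, Par.trans hG hu h hn, ht⟩⟩

theorem shears_le_classGroup {m m' : Set Ω} (h : hG.Par m m') : hG.shears m' ≤ hG.classGroup m :=
  fun _ ht => Subgroup.subset_closure ⟨m', h, ht⟩

theorem classGroup_comm {m : Set Ω} {t s : G} (ht : t ∈ hG.classGroup m) (hs : s ∈ hG.classGroup m) :
    Commute t s := by
  have : ∀ s' ∈ hG.classGroup m, ∀ t' ∈ hG.classGroup m, Commute t' s' := by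
    intro s' hs'
    induction hs' using Subgroup.closure_induction with
    | mem a ha =>
      intro t' ht'
      induction ht' using Subgroup.closure_induction with
      | mem b hb =>
        obtain ⟨n, hn, ha⟩ := ha
        obtain ⟨n', hn', hb⟩ := hb
        exact hG.shears_comm_par hu (Par.trans hG hu (Par.symm hG hn') hn) hb ha
      | one => exact Commute.one_left _
      | mul _ _ _ _ h1 h2 => exact h1.mul_left h2
      | inv _ _ h1 => exact h1.inv_left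
    | one => exact fun _ _ => Commute.one_right _
    | mul _ _ _ _ h1 h2 => exact fun t' ht' => (h1 t' ht').mul_right (h2 t' ht')
    | inv _ _ h1 => exact fun t' ht' => (h1 t' ht').inv_right
  exact this s hs t ht

theorem classGroup_sq {m : Set Ω} {t : G} (ht : t ∈ hG.classGroup m) : t * t = 1 := by
  have : t ∈ hG.classGroup m ∧ t * t = 1 := by
    induction ht using Subgroup.closure_induction with
    | mem a ha =>
      obtain ⟨n, hn, ha⟩ := ha
      exact ⟨hG.shears_le_classGroup hu hn ha, hG.shears_sq hn.2.1 ha⟩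
    | one => exact ⟨one_mem _, one_mul 1⟩
    | mul a b _ _ h1 h2 =>
      exact ⟨mul_mem h1.1 h2.1, by
        rw [mul_assoc, ← mul_assoc b a b, (hG.classGroup_comm hu h2.1 h1.1).eq, mul_assoc a b b, h2.2,
          mul_one, h1.2]⟩
    | inv a _ h1 => exact ⟨inv_mem h1.1, by rw [← _root_.mul_inv_rev, h1.2, inv_one]⟩
  exact this.2

theorem classGroup_par {m m' : Set Ω} (h : hG.Par m m') {t : G} (ht : t ∈ hG.classGroup m) {z : Ω}
    (hz : z ∈ m') : t • z ∈ m' := by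
  induction ht using Subgroup.closure_induction_left generalizing z with
  | one => rwa [one_smul]
  | mul_left a ha b _ hb =>
    obtain ⟨n, hn, ha⟩ := ha
    rw [mul_smul]
    exact hG.shears_par hu (Par.trans hG hu (Par.symm hG hn) h) ha (hb hz)
  | inv_mul_cancel a ha b _ hb =>
    obtain ⟨n, hn, ha⟩ := ha
    rw [mul_smul]
    exact hG.shears_par hu (Par.trans hG hu (Par.symm hG hn) h) (inv_mem ha) (hb hz)

theorem classGroup_transitive {m m' : Set Ω} (h : hG.Par m m') {y z : Ω} (hy : y ∈ m') (hz : z ∈ m') :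
    ∃ t ∈ hG.classGroup m, t • y = z := by
  obtain ⟨m'', h'', hne, -⟩ := hG.exists_noncoplanar hu (hG.par_refl h.2.1)
  obtain ⟨t, ht, e⟩ := hG.shears_transitive hu (Par.symm hG h'') (Ne.symm hne) hy hz
  exact ⟨t, hG.shears_le_classGroup hu (Par.trans hG hu h h'') ht, e⟩

theorem classGroup_fix {m m' : Set Ω} (h : hG.Par m m') {t : G} (ht : t ∈ hG.classGroup m) {y z : Ω}
    (hy : y ∈ m') (hz : z ∈ m') (hty : t • y = y) : t • z = z := by
  obtain ⟨s, hs, rfl⟩ := hG.classGroup_transitive hu h hy hz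
  rw [← mul_smul, (hG.classGroup_comm hu ht hs).eq, mul_smul, hty]

/-- An element of the class group fixing points of three non-coplanar lines is trivial. -/
theorem classGroup_eq_one {m m' m'' : Set Ω} (h' : hG.Par m m') (h'' : hG.Par m m'') (hne : m' ≠ m)
    (hnc : ¬ ∃ S, hG.IsPl S ∧ m ⊆ S ∧ m' ⊆ S ∧ m'' ⊆ S) {w : G} (hw : w ∈ hG.classGroup m)
    {a b c : Ω} (ha : a ∈ m) (hb : b ∈ m') (hc : c ∈ m'') (ha' : w • a = a) (hb' : w • b = b)
    (hc' : w • c = c) : w = 1 := by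
  have hbm : b ∉ m := fun e => hne (Par.eq_of_mem hG h' e hb).symm
  have hba : b ≠ a := fun e => hbm (e ▸ ha)
  obtain ⟨S, hS, hmS, hbS⟩ := hG.exists_pl_ln h'.1 hbm
  have hm'S : m' ⊆ S := hG.par_subset_pl hu h' hS hmS hb hbS
  have hcS : c ∉ S := fun e => hnc ⟨S, hS, hmS, hm'S, hG.par_subset_pl hu h'' hS hmS hc e⟩
  have hcl : c ∉ lin φ a b := fun e => hcS (IsPl.lin_subset hG hS (hmS ha) hbS hba e)
  obtain ⟨R, hR, haR, hbR, hcR⟩ := hG.exists_pl hba hcl
  have hno : ∀ n, hG.Par m n → ∀ p r, p ∈ R → r ∈ R → p ∈ n → r ∈ n → p = r := by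
    intro n hn p r hp hr hpn hrn
    by_contra e
    have hnR : n ⊆ R := hG.ln_subset_pl hn.2.1 hR (Ne.symm e) hpn hrn hp hr
    have hmR : m ⊆ R := hG.par_subset_pl hu (Par.symm hG hn) hR hnR ha haR
    exact hcS ((hG.pl_unique_ln h'.1 hS hR hbm hmS hbS hmR hbR).symm ▸ hcR)
  -- every line of the class meets `R`
  have hmeet : ∀ z, ∃ r ∈ R, ∃ n, hG.Par m n ∧ z ∈ n ∧ r ∈ n := by
    classical
    haveI := Fintype.ofFinite Ω
    choose cl hcl1 hcl2 using hG.exists_par hu h'.1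
    let T := {n : Set Ω // hG.Par m n}
    haveI := Fintype.ofFinite T
    have hcard : Nat.card T * Nat.card F = Nat.card F ^ 3 := by
      rw [← hG.card_omega' hu a, ← Nat.card_congr (Equiv.ofBijective
        (fun p : Σ n : T, ↥(n : Set Ω) => (p.2 : Ω)) ⟨?_, fun z =>
          ⟨⟨⟨cl z, hcl1 z⟩, z, hcl2 z⟩, rfl⟩⟩), Nat.card_sigma,
        Finset.sum_congr rfl fun (n : T) _ => (Nat.card_coe_set_eq (n : Set Ω)).trans
          ((hG.ncard_ln n.2.2.1).trans hu), Finset.sum_const, smul_eq_mul, Finset.card_univ,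
        Nat.card_eq_fintype_card]
      rintro ⟨⟨n, hn⟩, p, hp⟩ ⟨⟨n', hn'⟩, p', hp'⟩ e
      simp only at e
      subst e
      obtain rfl := hG.par_unique hu hn hn' hp hp'
      rfl
    have hbij : Function.Bijective fun r : R => (⟨cl r, hcl1 r⟩ : T) := by
      refine (Nat.bijective_iff_injective_and_card _).2 ⟨fun p r e => Subtype.ext ?_, ?_⟩
      · have e' : cl p = cl r := congrArg Subtype.val e
        exact hno _ (hcl1 p) p r p.2 r.2 (hcl2 p) (e' ▸ hcl2 r)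
      · rw [Nat.card_coe_set_eq, IsPl.ncard' hG hu hR]
        refine Nat.eq_of_mul_eq_mul_right (Nat.card_pos : 0 < Nat.card F) ?_
        rw [hcard]; ring
    intro z
    obtain ⟨r, hr⟩ := hbij.2 ⟨cl z, hcl1 z⟩
    have e : cl r = cl z := congrArg Subtype.val hr
    exact ⟨r, r.2, cl z, hcl1 z, hcl2 z, e ▸ hcl2 r⟩
  have hwR : ∀ r ∈ R, w • r ∈ R := by
    have e : (w • ·) '' R = R := by
      refine hG.pl_unique (IsPl.smul hG hR w) hR hba hcl ?_ ?_ ?_ haR hbR hcR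
      · exact ⟨a, haR, ha'⟩
      · exact ⟨b, hbR, hb'⟩
      · exact ⟨c, hcR, hc'⟩
    intro r hr
    rw [← e]
    exact ⟨r, hr, rfl⟩
  refine eq_of_smul_eq_smul (α := Ω) fun z => ?_
  rw [one_smul]
  obtain ⟨r, hr, n, hn, hzn, hrn⟩ := hmeet z
  exact hG.classGroup_fix hu hn hw hrn hzn
    (hno n hn _ _ (hwR r hr) hr (hG.classGroup_par hu hn hw hrn) hrn)

/-- The class group has order `q^3`, and the stabiliser of a point is the group of shears. -/
theorem card_classGroup {m : Set Ω} (hm : IsLn φ m) :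
    Nat.card (hG.classGroup m) = Nat.card F ^ 3 ∧
      ∀ t ∈ hG.classGroup m, ∀ x ∈ m, t • x = x → t ∈ hG.shears m := by
  obtain ⟨x, hx⟩ := hG.ln_nonempty hm
  obtain ⟨m', h', hne, -, -⟩ := hG.exists_noncoplanar hu (hG.par_refl hm)
  obtain ⟨m'', h'', hne1, -, hnc⟩ := hG.exists_noncoplanar hu h'
  obtain ⟨y, hy⟩ := hG.ln_nonempty h'.2.1
  obtain ⟨z, hz⟩ := hG.ln_nonempty h''.2.1
  set W := hG.classGroup m
  have horb : MulAction.orbit W x = m := by
    ext z
    exact ⟨by rintro ⟨t, rfl⟩; exact hG.classGroup_par hu (hG.par_refl hm) t.2 hx, fun hz => by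
      obtain ⟨t, ht, e⟩ := hG.classGroup_transitive hu (hG.par_refl hm) hx hz
      exact ⟨⟨t, ht⟩, e⟩⟩
  have hle : Nat.card (MulAction.stabilizer W x) ≤ Nat.card F ^ 2 := by
    have h2 : Nat.card (↥m' × ↥m'') = Nat.card F ^ 2 := by
      rw [Nat.card_prod, Nat.card_coe_set_eq, Nat.card_coe_set_eq, hG.ncard_ln h'.2.1,
        hG.ncard_ln h''.2.1, hu, pow_two]
    rw [← h2]
    refine Nat.card_le_card_of_injective (fun w : MulAction.stabilizer W x =>
      ((⟨((w : W) : G) • y, hG.classGroup_par hu h' w.1.2 hy⟩ : m'),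
        (⟨((w : W) : G) • z, hG.classGroup_par hu h'' w.1.2 hz⟩ : m''))) fun w w' e => ?_
    simp only [Prod.mk.injEq, Subtype.mk.injEq] at e
    have := hG.classGroup_eq_one hu h' h'' hne (hnc (Ne.symm hne))
      (mul_mem (inv_mem w.1.2) w'.1.2) hx hy hz
      (by
        rw [mul_smul, inv_smul_eq_iff]
        have h1 : ((w' : W) : G) • x = x := w'.2
        have h2 : ((w : W) : G) • x = x := w.2
        rw [h1, h2])
      (by rw [mul_smul, inv_smul_eq_iff]; exact e.1.symm)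
      (by rw [mul_smul, inv_smul_eq_iff]; exact e.2.symm)
    exact Subtype.ext (Subtype.ext (inv_mul_eq_one.1 this))
  let j : hG.shears m → MulAction.stabilizer W x := fun t =>
    ⟨⟨t, hG.shears_le_classGroup hu (hG.par_refl hm) t.2⟩, (hG.inQ_of_mem hm t.2).2.2.1 x hx⟩
  have hj : Function.Injective j := fun a b e =>
    Subtype.ext (congrArg (fun w : MulAction.stabilizer W x => ((w : W) : G)) e :)
  have hcard : Nat.card (MulAction.stabilizer W x) = Nat.card F ^ 2 :=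
    le_antisymm hle (hG.card_shears hm ▸ Nat.card_le_card_of_injective j hj)
  have hjs : Function.Surjective j :=
    ((Nat.bijective_iff_injective_and_card j).2 ⟨hj, by rw [hcard, hG.card_shears hm]⟩).2
  refine ⟨?_, fun t ht x' hx' e => ?_⟩
  · rw [← (MulAction.stabilizer W x).card_mul_index, hcard, MulAction.index_stabilizer, horb,
      hG.ncard_ln hm, hu]
    ring
  · have ex : t • x = x := hG.classGroup_fix hu (hG.par_refl hm) ht hx' hx e
    obtain ⟨s, hs⟩ := hjs ⟨⟨t, ht⟩, ex⟩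
    have : (s : G) = t := congrArg (fun w : MulAction.stabilizer W x => ((w : W) : G)) hs
    exact this ▸ s.2

end Geo

end CfsgLib.PlaneStab
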