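import Cfsg.Agent.PlaneStab.Elem

/-!
# Points as directions: the planes
-/

set_option autoImplicit false

open Matrix

namespace CfsgLib.PlaneStab

variable {F : Type*} [Field F]

/-- Two points are on a line. -/
theorem exists_inc_pair {p r : Pt F} (h : p ≠ r) : ∃ w, inc p w ∧ inc r w := by
  have he : p0 F ≠ pt ![0, 1, 0] e1_ne := by
    intro e
    rw [Projectivization.mk_eq_mk_iff'] at e
    obtain ⟨c, hc⟩ := e
    simpa using congrFun hc 0
  obtain ⟨g, hgp, hgr⟩ := exists_smul_pair he h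
  refine ⟨dv g • p2 F, ?_, ?_⟩
  · rw [← hgp, inc_smul, inc_mk]; simp [dotProduct, Fin.sum_univ_three]
  · rw [← hgr, inc_smul, inc_mk]; simp [dotProduct, Fin.sum_univ_three]

/-- Two lines meet. -/
theorem exists_inc_pair' {w w' : Pt F} (h : w ≠ w') : ∃ p, inc p w ∧ inc p w' := by
  obtain ⟨p, h1, h2⟩ := exists_inc_pair h
  exact ⟨p, inc_comm.1 h1, inc_comm.1 h2⟩

theorem exists_line_through [Finite F] (p : Pt F) : ∃ w, inc p w := by
  obtain ⟨r, hr⟩ : ∃ r, r ≠ p := by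
    obtain ⟨r, -, hr⟩ := exists_ne_inc (p0 F) p
    exact ⟨r, hr⟩
  obtain ⟨w, hw, -⟩ := exists_inc_pair (Ne.symm hr)
  exact ⟨w, hw⟩

variable [CharP F 2] [Finite F]

theorem fixed_pt_qp_iff (k : L F) (d : Pt F) :
    (∀ g ∈ qp F, (k * g * k⁻¹) • d = d) ↔ d = k • p0 F := by
  have e : ∀ g : L F, (k * g * k⁻¹) • d = d ↔ g • (k⁻¹ • d) = k⁻¹ • d := fun g => by
    rw [mul_smul, mul_smul]; exact eq_inv_smul_iff.symm
  simp only [e]
  rw [← inv_smul_eq_iff]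
  exact ⟨fun h => eq_p0_of_fixed fun x z => h _ ⟨x, z, rfl⟩,
    fun h => by rintro g ⟨x, z, rfl⟩; rw [h]; exact (upper_fix_p0 (uu_mem x 0 z)).1⟩

theorem fixed_pt_ql_iff (k : L F) (d : Pt F) :
    (∀ g ∈ ql F, (k * g * k⁻¹) • d = d) ↔ inc d (dv k • p2 F) := by
  have e : ∀ g : L F, (k * g * k⁻¹) • d = d ↔ g • (k⁻¹ • d) = k⁻¹ • d := fun g => by
    rw [mul_smul, mul_smul]; exact eq_inv_smul_iff.symm
  simp only [e]
  rw [show inc d (dv k • p2 F) ↔ inc (k⁻¹ • d) (p2 F) by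
    rw [← inc_smul k (k⁻¹ • d), smul_inv_smul]]
  generalize k⁻¹ • d = p
  induction p using Projectivization.ind with | _ v hv =>
  rw [inc_mk]
  simp [dotProduct, Fin.sum_univ_three]
  constructor
  · intro h
    simpa using ((uu_smul_eq_iff _ _ _ hv).1 (h _ ⟨1, 0, rfl⟩)).2
  · rintro h _ ⟨y, z, rfl⟩
    exact (uu_smul_eq_iff _ _ _ hv).2 (by simp [h])

variable {G Ω : Type*} [Group G] [MulAction G Ω] [Finite G] [Finite Ω] [FaithfulSMul G Ω]
  {φ : Ω → L F →* G} {u : ℕ}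

/-- The plane through `x` in the directions of a line. -/
def Geo.pl (hG : Geo φ (Pt F) u) (x : Ω) (w : Pt F) : Set Ω :=
  {y | y = x ∨ y ≠ x ∧ inc (hG.dirOf x y) w}

/-- A plane. -/
def Geo.IsPl (hG : Geo φ (Pt F) u) (S : Set Ω) : Prop := ∃ x w, S = hG.pl x w

namespace Geo

variable (hG : Geo φ (Pt F) u)
include hG

theorem mem_pl {x y : Ω} (hy : y ≠ x) {w : Pt F} : y ∈ hG.pl x w ↔ inc (hG.dirOf x y) w :=
  ⟨fun h => (h.resolve_left hy).2, fun h => Or.inr ⟨hy, h⟩⟩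

theorem self_mem_pl (x : Ω) (w : Pt F) : x ∈ hG.pl x w := Or.inl rfl

theorem card_inc_dirs (x : Ω) (w : Pt F) :
    Nat.card {y : Ω // y ≠ x ∧ inc (hG.dirOf x y) w} = (Nat.card F + 1) * u := by
  haveI := Fintype.ofFinite {d : Pt F // inc d w}
  rw [Nat.card_congr (β := Σ d : {d : Pt F // inc d w}, {y : Ω // y ≠ x ∧ hG.dirOf x y = d.1})
    { toFun := fun y => ⟨⟨hG.dirOf x y.1, y.2.2⟩, y.1, y.2.1, rfl⟩
      invFun := fun p => ⟨p.2.1, p.2.2.1, (congrArg (fun d => inc d w) p.2.2.2).mpr p.1.2⟩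
      left_inv := fun _ => rfl
      right_inv := by rintro ⟨⟨d, hd⟩, y, hy, hyd⟩; simp only at hyd; subst hyd; rfl },
    Nat.card_sigma]
  simp [hG.card_fibre, ← Nat.card_eq_fintype_card, card_inc]

theorem ncard_pl (x : Ω) (w : Pt F) : (hG.pl x w).ncard = (Nat.card F + 1) * u + 1 := by
  rw [← Nat.card_coe_set_eq]
  show Nat.card {y : Ω // y = x ∨ y ≠ x ∧ inc (hG.dirOf x y) w} = _
  rw [Pair.card_erase (p := fun y => y = x ∨ y ≠ x ∧ inc (hG.dirOf x y) w) (c := x) (Or.inl rfl),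
    ← hG.card_inc_dirs x w]
  congr 1
  exact Nat.card_congr (Equiv.subtypeEquivRight fun y =>
    ⟨fun h => h.2.resolve_left h.1, fun h => ⟨h.1, Or.inr h⟩⟩)

theorem ncard_lin {x y : Ω} (hy : y ≠ x) : (lin φ x y).ncard = u + 1 := by
  rw [← Nat.card_coe_set_eq]
  exact hG.card_lin hy

theorem IsPl.ncard {S : Set Ω} (hS : hG.IsPl S) : S.ncard = (Nat.card F + 1) * u + 1 := by
  obtain ⟨x, w, rfl⟩ := hS
  exact hG.ncard_pl x w

theorem pl_inj {x : Ω} {w w' : Pt F} (h : hG.pl x w = hG.pl x w') : w = w' := by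
  obtain ⟨p, hp⟩ : ∃ p, inc p w := by
    obtain ⟨p, hp, -⟩ := exists_ne_inc w (p0 F)
    exact ⟨p, hp⟩
  obtain ⟨r, hr, hrp⟩ := exists_ne_inc w p
  have key : ∀ d, inc d w → inc d w' := fun d hd => by
    obtain ⟨y, hy, rfl⟩ := hG.exists_dir x d
    exact (hG.mem_pl hy).1 (h ▸ (hG.mem_pl hy).2 hd)
  exact inc_unique hrp hr hp (key r hr) (key p hp)

/-- The group fixing a plane pointwise. -/
theorem exists_plGroup (x : Ω) (w : Pt F) :
    ∃ A : Subgroup G, A ≤ (φ x).range ∧ (∀ a ∈ A, a ^ 2 = 1) ∧ Nat.card A = Nat.card F ^ 2 ∧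
      hG.pl x w = {y | ∀ a ∈ A, a • y = y} := by
  obtain ⟨k, hk⟩ := exists_smul_eq_pt (p2 F) w
  refine ⟨(ql F).map ((φ x).comp (MulAut.conj (dv k)).toMonoidHom),
    (Subgroup.map_le_range _ _).trans (range_comp_conj _ _).le, ?_,
    card_map_ql (ker_comp_conj (hG.plane.ker x) _), ?_⟩
  · rintro _ ⟨g, hg, rfl⟩
    obtain ⟨a, c, rfl⟩ := hg
    rw [← map_pow, uu_sq_eq_one_iff.2 (Or.inl rfl), map_one]
  · ext y
    simp only [Geo.pl, Set.mem_setOf_eq, Subgroup.mem_map, forall_exists_index, and_imp]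
    constructor
    · rintro (rfl | ⟨hy, hd⟩) _ g hg rfl
      · exact hG.plane.fix _ _
      · refine (hG.dir_iff hy (conj_four (dv k) g (pow_four_ql hg))).2 ?_
        exact (fixed_pt_ql_iff (dv k) _).2 (by rw [dv_dv, hk]; exact hd) g hg
    · intro h
      rcases eq_or_ne y x with hy | hy
      · exact Or.inl hy
      · refine Or.inr ⟨hy, ?_⟩
        have := (fixed_pt_ql_iff (dv k) (hG.dirOf x y)).1 fun g hg =>
          (hG.dir_iff hy (conj_four (dv k) g (pow_four_ql hg))).1 (h _ g hg rfl)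
        rwa [dv_dv, hk] at this

/-- An elementary abelian group of order `q^2` in `N_x` with more fixed points than a line fixes a plane. -/
theorem isPl_of_group {x : Ω} {A : Subgroup G} (hA : A ≤ (φ x).range) (hA2 : ∀ a ∈ A, a ^ 2 = 1)
    (hAc : Nat.card F ^ 2 ≤ Nat.card A) (hbig : u + 1 < {y : Ω | ∀ a ∈ A, a • y = y}.ncard) :
    ∃ w, {y : Ω | ∀ a ∈ A, a • y = y} = hG.pl x w := by
  obtain ⟨h, hA' | hA'⟩ := elem_cases (hG.plane.ker x) hA hA2 hAc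
  · exfalso
    obtain ⟨y, hy, hyd⟩ := hG.exists_dir x (h • p0 F)
    have hsub : {z : Ω | ∀ a ∈ A, a • z = z} ⊆ lin φ x y := by
      intro z hz
      rw [hG.mem_lin hy]
      rcases eq_or_ne z x with e | e
      · exact Or.inl e
      · refine Or.inr ⟨e, ?_⟩
        rw [hyd]
        exact (fixed_pt_qp_iff h _).1 fun g hg =>
          (hG.dir_iff e (conj_four h g (pow_four_qp hg))).1 (hz _ (hA' ▸ ⟨g, hg, rfl⟩))
    have := Set.ncard_le_ncard hsub (Set.toFinite _)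
    rw [hG.ncard_lin hy] at this
    omega
  · refine ⟨dv h • p2 F, ?_⟩
    ext z
    simp only [Geo.pl, Set.mem_setOf_eq, hA', Subgroup.mem_map, forall_exists_index, and_imp]
    constructor
    · intro hz
      rcases eq_or_ne z x with e | e
      · exact Or.inl e
      · exact Or.inr ⟨e, (fixed_pt_ql_iff h _).1 fun g hg =>
          (hG.dir_iff e (conj_four h g (pow_four_ql hg))).1 (hz _ g hg rfl)⟩
    · rintro (rfl | ⟨e, hd⟩) _ g hg rfl
      · exact hG.plane.fix _ _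
      · exact (hG.dir_iff e (conj_four h g (pow_four_ql hg))).2 ((fixed_pt_ql_iff h _).2 hd g hg)

theorem lt_ncard_pl (x : Ω) (w : Pt F) : u + 1 < (hG.pl x w).ncard := by
  rw [hG.ncard_pl]
  have := two_le_card (F := F)
  have := hG.u_pos
  nlinarith

/-- A plane is a plane at each of its points. -/
theorem IsPl.exists_at {S : Set Ω} (hS : hG.IsPl S) {y : Ω} (hy : y ∈ S) : ∃ w, S = hG.pl y w := by
  obtain ⟨x, w, rfl⟩ := hS
  obtain ⟨A, hA, hA2, hAc, e⟩ := hG.exists_plGroup x w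
  have hb := hG.lt_ncard_pl x w
  rw [e] at hy hb ⊢
  exact hG.isPl_of_group (fun a ha => hG.mem_range_of_fix (hA ha)
    (by rw [show 4 = 2 * 2 from rfl, pow_mul, hA2 a ha, one_pow]) (hy a ha)) hA2 hAc.ge hb

/-- The group moves planes to planes. -/
theorem IsPl.smul {S : Set Ω} (hS : hG.IsPl S) (g : G) : hG.IsPl ((g • ·) '' S) := by
  obtain ⟨x, w, rfl⟩ := hS
  obtain ⟨A, hA, hA2, hAc, e⟩ := hG.exists_plGroup x w
  set B := A.map (MulAut.conj g).toMonoidHom with hB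
  have hfix : {y : Ω | ∀ b ∈ B, b • y = y} = (g • ·) '' hG.pl x w := by
    rw [e]
    ext y
    constructor
    · intro hy
      refine ⟨g⁻¹ • y, fun a ha => ?_, smul_inv_smul g y⟩
      have := hy _ ⟨a, ha, rfl⟩
      rw [show (MulAut.conj g).toMonoidHom a = g * a * g⁻¹ from rfl, mul_smul, mul_smul] at this
      exact eq_inv_smul_iff.2 this
    · rintro ⟨z, hz, rfl⟩ _ ⟨a, ha, rfl⟩
      show (g * a * g⁻¹) • g • z = g • z
      rw [mul_smul, mul_smul, inv_smul_smul, hz a ha]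
  have hBc : Nat.card B = Nat.card A := Subgroup.card_map_of_injective (MulAut.conj g).injective
  obtain ⟨w', hw'⟩ := hG.isPl_of_group (x := g • x) (A := B)
    (by rintro _ ⟨a, ha, rfl⟩; exact hG.plane.conj g x a (hA ha))
    (by rintro _ ⟨a, ha, rfl⟩; rw [← map_pow, hA2 a ha, map_one])
    (hBc ▸ hAc.ge)
    (by rw [hfix, Set.ncard_image_of_injective _ (MulAction.injective g)]; exact hG.lt_ncard_pl x w)
  exact ⟨g • x, w', hfix ▸ hw'⟩

/-- Planes are subspaces. -/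
theorem IsPl.lin_subset {S : Set Ω} (hS : hG.IsPl S) {p r : Ω} (hp : p ∈ S) (hr : r ∈ S) (h : r ≠ p) :
    lin φ p r ⊆ S := by
  obtain ⟨w, rfl⟩ := IsPl.exists_at hG hS hp
  intro z hz
  rcases (hG.mem_lin h).1 hz with rfl | ⟨hz', e⟩
  · exact hG.self_mem_pl _ _
  · exact (hG.mem_pl hz').2 (e ▸ (hG.mem_pl h).1 hr)

/-- A line and a point are in a plane. -/
theorem exists_pl {x y z : Ω} (hy : y ≠ x) (hz : z ∉ lin φ x y) :
    ∃ S, hG.IsPl S ∧ x ∈ S ∧ y ∈ S ∧ z ∈ S := by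
  have hzx : z ≠ x := fun e => hz (e ▸ hG.left_mem x y)
  have hd : hG.dirOf x y ≠ hG.dirOf x z := fun e => hz ((hG.mem_lin hy).2 (Or.inr ⟨hzx, e.symm⟩))
  obtain ⟨w, h1, h2⟩ := exists_inc_pair hd
  exact ⟨_, ⟨x, w, rfl⟩, hG.self_mem_pl x w, (hG.mem_pl hy).2 h1, (hG.mem_pl hzx).2 h2⟩

/-- A line is in a plane. -/
theorem exists_pl_of_lin {x y : Ω} (hy : y ≠ x) : ∃ S, hG.IsPl S ∧ x ∈ S ∧ y ∈ S := by
  obtain ⟨w, hw⟩ := exists_line_through (hG.dirOf x y)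
  exact ⟨_, ⟨x, w, rfl⟩, hG.self_mem_pl x w, (hG.mem_pl hy).2 hw⟩

/-- Three points off a line determine a plane. -/
theorem pl_unique {S S' : Set Ω} (hS : hG.IsPl S) (hS' : hG.IsPl S') {x y z : Ω} (hy : y ≠ x)
    (hz : z ∉ lin φ x y) (h1 : x ∈ S) (h2 : y ∈ S) (h3 : z ∈ S) (h1' : x ∈ S') (h2' : y ∈ S')
    (h3' : z ∈ S') : S = S' := by
  have hzx : z ≠ x := fun e => hz (e ▸ hG.left_mem x y)
  obtain ⟨w, rfl⟩ := IsPl.exists_at hG hS h1
  obtain ⟨w', rfl⟩ := IsPl.exists_at hG hS' h1'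
  have hd : hG.dirOf x y ≠ hG.dirOf x z := fun e => hz ((hG.mem_lin hy).2 (Or.inr ⟨hzx, e.symm⟩))
  rw [inc_unique hd ((hG.mem_pl hy).1 h2) ((hG.mem_pl hzx).1 h3) ((hG.mem_pl hy).1 h2')
    ((hG.mem_pl hzx).1 h3')]

/-- Two planes with a common point meet in a line. -/
theorem pl_inter {S S' : Set Ω} (hS : hG.IsPl S) (hS' : hG.IsPl S') (hne : S ≠ S') {x : Ω}
    (hx : x ∈ S) (hx' : x ∈ S') : ∃ y, y ≠ x ∧ S ∩ S' = lin φ x y := by
  obtain ⟨w, rfl⟩ := IsPl.exists_at hG hS hx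
  obtain ⟨w', rfl⟩ := IsPl.exists_at hG hS' hx'
  have hw : w ≠ w' := fun e => hne (by rw [e])
  obtain ⟨p, hp, hp'⟩ := exists_inc_pair' hw
  obtain ⟨y, hy, rfl⟩ := hG.exists_dir x p
  refine ⟨y, hy, ?_⟩
  ext z
  rw [hG.mem_lin hy]
  rcases eq_or_ne z x with rfl | hz
  · simp [hG.self_mem_pl]
  · simp only [Set.mem_inter_iff, hG.mem_pl hz, hz, false_or, ne_eq, not_false_iff, true_and]
    exact ⟨fun h => inc_unique' hw h.1 h.2 hp hp', fun e => by rw [e]; exact ⟨hp, hp'⟩⟩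

end Geo

end CfsgLib.PlaneStab
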