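import Cfsg.Agent.PlaneStab.Setup

/-!
# The 2-elements of `N_a` fixing `b` lie in `N_b`

The fundamental symmetry of a 2-transitive group with a normal `PSL(3, 2^n)` in a point stabiliser.
-/

set_option autoImplicit false

open Matrix

namespace CfsgLib.PlaneStab

variable {F : Type*} [Field F]

/-- Endomorphisms of a finite field commute and at most one of them is an involution. -/
theorem ringHom_facts [CharP F 2] [Finite F] (σ τ : F →+* F) :
    (∀ z, σ (τ z) = τ (σ z)) ∧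
      ((∀ z, σ (σ z) = z) → (∀ z, τ (τ z) = z) → σ ≠ RingHom.id F → τ ≠ RingHom.id F → σ = τ) := by
  classical
  letI := ZMod.algebra F 2
  haveI := Fintype.ofFinite F
  haveI : Fact (Nat.Prime 2) := ⟨Nat.prime_two⟩
  haveI : IsCyclic (F ≃ₐ[ZMod 2] F) :=
    ⟨FiniteField.frobeniusAlgEquivOfAlgebraic (ZMod 2) F, fun x => by
      obtain ⟨n, hn⟩ := (FiniteField.bijective_frobeniusAlgEquivOfAlgebraic_pow (ZMod 2) F).2 x
      exact ⟨(n : ℕ), by simpa using hn⟩⟩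
  let up : (F →+* F) → (F ≃ₐ[ZMod 2] F) := fun f =>
    AlgEquiv.ofBijective
      (AlgHom.mk f fun r => DFunLike.congr_fun
        (Subsingleton.elim (f.comp (algebraMap (ZMod 2) F)) (algebraMap (ZMod 2) F)) r)
      ⟨f.injective, Finite.surjective_of_injective f.injective⟩
  have hup : ∀ (f : F →+* F) z, up f z = f z := fun f z => rfl
  refine ⟨fun z => ?_, fun h1 h2 h3 h4 => ?_⟩
  · letI : CommGroup (F ≃ₐ[ZMod 2] F) := IsCyclic.commGroup
    exact DFunLike.congr_fun (mul_comm (up σ) (up τ)) z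
  · by_contra hne
    haveI := Fintype.ofFinite (F ≃ₐ[ZMod 2] F)
    have hle := IsCyclic.card_pow_eq_one_le (α := F ≃ₐ[ZMod 2] F) (n := 2) two_pos
    have hsub : ({1, up σ, up τ} : Finset (F ≃ₐ[ZMod 2] F)) ⊆
        Finset.univ.filter fun a => a ^ 2 = 1 := by
      intro a ha
      simp only [Finset.mem_insert, Finset.mem_singleton] at ha
      refine Finset.mem_filter.2 ⟨Finset.mem_univ _, ?_⟩
      rcases ha with rfl | rfl | rfl
      · simp
      · ext z; simpa [pow_two, hup] using h1 z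
      · ext z; simpa [pow_two, hup] using h2 z
    have hn1 : ∀ f : F →+* F, f ≠ RingHom.id F → up f ≠ 1 := fun f hf e => hf (RingHom.ext fun z => by
      simpa [hup] using DFunLike.congr_fun e z)
    have h12 : up σ ≠ up τ := fun e => hne (RingHom.ext fun z => by
      simpa [hup] using DFunLike.congr_fun e z)
    have hcard := (Finset.card_le_card hsub).trans hle
    rw [Finset.card_eq_three.2 ⟨1, up σ, up τ, (hn1 σ h3).symm, (hn1 τ h4).symm, h12, rfl⟩] at hcard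
    omega

variable {G : Type*} [Group G] {ψ : L F →* G}

theorem eq_one_of_comm_range [CharP F 2] (hk : ψ.ker ≤ Subgroup.center (L F)) {g : L F}
    (hg : g ^ 4 = 1) (h : ∀ k, ψ g * ψ k = ψ k * ψ g) : g = 1 := by
  have hc : g ∈ Subgroup.center (L F) :=
    Subgroup.mem_center_iff.2 fun k => (comm_of_map hk hg (h k)).symm
  have h3 := center_cube hc
  rwa [pow_succ, h3, one_mul] at hg

section Types

variable [CharP F 2] [Finite F] (hk : ψ.ker ≤ Subgroup.center (L F)) {g h : G}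
include hk

omit [CharP F 2] [Finite F] hk in
theorem conj_mul_eq {t : G} : g * h * t * (g * h)⁻¹ = g * (h * t * h⁻¹) * g⁻¹ := by group

theorem pres_mul_pres (hg : Pres ψ g) (hh : Pres ψ h) : Pres ψ (g * h) := by
  intro x z
  obtain ⟨x', z', e⟩ := hh x z
  rw [conj_mul_eq, e]
  exact hg x' z'

theorem pres_mul_swap (hg : Nrm ψ g) (hgp : Pres ψ g) (hh : Swap ψ h) : Swap ψ (g * h) := by
  intro x z
  obtain ⟨y', z', e⟩ := hh x z
  rw [conj_mul_eq, e]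
  exact hgp.snd hk hg y' z'

theorem swap_mul_pres (hg : Swap ψ g) (hh : Pres ψ h) : Swap ψ (g * h) := by
  intro x z
  obtain ⟨x', z', e⟩ := hh x z
  rw [conj_mul_eq, e]
  exact hg x' z'

theorem swap_mul_swap (hg : Nrm ψ g) (hgs : Swap ψ g) (hh : Swap ψ h) : Pres ψ (g * h) := by
  intro x z
  obtain ⟨y', z', e⟩ := hh x z
  rw [conj_mul_eq, e]
  exact hgs.snd hk hg y' z'

theorem pres_one : Pres ψ (1 : G) := fun x z => ⟨x, z, by simp⟩

theorem pres_of_mem {t : G} (ht : t ∈ U ψ) : Pres ψ t := by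
  obtain ⟨p, q, r, rfl⟩ := mem_U.1 ht
  intro x z
  refine ⟨x, z - x * q, ?_⟩
  rw [mul_inv_eq_iff_eq_mul, ← map_mul, ← map_mul, uu_mul, uu_mul]
  congr 2 <;> ring

end Types

/-- The data attached to two points. -/
structure Pair {Ω : Type*} [MulAction G Ω] (X : Type*) [MulAction (L F) X] (a b : Ω)
    (ψ ψ' : L F →* G) (u : ℕ) (W : Subgroup G) : Prop where
  ne : a ≠ b
  ca : Chart X a ψ u
  cb : Chart X b ψ' u
  na : ∀ w ∈ W, Nrm ψ w
  nb : ∀ w ∈ W, Nrm ψ' w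
  ia : U ψ = W ⊓ ψ.range
  ib : U ψ' = W ⊓ ψ'.range
  fixW : ∀ w ∈ W, w • a = a ∧ w • b = b

namespace Pair

variable {Ω : Type*} [MulAction G Ω] {X : Type*} [MulAction (L F) X] {a b : Ω} {ψ' : L F →* G}
  {u : ℕ} {W : Subgroup G}

theorem symm (P : Pair X a b ψ ψ' u W) : Pair X b a ψ' ψ u W :=
  ⟨P.ne.symm, P.cb, P.ca, P.nb, P.na, P.ib, P.ia, fun w hw => ⟨(P.fixW w hw).2, (P.fixW w hw).1⟩⟩

theorem memW (P : Pair X a b ψ ψ' u W) {t : G} (ht : t ∈ U ψ') : t ∈ W := (P.ib ▸ ht : t ∈ W ⊓ ψ'.range).1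

theorem comm_mem (P : Pair X a b ψ ψ' u W) {t s : G} (ht : t ∈ U ψ) (hs : s ∈ U ψ') :
    t * s * t⁻¹ * s⁻¹ ∈ U ψ ⊓ U ψ' := by
  have htW : t ∈ W := P.symm.memW ht
  refine ⟨?_, mul_mem ((P.nb t htW).2 s hs) ((U ψ').inv_mem hs)⟩
  rw [show t * s * t⁻¹ * s⁻¹ = t * (s * t⁻¹ * s⁻¹) by group]
  exact mul_mem ht ((P.na s (P.memW hs)).2 t⁻¹ (inv_mem ht))

variable [CharP F 2]

theorem pow_four (P : Pair X a b ψ ψ' u W) {t : G} (ht : t ∈ U ψ') : t ^ 4 = 1 := by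
  obtain ⟨x, y, z, rfl⟩ := mem_U.1 ht
  rw [← map_pow, uu_pow_four, map_one]

variable [Finite Ω] [Finite X] [FaithfulSMul G Ω]

theorem card_erase {p : Ω → Prop} {c : Ω} (hc : p c) :
    Nat.card {y // p y} = Nat.card {y // y ≠ c ∧ p y} + 1 := by
  classical
  haveI := Fintype.ofFinite Ω
  simp only [Nat.card_eq_fintype_card, Fintype.card_subtype]
  have : (Finset.univ.filter fun y => y ≠ c ∧ p y) = (Finset.univ.filter p).erase c := by
    ext y; simp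
  rw [this, Finset.card_erase_add_one (by simpa using hc)]

/-- An element of `N_b` which is the product of an element of `N_a` of the same order and an
element centralising `N_a` lies in `N_a`. -/
theorem eq_one_of_mixed (P : Pair X a b ψ ψ' u W) (hu : u ≠ 0) (hs : Kind F X) {g h : L F} {c : G}
    (hg : g ^ 4 = 1) (hh : h ^ 4 = 1) (hg1 : g ≠ 1) (hsq : g ^ 2 = 1 ↔ h ^ 2 = 1)
    (hc : ∀ k, c * ψ k = ψ k * c) (hca : c • a = a) (hn : ψ' h = ψ g * c) : c = 1 := by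
  have hh1 : h ≠ 1 := by
    rintro rfl
    rw [map_one] at hn
    refine hg1 (eq_one_of_comm_range P.ca.ker hg fun k => ?_)
    have e : c = (ψ g)⁻¹ := eq_inv_of_mul_eq_one_right hn.symm
    have h2 := hc k
    rw [e] at h2
    calc ψ g * ψ k = ψ g * (ψ k * (ψ g)⁻¹) * ψ g := by group
      _ = ψ g * ((ψ g)⁻¹ * ψ k) * ψ g := by rw [h2]
      _ = ψ k * ψ g := by group
  have hcard : ∀ k : L F, k ≠ 1 → k ^ 4 = 1 → k ^ 2 = 1 ∨ k ^ 2 ≠ 1 := fun k _ _ => em _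
  have heq : Nat.card {d : X // g • d = d} = Nat.card {d : X // h • d = d} := by
    by_cases h2 : g ^ 2 = 1
    · obtain ⟨n, -, hn2⟩ := hs.fix2
      rw [hn2 g hg1 h2, hn2 h hh1 (hsq.1 h2)]
    · rw [hs.fix4 g hg h2, hs.fix4 h hh (fun e => h2 (hsq.2 e))]
  have hpos : ∃ d : X, g • d = d := by
    have : 0 < Nat.card {d : X // g • d = d} := by
      by_cases h2 : g ^ 2 = 1
      · obtain ⟨n, hn, hn2⟩ := hs.fix2
        rw [hn2 g hg1 h2]; omega
      · rw [hs.fix4 g hg h2]; omega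
    obtain ⟨⟨d, hd⟩⟩ := (Nat.card_pos_iff.1 this).1
    exact ⟨d, hd⟩
  have hna : ψ' h • a = a := by rw [hn, mul_smul, hca, P.ca.fix]
  have e1 : Nat.card {y // y ≠ a ∧ ψ' h • y = y} = Nat.card {d : X // g • d = d} * u := by
    have := (card_erase (p := fun y => ψ' h • y = y) hna).symm.trans
      (card_erase (p := fun y => ψ' h • y = y) (P.cb.fix h))
    rw [add_left_inj] at this
    rw [this, P.cb.card_fix_one hh, heq]
  have hsub : ∀ y, y ≠ a → ψ' h • y = y → ψ g • y = y ∧ c • y = y := fun y hy hy' =>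
    P.ca.fixes_of_cent hs hca hc hg hy (by rw [← mul_smul, ← hn, hy'])
  have hall : ∀ y, y ≠ a → ψ g • y = y → c • y = y := by
    intro y hy hgy
    let f : {y // y ≠ a ∧ ψ' h • y = y} → {y // y ≠ a ∧ ψ g • y = y} := fun z =>
      ⟨z.1, z.2.1, (hsub z.1 z.2.1 z.2.2).1⟩
    have hf : Function.Injective f := fun p q e => Subtype.ext (congrArg (fun w => w.1) e :)
    have hfs : Function.Surjective f :=
      ((Nat.bijective_iff_injective_and_card f).2 ⟨hf, e1.trans (P.ca.card_fix_one hg).symm⟩).2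
    obtain ⟨z, hz⟩ := hfs ⟨y, hy, hgy⟩
    have hzy : z.1 = y := congrArg Subtype.val hz
    exact hzy ▸ (hsub z.1 z.2.1 z.2.2).2
  exact P.ca.eq_one_of_cent hs hca hc hg hpos hall

variable [Finite F] [Finite G]

/-- Some involution of `N_a` lies in another `N_y`. -/
theorem exists_common (P : Pair X a b ψ ψ' u W) (hu : u ≠ 0) (hs : Kind F X) :
    (∃ t, t ≠ 1 ∧ t ∈ U ψ ⊓ U ψ') ∨ ∃ g : G, g ∈ ψ'.range ∧ g • a ≠ a ∧
      g * ψ (uu 0 0 1) * g⁻¹ = ψ (uu 0 0 1) := by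
  by_contra hc
  rw [not_or] at hc
  obtain ⟨hM, hg⟩ := hc
  simp only [not_exists, not_and] at hM
  set t := ψ (uu 0 0 1) with ht
  have htU : t ∈ U ψ := mem_U.2 ⟨0, 0, 1, rfl⟩
  have htW : t ∈ W := P.symm.memW htU
  have hcomm : ∀ s ∈ U ψ', t * s = s * t := by
    intro s hs'
    have h1 : t * s * t⁻¹ * s⁻¹ = 1 := by
      by_contra h
      exact hM _ h (P.comm_mem htU hs')
    calc t * s = t * s * t⁻¹ * s⁻¹ * (s * t) := by group
      _ = s * t := by rw [h1, one_mul]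
  obtain ⟨z, hz⟩ := center_inner P.cb.ker (P.nb t htW).1 hcomm
  set c := (ψ' (uu 0 0 z))⁻¹ * t with hc
  have hcc : ∀ k, c * ψ' k = ψ' k * c := by
    intro k
    have := hz _ ⟨k, rfl⟩
    rw [hc]
    calc (ψ' (uu 0 0 z))⁻¹ * t * ψ' k = (ψ' (uu 0 0 z))⁻¹ * (t * ψ' k * t⁻¹) * t := by group
      _ = _ := by rw [this]; group
  by_cases hz0 : z = 0
  · rw [hz0, uu_zero, map_one, inv_one, one_mul] at hc
    rw [hc] at hcc
    obtain ⟨k, hk⟩ : ∃ k, ψ' k • a ≠ a := by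
      by_contra h
      simp only [not_exists, not_not] at h
      obtain ⟨δ, h1, h2, -⟩ := P.cb.dirs
      have hall : ∀ g : L F, g ^ 4 = 1 → ∀ d : X, g • d = d := by
        intro g hg d
        obtain ⟨k, rfl⟩ := hs.trans (δ a) d
        have := (h1 a P.ne (k⁻¹ * g * k) (by simpa using conj_four k⁻¹ g hg)).1 (h _)
        rwa [mul_smul, mul_smul, inv_smul_eq_iff] at this
      have h4 := hs.fix4 (uu 1 1 0) (uu_pow_four _ _ _)
        (by rw [uu_pow_two]; exact uu_ne_one (Or.inr (Or.inr (by simp))))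
      obtain ⟨n, hn, hn2⟩ := hs.fix2
      have h2' := hn2 (uu 0 0 1) (uu_ne_one (Or.inr (Or.inr one_ne_zero))) (by rw [uu_pow_two, mul_zero, uu_zero])
      have e : Nat.card {d : X // uu (1 : F) 1 0 • d = d} = Nat.card {d : X // uu (0 : F) 0 1 • d = d} :=
        Nat.card_congr (Equiv.subtypeEquivRight fun d => by simp [hall _ (uu_pow_four _ _ _) d])
      omega
    exact hg ⟨ψ' k, ⟨k, rfl⟩, hk, by rw [← hcc k, mul_inv_cancel_right]⟩
  · have hc1 : c = 1 := by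
      refine P.symm.eq_one_of_mixed hu hs (g := uu 0 0 z) (h := uu 0 0 1) (uu_pow_four _ _ _)
        (uu_pow_four _ _ _) (uu_ne_one (Or.inr (Or.inr hz0))) ?_ hcc ?_ ?_
      · simp [uu_pow_two, uu_zero]
      · rw [hc, mul_smul, (P.fixW t htW).2, ← map_inv, P.cb.fix]
      · rw [hc, mul_inv_cancel_left]
    rw [hc, inv_mul_eq_one] at hc1
    refine hM t ?_ ⟨htU, hc1 ▸ mem_U.2 ⟨0, 0, z, rfl⟩⟩
    intro e
    exact uu_ne_one (Or.inr (Or.inr one_ne_zero)) (inj4 P.ca.ker (uu_pow_four _ _ _) (one_pow 4)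
      (by rw [← ht, e, map_one]))

/-- A central involution of `U ψ'` lies in both. -/
theorem exists_central (P : Pair X a b ψ ψ' u W) (hM : ∃ t, t ≠ 1 ∧ t ∈ U ψ ⊓ U ψ') :
    ∃ c : F, c ≠ 0 ∧ ψ' (uu 0 0 c) ∈ U ψ := by
  obtain ⟨t, ht1, htU, htU'⟩ := hM
  obtain ⟨x, y, z, rfl⟩ := mem_U.1 htU'
  have key : ∀ p q : F, ψ' (uu 0 0 (x * q + p * y)) ∈ U ψ := by
    intro p q
    have hs : ψ' (uu p q 0) ∈ U ψ' := mem_U.2 ⟨p, q, 0, rfl⟩
    have h1 : ψ' (uu x y z) * ψ' (uu p q 0) * (ψ' (uu x y z))⁻¹ * (ψ' (uu p q 0))⁻¹ ∈ U ψ :=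
      (P.comm_mem htU hs).1
    have h2 : uu x y z * uu p q 0 * (uu x y z)⁻¹ * (uu p q 0)⁻¹ = uu 0 0 (x * q + p * y) := by
      rw [uu_swap_mul x y z p q 0]; group
    rwa [← map_inv, ← map_inv, ← map_mul, ← map_mul, ← map_mul, h2] at h1
  by_cases hx : x = 0
  · by_cases hy : y = 0
    · subst hx hy
      refine ⟨z, ?_, htU⟩
      rintro rfl
      exact ht1 (by rw [uu_zero, map_one])
    · exact ⟨y, hy, by simpa using key 1 0⟩
  · exact ⟨x, hx, by simpa using key 0 1⟩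

/-- No non-trivial element of `U ψ'` centralises `N_a`. -/
theorem eq_one_of_cent' (P : Pair X a b ψ ψ' u W) (hu : u ≠ 0) (hs : Kind F X)
    (hM : ∃ t, t ≠ 1 ∧ t ∈ U ψ ⊓ U ψ') {w : G} (hw : w ∈ U ψ') (hc : ∀ k, w * ψ k = ψ k * w) :
    w = 1 := by
  obtain ⟨c, hc0, hcU⟩ := P.exists_central hM
  obtain ⟨X', Y', Z', hg⟩ := mem_U.1 hcU
  suffices hinv : ∀ v ∈ U ψ', v ^ 2 = 1 → (∀ k, v * ψ k = ψ k * v) → v = 1 by
    have h2 : w ^ 2 = 1 := hinv _ (pow_mem hw 2) (by rw [← pow_mul]; exact P.pow_four hw) fun k => by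
      rw [pow_two, mul_assoc, hc, ← mul_assoc, hc, mul_assoc]
    exact hinv w hw h2 hc
  intro v hv hv2 hvc
  obtain ⟨x, y, z, rfl⟩ := mem_U.1 hv
  have hxy : x = 0 ∨ y = 0 := (uu_sq_eq_one_iff (z := z)).1
    (inj4 P.cb.ker (by rw [uu_pow_two, uu_pow_four]) (one_pow 4) (by rw [map_pow, hv2, map_one]))
  refine P.eq_one_of_mixed hu hs (g := uu X' Y' Z') (h := uu 0 0 c * uu x y z) (uu_pow_four _ _ _)
    (by rw [uu_mul, uu_pow_four]) ?_ ?_ hvc (P.fixW _ (P.memW hv)).1 (by rw [map_mul, hg])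
  · intro e
    rw [e, map_one] at hg
    exact uu_ne_one (Or.inr (Or.inr hc0)) (inj4 P.cb.ker (uu_pow_four _ _ _) (one_pow 4) (by rw [hg, map_one]))
  · have h2 : X' = 0 ∨ Y' = 0 := by
      refine (uu_sq_eq_one_iff (z := Z')).1 (inj4 P.ca.ker (by rw [uu_pow_two, uu_pow_four]) (one_pow 4) ?_)
      rw [map_pow, ← hg, ← map_pow, uu_pow_two, mul_zero, uu_zero, map_one, map_one]
    rw [uu_mul, iff_true_left (uu_sq_eq_one_iff.2 h2), uu_sq_eq_one_iff, zero_add, zero_add]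
    exact hxy

/-- An element of `U ψ'` acting on `N_a` as an element of `U ψ` lies in it. -/
theorem mem_of_inner (P : Pair X a b ψ ψ' u W) (hu : u ≠ 0) (hs : Kind F X)
    (hM : ∃ t, t ≠ 1 ∧ t ∈ U ψ ⊓ U ψ') {w π : G} (hw : w ∈ U ψ') (hπ : π ∈ U ψ)
    (hin : ∀ k, w * ψ k * w⁻¹ = π * ψ k * π⁻¹) : w ∈ U ψ := by
  set c := π⁻¹ * w with hc
  have hcc : ∀ k, c * ψ k = ψ k * c := fun k => by
    rw [hc]
    calc π⁻¹ * w * ψ k = π⁻¹ * (w * ψ k * w⁻¹) * w := by group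
      _ = ψ k * (π⁻¹ * w) := by rw [hin]; group
  obtain ⟨p, q, r, rfl⟩ := mem_U.1 hπ
  obtain ⟨x, y, z, rfl⟩ := mem_U.1 hw
  have hw' : ψ' (uu x y z) = ψ (uu p q r) * c := by rw [hc, mul_inv_cancel_left]
  have hcom : Commute (ψ (uu p q r)) c := (hcc _).symm
  by_cases hπ1 : uu p q r = 1
  · rw [hπ1, map_one, one_mul] at hw'
    have := P.eq_one_of_cent' hu hs hM hw fun k => by rw [hw']; exact hcc k
    rw [this]
    exact one_mem _
  have hsq : uu p q r ^ 2 = 1 ↔ uu x y z ^ 2 = 1 := by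
    constructor
    · intro e
      have e2 : ψ' (uu x y z) ^ 2 = c ^ 2 := by
        rw [hw', hcom.mul_pow, ← map_pow, e, map_one, one_mul]
      have e3 : ψ' (uu x y z) ^ 2 = 1 := P.eq_one_of_cent' hu hs hM (pow_mem hw 2) fun k => by
        rw [e2, pow_two, mul_assoc, hcc, ← mul_assoc, hcc, mul_assoc]
      exact inj4 P.cb.ker (by rw [uu_pow_two, uu_pow_four]) (one_pow 4) (by rw [map_pow, e3, map_one])
    · intro e
      refine eq_one_of_comm_range P.ca.ker (by rw [uu_pow_two, uu_pow_four]) fun k => ?_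
      have e2 : ψ (uu p q r ^ 2) = (c ^ 2)⁻¹ := by
        refine eq_inv_of_mul_eq_one_left ?_
        rw [map_pow, ← hcom.mul_pow, ← hw', ← map_pow, e, map_one]
      have h2 : c ^ 2 * ψ k = ψ k * c ^ 2 := by
        rw [pow_two, mul_assoc, hcc, ← mul_assoc, hcc, mul_assoc]
      rw [e2]
      exact (Commute.inv_left h2).eq
  have hca : c • a = a := by
    rw [hc, mul_smul, (P.fixW _ (P.memW hw)).1, ← map_inv, P.ca.fix]
  rw [hw', P.eq_one_of_mixed hu hs (uu_pow_four _ _ _) (uu_pow_four _ _ _) hπ1 hsq hcc hca hw', mul_one]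
  exact hπ

/-- The centre of `U ψ'` lies in `U ψ`. -/
theorem center_mem (P : Pair X a b ψ ψ' u W) (hu : u ≠ 0) (hs : Kind F X)
    (hM : ∃ t, t ≠ 1 ∧ t ∈ U ψ ⊓ U ψ') (z : F) : ψ' (uu 0 0 z) ∈ U ψ := by
  set w₁ := ψ' (uu z 0 0) with hw₁
  set w₂ := ψ' (uu 0 1 0) with hw₂
  have m₁ : w₁ ∈ U ψ' := mem_U.2 ⟨_, _, _, rfl⟩
  have m₂ : w₂ ∈ U ψ' := mem_U.2 ⟨_, _, _, rfl⟩
  have n₁ := P.na _ (P.memW m₁)
  have n₂ := P.na _ (P.memW m₂)
  have hk := P.ca.ker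
  set K := w₁ * w₂ * (w₂ * w₁)⁻¹ with hK
  have hKz : K = ψ' (uu 0 0 z) := by
    rw [hK, hw₁, hw₂, ← map_mul, ← map_mul, ← map_inv, ← map_mul, uu_swap_mul z 0 0 0 1 0,
      mul_inv_cancel_right]
    simp
  have mK : K ∈ U ψ' := hKz ▸ mem_U.2 ⟨_, _, _, rfl⟩
  have nK := P.na _ (P.memW mK)
  obtain ⟨μ₁, σ₁, -, h₁⟩ := n₁.semilinear hk
  obtain ⟨μ₂, σ₂, hμ₂, h₂⟩ := n₂.semilinear hk
  have h12 : ∀ z, w₁ * w₂ * ψ (uu 0 0 z) * (w₁ * w₂)⁻¹ = ψ (uu 0 0 (μ₁ * σ₁ μ₂ * σ₁ (σ₂ z))) := by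
    intro z; rw [conj_mul_eq, h₂, h₁, map_mul, mul_assoc]
  have h21 : ∀ z, w₂ * w₁ * ψ (uu 0 0 z) * (w₂ * w₁)⁻¹ = ψ (uu 0 0 (μ₂ * σ₂ μ₁ * σ₁ (σ₂ z))) := by
    intro z; rw [conj_mul_eq, h₁, h₂, map_mul, (ringHom_facts σ₁ σ₂).1, mul_assoc]
  have hlin : ∀ z, K * ψ (uu 0 0 z) * K⁻¹ = ψ (uu 0 0 (μ₁ * σ₁ μ₂ / (μ₂ * σ₂ μ₁) * z)) := by
    intro z
    obtain ⟨z₀, hz₀⟩ := (n₂.mul n₁).zero_surj hk z
    rw [h21] at hz₀
    have hz := (inj_uu hk hz₀).2.2
    rw [← hz₀, ← h21 z₀, hK,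
      show w₁ * w₂ * (w₂ * w₁)⁻¹ * (w₂ * w₁ * ψ (uu 0 0 z₀) * (w₂ * w₁)⁻¹) * (w₁ * w₂ * (w₂ * w₁)⁻¹)⁻¹ =
        w₁ * w₂ * ψ (uu 0 0 z₀) * (w₁ * w₂)⁻¹ by group, h12, ← hz]
    congr 2
    have h0 : μ₂ * σ₂ μ₁ ≠ 0 := mul_ne_zero hμ₂ ((map_ne_zero σ₂).2 (by
      intro e
      have := h₁ 1
      rw [e, zero_mul, uu_zero, map_one, conj_eq_one_iff] at this
      exact uu_ne_one (Or.inr (Or.inr one_ne_zero)) (inj4 hk (uu_pow_four _ _ _) (one_pow 4) (by rw [this, map_one]))))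
    rw [div_mul_eq_mul_div, eq_div_iff h0]; ring
  have hP : Pres ψ K := by
    have tinv : ∀ w, w ∈ U ψ' → Pres ψ w → Pres ψ w⁻¹ := fun w hw hp => by
      rcases (P.na _ (P.memW (inv_mem hw))).pres_or_swap hk with h | h
      · exact h
      · exact (not_pres_and_swap hk (P.na 1 (one_mem W)) (pres_one hk)
          (by simpa using pres_mul_swap hk (P.na w (P.memW hw)) hp h)).elim
    have sinv : ∀ w, w ∈ U ψ' → Swap ψ w → Swap ψ w⁻¹ := fun w hw hp => by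
      rcases (P.na _ (P.memW (inv_mem hw))).pres_or_swap hk with h | h
      · exact (not_pres_and_swap hk (P.na 1 (one_mem W)) (pres_one hk)
          (by simpa using swap_mul_pres hk hp h)).elim
      · exact h
    have n₁' := P.na _ (P.memW (inv_mem m₁))
    have n₂' := P.na _ (P.memW (inv_mem m₂))
    rw [hK, show w₁ * w₂ * (w₂ * w₁)⁻¹ = w₁ * w₂ * (w₁⁻¹ * w₂⁻¹) by group]
    rcases n₁.pres_or_swap hk with a₁ | a₁ <;> rcases n₂.pres_or_swap hk with a₂ | a₂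
    · exact pres_mul_pres hk (pres_mul_pres hk a₁ a₂) (pres_mul_pres hk (tinv _ m₁ a₁) (tinv _ m₂ a₂))
    · exact swap_mul_swap hk (n₁.mul n₂) (pres_mul_swap hk n₁ a₁ a₂)
        (pres_mul_swap hk n₁' (tinv _ m₁ a₁) (sinv _ m₂ a₂))
    · exact swap_mul_swap hk (n₁.mul n₂) (swap_mul_pres hk a₁ a₂)
        (swap_mul_pres hk (sinv _ m₁ a₁) (tinv _ m₂ a₂))
    · exact pres_mul_pres hk (swap_mul_swap hk n₁ a₁ a₂) (swap_mul_swap hk n₁' (sinv _ m₁ a₁) (sinv _ m₂ a₂))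
  obtain ⟨π, hπ, hin⟩ := inner_of_linear hk nK hP hlin (k := 2) (P.pow_four mK)
  rw [← hKz]
  exact P.mem_of_inner hu hs hM mK hπ fun k => hin _ ⟨k, rfl⟩

theorem sq_mem (P : Pair X a b ψ ψ' u W) (hu : u ≠ 0) (hs : Kind F X)
    (hM : ∃ t, t ≠ 1 ∧ t ∈ U ψ ⊓ U ψ') {w : G} (hw : w ∈ U ψ') : w ^ 2 ∈ U ψ := by
  obtain ⟨x, y, z, rfl⟩ := mem_U.1 hw
  rw [← map_pow, uu_pow_two]
  exact P.center_mem hu hs hM _

/-- `U ψ'` centralises its centre. -/
theorem commute_center (P : Pair X a b ψ ψ' u W) {w : G} (hw : w ∈ U ψ') (z : F) :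
    w * ψ' (uu 0 0 z) * w⁻¹ = ψ' (uu 0 0 z) := by
  obtain ⟨x, y, z', rfl⟩ := mem_U.1 hw
  rw [mul_inv_eq_iff_eq_mul, ← map_mul, ← map_mul, uu_mul, uu_mul]
  congr 2 <;> ring

/-- No element of `U ψ'` exchanges the two elementary subgroups of `U ψ`. -/
theorem not_swap (P : Pair X a b ψ ψ' u W) (hu : u ≠ 0) (hs : Kind F X)
    (hM : ∃ t, t ≠ 1 ∧ t ∈ U ψ ⊓ U ψ') {w : G} (hw : w ∈ U ψ') (hS : Swap ψ w) : False := by
  have hk := P.ca.ker
  -- the centre of `U ψ'` lies in the centre of `U ψ`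
  have hZ : ∀ z, ∃ c, ψ' (uu 0 0 z) = ψ (uu 0 0 c) := by
    intro z
    obtain ⟨p, q, r, e⟩ := mem_U.1 (P.center_mem hu hs hM z)
    have hpq : p = 0 ∨ q = 0 := by
      refine (uu_sq_eq_one_iff (z := r)).1 (inj4 hk (by rw [uu_pow_two, uu_pow_four]) (one_pow 4) ?_)
      rw [map_pow, ← e, ← map_pow, uu_pow_two, mul_zero, uu_zero, map_one, map_one]
    have hfix := P.commute_center hw z
    rw [e] at hfix
    refine ⟨r, ?_⟩
    rw [e]
    rcases hpq with rfl | rfl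
    · obtain ⟨x', z', e'⟩ := hS.snd hk (P.na w (P.memW hw)) q r
      rw [(inj_uu hk (e'.symm.trans hfix)).2.1]
    · obtain ⟨y', z', e'⟩ := hS p r
      rw [(inj_uu hk (e'.symm.trans hfix)).1]
  -- some generator exchanges them
  obtain ⟨v, hv, hvS, hv2, hvgen⟩ : ∃ v ∈ U ψ', Swap ψ v ∧ v * v = 1 ∧
      ((∃ x z, x ≠ 0 ∧ v = ψ' (uu x 0 z)) ∨ ∃ y z, y ≠ 0 ∧ v = ψ' (uu 0 y z)) := by
    obtain ⟨x, y, z, rfl⟩ := mem_U.1 hw
    have hsplit : ψ' (uu x y z) = ψ' (uu x 0 0) * ψ' (uu 0 y (z - x * y)) := by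
      rw [← map_mul, uu_mul]; congr 2 <;> ring
    have hzero : ∀ r, ¬ Swap ψ (ψ' (uu 0 0 r)) := fun r h => by
      obtain ⟨c, hc⟩ := hZ r
      exact not_pres_and_swap hk (P.na _ (P.memW (mem_U.2 ⟨_, _, _, rfl⟩)))
        (pres_of_mem hk (hc ▸ mem_U.2 ⟨_, _, _, rfl⟩)) h
    have sq0 : ∀ p q r : F, p * q = 0 → ψ' (uu p q r) * ψ' (uu p q r) = 1 := fun p q r h => by
      rw [← map_mul, uu_sq, h, uu_zero, map_one]
    rcases (P.na _ (P.memW (mem_U.2 ⟨x, 0, 0, rfl⟩))).pres_or_swap hk with h1 | h1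
    · rcases (P.na _ (P.memW (mem_U.2 ⟨0, y, z - x * y, rfl⟩))).pres_or_swap hk with h2 | h2
      · exact (not_pres_and_swap hk (P.na _ (P.memW hw))
          (hsplit ▸ pres_mul_pres hk h1 h2) hS).elim
      · exact ⟨_, mem_U.2 ⟨_, _, _, rfl⟩, h2, sq0 _ _ _ (zero_mul _),
          Or.inr ⟨y, _, fun e => hzero _ (e ▸ h2), rfl⟩⟩
    · exact ⟨_, mem_U.2 ⟨_, _, _, rfl⟩, h1, sq0 _ _ _ (mul_zero _),
        Or.inl ⟨x, _, fun e => hzero _ (e ▸ h1), rfl⟩⟩
  have nv := P.na v (P.memW hv)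
  have hva : v • a = a := (P.fixW v (P.memW hv)).1
  have hvinv : v⁻¹ = v := inv_eq_of_mul_eq_one_right hv2
  have hvv : ∀ y : Ω, v • (v • y) = y := fun y => by rw [← mul_smul, hv2, one_smul]
  -- exchanging fixed points
  have hA : ∀ y : Ω, (∀ p r, ψ (uu p 0 r) • y = y) → ∀ q r, ψ (uu 0 q r) • (v • y) = v • y := by
    intro y hy q r
    obtain ⟨p', r', e⟩ := hvS.snd hk nv q r
    have h1 : ψ (uu 0 q r) = v * ψ (uu p' 0 r') * v := by
      rw [← e, hvinv]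
      simp only [mul_assoc, hv2, mul_one]
      rw [← mul_assoc, hv2, one_mul]
    rw [h1, mul_smul, mul_smul, hvv, hy]
  have hB : ∀ y : Ω, (∀ q r, ψ (uu 0 q r) • y = y) → ∀ p r, ψ (uu p 0 r) • (v • y) = v • y := by
    intro y hy p r
    obtain ⟨q', r', e⟩ := hvS p r
    have h1 : ψ (uu p 0 r) = v * ψ (uu 0 q' r') * v := by
      rw [← e, hvinv]
      simp only [mul_assoc, hv2, mul_one]
      rw [← mul_assoc, hv2, one_mul]
    rw [h1, mul_smul, mul_smul, hvv, hy]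
  rcases hs.swap with hne | ⟨hcx, hcy, hdir⟩
  · apply hne
    have e1 := P.ca.card_fixed {g : L F | ∃ p r, g = uu p 0 r}
      (by rintro _ ⟨p, r, rfl⟩; exact uu_pow_four _ _ _)
    have e2 := P.ca.card_fixed {g : L F | ∃ q r, g = uu 0 q r}
      (by rintro _ ⟨p, r, rfl⟩; exact uu_pow_four _ _ _)
    have hle : Nat.card {y : Ω // y ≠ a ∧ ∀ g ∈ {g : L F | ∃ p r, g = uu p 0 r}, ψ g • y = y} =
        Nat.card {y : Ω // y ≠ a ∧ ∀ g ∈ {g : L F | ∃ q r, g = uu 0 q r}, ψ g • y = y} := by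
      refine Nat.card_congr ((MulAction.toPerm v).subtypeEquiv fun y => ?_)
      show _ ↔ v • y ≠ a ∧ _
      refine and_congr ⟨fun h e => h (by rw [← hvv y, e, hva]), fun h e => h (by rw [e, hva])⟩ ?_
      constructor
      · rintro h g ⟨q, r, rfl⟩
        exact hA y (fun p r => h _ ⟨p, r, rfl⟩) q r
      · rintro h g ⟨p, r, rfl⟩
        have := hB (v • y) (fun q r => h _ ⟨q, r, rfl⟩) p r
        rwa [hvv] at this
    rw [e1, e2] at hle
    have := Nat.eq_of_mul_eq_mul_right (Nat.pos_of_ne_zero hu) hle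
    calc Nat.card {d : X // ∀ x z : F, uu x 0 z • d = d}
        = Nat.card {d : X // ∀ g ∈ {g : L F | ∃ p r, g = uu p 0 r}, g • d = d} :=
          Nat.card_congr (Equiv.subtypeEquivRight fun d =>
            ⟨fun h g ⟨p, r, hg⟩ => hg ▸ h p r, fun h x z => h _ ⟨x, z, rfl⟩⟩)
      _ = _ := this
      _ = _ := Nat.card_congr (Equiv.subtypeEquivRight fun d =>
            ⟨fun h x z => h _ ⟨x, z, rfl⟩, fun h g ⟨p, r, hg⟩ => hg ▸ h p r⟩)
  · obtain ⟨c, hc⟩ := hZ 1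
    have hc0 : c ≠ 0 := by
      rintro rfl
      rw [uu_zero, map_one] at hc
      exact uu_ne_one (Or.inr (Or.inr one_ne_zero))
        (inj4 P.cb.ker (uu_pow_four _ _ _) (one_pow 4) (hc.trans (map_one ψ').symm))
    obtain ⟨g₀, hg₀, hg04, hbig⟩ : ∃ g₀ : L F, v = ψ' g₀ ∧ g₀ ^ 4 = 1 ∧
        2 ≤ Nat.card {d : X // g₀ • d = d ∧ uu 0 0 (1 : F) • d = d} := by
      rcases hvgen with ⟨x, z, hx, rfl⟩ | ⟨y, z, hy, rfl⟩
      · exact ⟨_, rfl, uu_pow_four _ _ _, hcx x z 1 hx one_ne_zero⟩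
      · exact ⟨_, rfl, uu_pow_four _ _ _, hcy y z 1 hy one_ne_zero⟩
    have eb : Nat.card {y : Ω // y ≠ b ∧ v • y = y ∧ ψ' (uu 0 0 1) • y = y} =
        Nat.card {d : X // g₀ • d = d ∧ uu 0 0 (1 : F) • d = d} * u := by
      rw [hg₀]
      simpa using P.cb.card_fixed {g₀, uu 0 0 1} (by simp [hg04, uu_pow_four])
    have hpa : v • a = a ∧ ψ' (uu 0 0 1) • a = a :=
      ⟨hva, (P.fixW _ (P.memW (mem_U.2 ⟨_, _, _, rfl⟩))).1⟩
    have hpb : v • b = b ∧ ψ' (uu 0 0 1) • b = b :=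
      ⟨(P.fixW v (P.memW hv)).2, P.cb.fix _⟩
    have eab : Nat.card {y : Ω // y ≠ a ∧ v • y = y ∧ ψ' (uu 0 0 1) • y = y} =
        Nat.card {y : Ω // y ≠ b ∧ v • y = y ∧ ψ' (uu 0 0 1) • y = y} :=
      Nat.add_right_cancel ((card_erase (p := fun y => v • y = y ∧ ψ' (uu 0 0 1) • y = y) hpa).symm.trans
        (card_erase (p := fun y => v • y = y ∧ ψ' (uu 0 0 1) • y = y) hpb))
    obtain ⟨δ, h1, -, -⟩ := P.ca.dirs
    have hsub : Nat.card {y : Ω // y ≠ a ∧ v • y = y ∧ ψ' (uu 0 0 1) • y = y} ≤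
        Nat.card {y : Ω // y ≠ a ∧ ψ (uu 1 1 0) • y = y} := by
      refine Nat.card_le_card_of_injective (Subtype.map id ?_)
        (Subtype.map_injective _ Function.injective_id)
      rintro y ⟨hy, hvy, hzy⟩
      refine ⟨hy, (?_ : ψ (uu 1 1 0) • y = y)⟩
      rw [hc] at hzy
      have hd := (h1 y hy _ (uu_pow_four _ _ _)).1 hzy
      have both : (∀ p r, ψ (uu p 0 r) • y = y) ∧ ∀ q r, ψ (uu 0 q r) • y = y := by
        rcases hdir c (δ y) hc0 hd with h | h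
        · have hP : ∀ p r, ψ (uu p 0 r) • y = y := fun p r =>
            (h1 y hy _ (uu_pow_four _ _ _)).2 (h p r)
          exact ⟨hP, by simpa [hvy] using hA y hP⟩
        · have hQ : ∀ q r, ψ (uu 0 q r) • y = y := fun q r =>
            (h1 y hy _ (uu_pow_four _ _ _)).2 (h q r)
          exact ⟨by simpa [hvy] using hB y hQ, hQ⟩
      rw [show uu (1 : F) 1 0 = uu 1 0 1 * uu 0 1 0 by
        rw [uu_mul]; simp [CharTwo.add_self_eq_zero], map_mul, mul_smul, both.2, both.1]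
    rw [P.ca.card_fix_one (uu_pow_four _ _ _), hs.fix4 _ (uu_pow_four _ _ _)
      (by rw [uu_pow_two]; exact uu_ne_one (Or.inr (Or.inr (by simp))))] at hsub
    rw [eab, eb] at hsub
    have := Nat.le_of_mul_le_mul_right hsub (Nat.pos_of_ne_zero hu)
    omega

/-- `U ψ'` lies in `N_a`. -/
theorem le_U (P : Pair X a b ψ ψ' u W) (hu : u ≠ 0) (hs : Kind F X)
    (hM : ∃ t, t ≠ 1 ∧ t ∈ U ψ ⊓ U ψ') : U ψ' ≤ U ψ := by
  classical
  have hk := P.ca.ker
  have hPres : ∀ w ∈ U ψ', Pres ψ w := fun w hw =>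
    ((P.na w (P.memW hw)).pres_or_swap hk).resolve_right fun h => P.not_swap hu hs hM hw h
  have hlinmem : ∀ w ∈ U ψ', ∀ μ : F,
      (∀ z, w * ψ (uu 0 0 z) * w⁻¹ = ψ (uu 0 0 (μ * z))) → w ∈ U ψ := by
    intro w hw μ hμ
    obtain ⟨π, hπ, hin⟩ := inner_of_linear hk (P.na w (P.memW hw)) (hPres w hw) hμ (k := 2) (P.pow_four hw)
    exact P.mem_of_inner hu hs hM hw hπ fun k => hin _ ⟨k, rfl⟩
  choose μ σ hμ0 hsig using fun w : U ψ' => (P.na _ (P.memW w.2)).semilinear hk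
  by_contra hle
  obtain ⟨w, hw, hwn⟩ := SetLike.not_le_iff_exists.1 hle
  set w₀ : U ψ' := ⟨w, hw⟩
  have hne : ∀ v : U ψ', (v : G) ∉ U ψ → σ v ≠ RingHom.id F := fun v hv e =>
    hv (hlinmem _ v.2 (μ v) fun z => by rw [hsig, e, RingHom.id_apply])
  have hinv : ∀ v : U ψ', ∀ z, σ v (σ v z) = z := by
    intro v z
    have h2 := P.sq_mem hu hs hM v.2
    obtain ⟨p, q, r, e⟩ := mem_U.1 h2
    have h1 : ∀ z, (v : G) ^ 2 * ψ (uu 0 0 z) * ((v : G) ^ 2)⁻¹ =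
        ψ (uu 0 0 (μ v * σ v (μ v) * σ v (σ v z))) := fun z => by
      rw [pow_two, conj_mul_eq, hsig, hsig, map_mul, mul_assoc]
    have h3 : ∀ z, (v : G) ^ 2 * ψ (uu 0 0 z) * ((v : G) ^ 2)⁻¹ = ψ (uu 0 0 z) := fun z => by
      rw [e, mul_inv_eq_iff_eq_mul, ← map_mul, ← map_mul, uu_mul, uu_mul]; congr 2 <;> ring
    have ez := (inj_uu hk ((h1 z).symm.trans (h3 z))).2.2
    have e1 := (inj_uu hk ((h1 1).symm.trans (h3 1))).2.2
    rw [map_one, map_one, mul_one] at e1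
    rwa [e1, one_mul] at ez
  -- the centre of `U ψ'` is not in the centre of `U ψ`
  obtain ⟨z₁, p, q, r, hn, hpq⟩ : ∃ z₁ p q r, ψ' (uu 0 0 z₁) = ψ (uu p q r) ∧ (p ≠ 0 ∨ q ≠ 0) := by
    by_contra hall
    have hZ : ∀ z, ∃ c, ψ' (uu 0 0 z) = ψ (uu 0 0 c) := fun z => by
      obtain ⟨p, q, r, e⟩ := mem_U.1 (P.center_mem hu hs hM z)
      refine ⟨r, ?_⟩
      rw [e]
      by_cases hp : p = 0
      · by_cases hq : q = 0
        · rw [hp, hq]
        · exact (hall ⟨z, p, q, r, e, Or.inr hq⟩).elim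
      · exact (hall ⟨z, p, q, r, e, Or.inl hp⟩).elim
    choose f hf using hZ
    have hinj : Function.Injective f := fun s t e =>
      (inj_uu P.cb.ker ((hf s).trans (e ▸ (hf t).symm))).2.2
    have hfixed : ∀ c, w * ψ (uu 0 0 c) * w⁻¹ = ψ (uu 0 0 c) := fun c => by
      obtain ⟨z, rfl⟩ := Finite.surjective_of_injective hinj c
      rw [← hf z]
      exact P.commute_center hw z
    exact hwn (hlinmem w hw 1 fun z => by rw [one_mul]; exact hfixed z)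
  have hp2 : p = 0 ∨ q = 0 := by
    refine (uu_sq_eq_one_iff (z := r)).1 (inj4 hk (by rw [uu_pow_two, uu_pow_four]) (one_pow 4) ?_)
    rw [map_pow, ← hn, ← map_pow, uu_pow_two, mul_zero, uu_zero, map_one, map_one]
  -- elements of the intersection commute with it
  have hMel : ∀ x y z, ψ (uu x y z) ∈ U ψ' → x * q + p * y = 0 := by
    intro x y z h
    have := P.commute_center h z₁
    rw [hn, mul_inv_eq_iff_eq_mul, ← map_mul, ← map_mul] at this
    have e := inj4 hk (by rw [uu_mul, uu_pow_four]) (by rw [uu_mul, uu_pow_four]) this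
    rw [uu_mul, uu_mul] at e
    have := (uu_inj e).2.2
    linear_combination this + (p * y) * CharTwo.two_eq_zero (R := F)
  -- at most two cosets
  have hidx : ∀ v : U ψ', (v : G) ∉ U ψ → (w : G) * (v : G) ∈ U ψ := by
    intro v hv
    have hsv : σ w₀ = σ v := (ringHom_facts (σ w₀) (σ v)).2 (hinv _) (hinv _) (hne w₀ hwn) (hne v hv)
    refine hlinmem _ (mul_mem hw v.2) (μ w₀ * σ w₀ (μ v)) fun z => ?_
    rw [conj_mul_eq, hsig, show w = (w₀ : G) from rfl, hsig, map_mul, ← hsv, hinv, mul_assoc]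
  have hq2 : ∀ x : F, x = 0 ∨ x = 1 := by
    -- the intersection lies in one of the elementary subgroups
    have hcode : ∀ m : ↥(U ψ ⊓ U ψ'), ∃ s t, (m : G) = if q = 0 then ψ (uu s 0 t) else ψ (uu 0 s t) := by
      intro m
      obtain ⟨x, y, z, hm⟩ := mem_U.1 m.2.1
      have h := hMel x y z (hm ▸ m.2.2)
      by_cases hq : q = 0
      · have hp : p ≠ 0 := hpq.resolve_right (fun h => h hq)
        rw [hq, mul_zero, zero_add] at h
        exact ⟨x, z, by rw [if_pos hq, hm, (mul_eq_zero.1 h).resolve_left hp]⟩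
      · rw [hp2.resolve_right hq, zero_mul, add_zero] at h
        exact ⟨y, z, by rw [if_neg hq, hm, (mul_eq_zero.1 h).resolve_right hq]⟩
    choose s t hst using hcode
    have h1 : Nat.card ↥(U ψ ⊓ U ψ') ≤ Nat.card (F × F) :=
      Nat.card_le_card_of_injective (fun m => (s m, t m)) fun m m' e => by
        simp only [Prod.mk.injEq] at e
        exact Subtype.ext (by rw [hst m, hst m', e.1, e.2])
    have h2 : Nat.card (U ψ') ≤ Nat.card (↥(U ψ ⊓ U ψ') ⊕ ↥(U ψ ⊓ U ψ')) := by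
      refine Nat.card_le_card_of_injective (fun v : U ψ' => if hv : (v : G) ∈ U ψ then
        Sum.inl ⟨v, hv, v.2⟩ else Sum.inr ⟨w * v, hidx v hv, mul_mem hw v.2⟩) ?_
      intro v v' e
      apply Subtype.ext
      by_cases hv : (v : G) ∈ U ψ <;> by_cases hv' : (v' : G) ∈ U ψ <;>
        simp only [hv, hv', dif_pos, dif_neg, not_false_iff, reduceCtorEq, Sum.inl.injEq, Sum.inr.injEq] at e
      · exact congrArg (fun m : ↥(U ψ ⊓ U ψ') => (m : G)) e
      · exact mul_left_cancel (congrArg (fun m : ↥(U ψ ⊓ U ψ') => (m : G)) e)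
    rw [Nat.card_sum, card_U P.cb.ker] at h2
    rw [Nat.card_prod] at h1
    have hle2 : Nat.card F ≤ 2 := by
      have hpos : 0 < Nat.card F := Nat.card_pos
      refine Nat.le_of_mul_le_mul_left (?_ : Nat.card F * Nat.card F * Nat.card F ≤ Nat.card F * Nat.card F * 2)
        (Nat.mul_pos hpos hpos)
      calc Nat.card F * Nat.card F * Nat.card F = Nat.card F ^ 3 := by ring
        _ ≤ _ := h2
        _ ≤ Nat.card F * Nat.card F * 2 := by omega
    intro x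
    haveI := Fintype.ofFinite F
    rw [Nat.card_eq_fintype_card] at hle2
    by_contra hx
    rw [not_or] at hx
    have := Finset.card_le_univ ({0, 1, x} : Finset F)
    rw [Finset.card_eq_three.2 ⟨0, 1, x, zero_ne_one, Ne.symm hx.1, Ne.symm hx.2, rfl⟩] at this
    omega
  exact hne w₀ hwn (RingHom.ext fun x => by rcases hq2 x with rfl | rfl <;> simp)

end Pair

variable {Ω : Type*} [MulAction G Ω]

namespace Plane

variable [CharP F 2] [Finite F] [Finite G] [Finite Ω] [FaithfulSMul G Ω]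
  {X : Type*} [Finite X] [MulAction (L F) X] {φ : Ω → L F →* G}

theorem exists_pair (hP : Plane φ) (hs : Kind F X) {u : ℕ} (hch : ∀ x, Chart X x (φ x) u)
    {a b : Ω} (hab : a ≠ b) {t : G} (ht : IsPGroup 2 (Subgroup.zpowers t)) (hta : t • a = a)
    (htb : t • b = b) :
    ∃ (ψ ψ' : L F →* G) (W : Subgroup G), Pair X a b ψ ψ' u W ∧ ψ.range = (φ a).range ∧ ψ'.range = (φ b).range ∧ t ∈ W ∧
      ∀ v : G, v • a = a → v • b = b → IsPGroup 2 (Subgroup.zpowers v) →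
        ∃ d : G, d • a = a ∧ d • b = b ∧ d * v * d⁻¹ ∈ W := by
  haveI : Fact (Nat.Prime 2) := ⟨Nat.prime_two⟩
  haveI := Fintype.ofFinite F
  set D : Subgroup G := MulAction.stabilizer G a ⊓ MulAction.stabilizer G b with hD
  have htD : t ∈ D := ⟨hta, htb⟩
  have ht' : IsPGroup 2 ((Subgroup.zpowers t).subgroupOf D) :=
    ht.comap_of_injective D.subtype D.subtype_injective
  obtain ⟨S, hS⟩ := ht'.exists_le_sylow
  set W : Subgroup G := (S : Subgroup D).map D.subtype with hW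
  have hW2 : IsPGroup 2 W := S.2.map _
  have hWD : ∀ w ∈ W, w • a = a ∧ w • b = b := by
    rintro w ⟨d, -, rfl⟩
    exact ⟨d.2.1, d.2.2⟩
  have key : ∀ x y : Ω, y ≠ x → (∀ d ∈ D, d • x = x) → (∀ g, g • x = x → g • y = y → g ∈ D) →
      ∃ ψ : L F →* G, Chart X x ψ u ∧ ψ.range = (φ x).range ∧ U ψ = W ⊓ ψ.range ∧
        ∀ w ∈ W, Nrm ψ w := by
    intro x y hy hDx hD'
    obtain ⟨h, hh⟩ := hP.exists_upper_fixing hy
    set P : Subgroup G := (upper F).map ((φ x).comp (MulAut.conj h).toMonoidHom) with hPdef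
    have hPD : P ≤ D := by
      rintro _ ⟨g, hg, rfl⟩
      exact hD' _ (hP.fix x _) (hh g hg)
    have hP2 : IsPGroup 2 (P.subgroupOf D) :=
      ((isPGroup_upper (F := F)).map _).comap_of_injective D.subtype D.subtype_injective
    obtain ⟨Q, hQ⟩ := hP2.exists_le_sylow
    obtain ⟨d, hd⟩ := MulAction.exists_smul_eq D Q S
    set T : Subgroup G := W ⊓ (φ x).range with hT
    have hsub : P.map (MulAut.conj (d : G)).toMonoidHom ≤ T := by
      rintro _ ⟨n, hn, rfl⟩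
      refine ⟨⟨d * ⟨n, hPD hn⟩ * d⁻¹, ?_, rfl⟩,
        hP.normal_range x (hDx _ d.2) n ?_⟩
      · rw [← hd, SetLike.mem_coe, Sylow.coe_subgroup_smul, Subgroup.mem_pointwise_smul_iff_inv_smul_mem,
          MulAut.smul_def, MulAut.conj_inv_apply]
        simpa [mul_assoc] using hQ (Subgroup.mem_subgroupOf.2 hn)
      · obtain ⟨g, -, rfl⟩ := hn
        exact ⟨_, rfl⟩
    obtain ⟨h', hh'⟩ := exists_conj_of_pgroup (ψ := φ x) (T := T) inf_le_right (hW2.to_le inf_le_left)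
    have hcard : Nat.card ((upper F).map ((φ x).comp (MulAut.conj h').toMonoidHom)) ≤ Nat.card T := by
      have e1 : Nat.card (P.map (MulAut.conj (d : G)).toMonoidHom) = Nat.card P :=
        Subgroup.card_map_of_injective (MulAut.conj (d : G)).injective
      have e2 : Nat.card P = Nat.card ((upper F).map ((φ x).comp (MulAut.conj h').toMonoidHom)) := by
        rw [hPdef, card_U (ker_comp_conj (hP.ker x) h), card_U (ker_comp_conj (hP.ker x) h')]
      rw [← e2, ← e1]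
      exact Subgroup.card_le_of_le hsub
    have heq : T = (upper F).map ((φ x).comp (MulAut.conj h').toMonoidHom) :=
      Subgroup.eq_of_le_of_card_ge hh' hcard
    refine ⟨_, (hch x).conj hs h', range_comp_conj _ _, by rw [range_comp_conj, U, ← heq], fun w hw => ?_⟩
    have hwx : w • x = x := by
      obtain ⟨d', -, rfl⟩ := hw
      exact hDx _ d'.2
    refine ⟨by rw [range_comp_conj]; exact hP.normal_range x hwx, fun s hs' => ?_⟩
    rw [U, ← heq] at hs' ⊢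
    exact ⟨mul_mem (mul_mem hw hs'.1) (W.inv_mem hw), hP.normal_range x hwx s hs'.2⟩
  obtain ⟨ψ, c1, r1, i1, n1⟩ := key a b hab.symm (fun d hd => hd.1) fun g h1 h2 => ⟨h1, h2⟩
  obtain ⟨ψ', c2, r2, i2, n2⟩ := key b a hab (fun d hd => hd.2) fun g h1 h2 => ⟨h2, h1⟩
  refine ⟨ψ, ψ', W, ⟨hab, c1, c2, n1, n2, i1, i2, hWD⟩, r1, r2,
    ⟨⟨t, htD⟩, hS (Subgroup.mem_subgroupOf.2 (Subgroup.mem_zpowers t)), rfl⟩, fun v hva hvb hv => ?_⟩
  have hvD : v ∈ D := ⟨hva, hvb⟩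
  obtain ⟨S', hS'⟩ := (hv.comap_of_injective D.subtype D.subtype_injective :
    IsPGroup 2 ((Subgroup.zpowers v).subgroupOf D)).exists_le_sylow
  obtain ⟨d, hd⟩ := MulAction.exists_smul_eq D S' S
  refine ⟨d, d.2.1, d.2.2, d * ⟨v, hvD⟩ * d⁻¹, ?_, rfl⟩
  rw [← hd, SetLike.mem_coe, Sylow.coe_subgroup_smul, Subgroup.mem_pointwise_smul_iff_inv_smul_mem,
    MulAut.smul_def, MulAut.conj_inv_apply]
  simpa [mul_assoc] using hS' (Subgroup.mem_subgroupOf.2 (Subgroup.mem_zpowers v))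

theorem isPGroup_zpowers_of_pow {t : G} {k : ℕ} (h : t ^ 2 ^ k = 1) :
    IsPGroup 2 (Subgroup.zpowers t) := by
  rintro ⟨x, j, rfl⟩
  refine ⟨k, Subtype.ext ?_⟩
  simp only [SubmonoidClass.coe_pow, OneMemClass.coe_one]
  rw [← zpow_natCast, ← _root_.zpow_mul, mul_comm, _root_.zpow_mul, zpow_natCast, h, _root_.one_zpow]

/-- **Symmetry**: a 2-element of `N_a` fixing `b` lies in `N_b`. -/
theorem symmetric (hP : Plane φ) (hs : Kind F X) (hd : HasDir φ X) {a b : Ω} (hab : a ≠ b) {t : G}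
    (ht : t ∈ (φ a).range) (htb : t • b = b) (ht4 : t ^ 4 = 1) : t ∈ (φ b).range := by
  haveI : Nonempty Ω := ⟨a⟩
  obtain ⟨u, huo, hch⟩ := exists_charts hP hs hd
  have hu : u ≠ 0 := by
    rintro rfl
    simp at huo
  have hta : t • a = a := by obtain ⟨g, rfl⟩ := ht; exact hP.fix a g
  obtain ⟨ψ, ψ', W, P, r1, r2, htW, hSyl⟩ :=
    hP.exists_pair hs hch hab (isPGroup_zpowers_of_pow (k := 2) ht4) hta htb
  -- some pair of normal subgroups meets in a non-trivial 2-group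
  obtain ⟨v, hv1, hv4, hva, hvb⟩ : ∃ v : G, v ≠ 1 ∧ v ^ 4 = 1 ∧ v ∈ (φ a).range ∧ v ∈ (φ b).range := by
    rcases P.exists_common hu hs with ⟨v, hv1, hva, hvb⟩ | ⟨g, hg, hga, hgt⟩
    · exact ⟨v, hv1, P.pow_four hvb, r1 ▸ Subgroup.map_le_range ψ _ hva,
        r2 ▸ Subgroup.map_le_range ψ' _ hvb⟩
    · set v := ψ (uu 0 0 1) with hv
      have hva : v ∈ (φ a).range := r1 ▸ ⟨_, rfl⟩
      have hvy : v ∈ (φ (g • a)).range := hgt ▸ hP.conj g a v hva
      obtain ⟨k, hka, hkb⟩ := hP.trans2 a (g • a) a b (Ne.symm hga) hab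
      refine ⟨k * v * k⁻¹, ?_, ?_, ?_, ?_⟩
      · rw [Ne, conj_eq_one_iff]
        intro e
        exact uu_ne_one (Or.inr (Or.inr one_ne_zero))
          (inj4 P.ca.ker (uu_pow_four _ _ _) (one_pow 4) (by rw [← hv, e, map_one]))
      · rw [conj_pow, hv, ← map_pow, uu_pow_four, map_one, mul_one, mul_inv_cancel]
      · simpa [hka] using hP.conj k a v hva
      · simpa [hkb] using hP.conj k _ v hvy
  have hva' : v • a = a := by obtain ⟨g, rfl⟩ := hva; exact hP.fix a g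
  have hvb' : v • b = b := by obtain ⟨g, rfl⟩ := hvb; exact hP.fix b g
  obtain ⟨d, hda, hdb, hdW⟩ := hSyl v hva' hvb' (isPGroup_zpowers_of_pow (k := 2) hv4)
  have hsa : d * v * d⁻¹ ∈ ψ.range := r1 ▸ hP.normal_range a hda v hva
  have hsb : d * v * d⁻¹ ∈ ψ'.range := r2 ▸ hP.normal_range b hdb v hvb
  have hs2 : d * v * d⁻¹ ∈ U ψ ⊓ U ψ' := ⟨P.ia ▸ ⟨hdW, hsa⟩, P.ib ▸ ⟨hdW, hsb⟩⟩
  have hs1 : d * v * d⁻¹ ≠ 1 := fun e => hv1 (conj_eq_one_iff.1 e)
  exact r2 ▸ Subgroup.map_le_range ψ' _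
    (P.symm.le_U hu hs ⟨_, hs1, hs2.2, hs2.1⟩ (P.ia ▸ ⟨htW, r1 ▸ ht⟩))

end Plane

end CfsgLib.PlaneStab
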