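import Cfsg.Agent.PlaneStab.Shears

/-!
# The affine case: the translations
-/

set_option autoImplicit false

open Matrix

namespace CfsgLib.PlaneStab

variable {F : Type*} [Field F] [CharP F 2] [Finite F]

/-- Some trace gives a polynomial without roots. -/
theorem exists_rootless : ∃ τ : F, τ ≠ 0 ∧ ∀ e : F, e * e + τ * e + 1 ≠ 0 := by
  classical
  haveI := Fintype.ofFinite F
  obtain ⟨τ, hτ⟩ : ∃ τ : F, ∀ e : {e : F // e ≠ 0}, (e.1 * e.1 + 1) / e.1 ≠ τ := by
    by_contra hc
    simp only [not_exists, not_forall, not_not] at hc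
    have := Fintype.card_le_of_surjective (fun e : {e : F // e ≠ 0} => (e.1 * e.1 + 1) / e.1) hc
    rw [Fintype.card_subtype_compl (fun e : F => e = 0), Fintype.card_subtype_eq] at this
    have : 0 < Fintype.card F := Fintype.card_pos
    omega
  refine ⟨τ, fun e => hτ ⟨1, one_ne_zero⟩ (by rw [e]; simp [CharTwo.add_self_eq_zero]), fun e he => ?_⟩
  have he0 : e ≠ 0 := by
    rintro rfl
    simp at he
  refine hτ ⟨e, he0⟩ ?_
  rw [div_eq_iff he0]
  linear_combination he - (τ * e) * CharTwo.two_eq_zero (R := F)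

variable {G Ω : Type*} [Group G] [MulAction G Ω]
  [Finite G] [Finite Ω] [FaithfulSMul G Ω] {φ : Ω → L F →* G} {u : ℕ}

namespace Geo

/-- The translations along a class of lines. -/
def translations (hG : Geo φ (Pt F) u) (m : Set Ω) : Subgroup G :=
  Subgroup.closure {t | t ∈ hG.classGroup m ∧ ∀ z : Ω, t • z ≠ z}

/-- The group of all translations. -/
def allTranslations (hG : Geo φ (Pt F) u) : Subgroup G :=
  Subgroup.closure {t | ∃ m, IsLn φ m ∧ t ∈ hG.translations m}

variable (hG : Geo φ (Pt F) u) (hu : u + 1 = Nat.card F)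
include hG hu

/-- A non-trivial element of the class group with a fixed point fixes a plane. -/
theorem fixed_plane {m : Set Ω} (hm : IsLn φ m) {w : G} (hw : w ∈ hG.classGroup m) (hw1 : w ≠ 1)
    {b : Ω} (hb : w • b = b) :
    hG.IsPl {z | w • z = z} ∧ ∃ n, hG.Par m n ∧ b ∈ n ∧ n ⊆ {z | w • z = z} := by
  obtain ⟨n, hn, hbn⟩ := hG.exists_par hu hm b
  have hwQ : w ∈ hG.shears n := (hG.card_classGroup hu hn.2.1).2 w
    (by rw [← hG.classGroup_eq hu hn]; exact hw) b hbn hb
  have hQ := hG.inQ_of_mem hn.2.1 hwQ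
  refine ⟨?_, n, hn, hbn, fun z hz => hQ.2.2.1 z hz⟩
  obtain ⟨k, hk⟩ := hG.exists_conj_dir hn.2.1 hbn
  obtain ⟨g, ⟨a, c, rfl⟩, rfl⟩ := (hG.inQ_iff hn.2.1 hbn hk w).1 hQ
  have h4 := conj_four k _ (uu_pow_four a 0 c)
  obtain ⟨A, C, -, hA, -⟩ := involution_axis (x := a) (y := 0) (z := c) (Or.inr rfl) (by
    by_contra hc
    simp only [not_or, not_not] at hc
    rw [hc.1, hc.2.2, uu_zero, mul_one, mul_inv_cancel, map_one] at hw1
    exact hw1 rfl)
  refine ⟨b, dv k • A, Set.ext fun z => ?_⟩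
  rcases eq_or_ne z b with rfl | hzb
  · exact iff_of_true (hG.plane.fix _ _) (hG.self_mem_pl _ _)
  · rw [hG.mem_pl hzb, Set.mem_setOf_eq, hG.dir_iff hzb h4, ← smul_inv_smul k (hG.dirOf b z), inc_smul,
      ← hA, mul_smul, mul_smul, inv_smul_smul, smul_left_cancel_iff]

theorem card_stab_class {m : Set Ω} (hm : IsLn φ m) (z : Ω) :
    Nat.card (MulAction.stabilizer (hG.classGroup m) z) = Nat.card F ^ 2 := by
  obtain ⟨n, hn, hzn⟩ := hG.exists_par hu hm z
  have horb : MulAction.orbit (hG.classGroup m) z = n := by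
    ext y
    exact ⟨by rintro ⟨t, rfl⟩; exact hG.classGroup_par hu hn t.2 hzn, fun hy => by
      obtain ⟨t, ht, e⟩ := hG.classGroup_transitive hu hn hzn hy
      exact ⟨⟨t, ht⟩, e⟩⟩
  have := (MulAction.stabilizer (hG.classGroup m) z).card_mul_index
  rw [MulAction.index_stabilizer, horb, hG.ncard_ln hn.2.1, hu, (hG.card_classGroup hu hm).1] at this
  refine Nat.eq_of_mul_eq_mul_right (Nat.card_pos : 0 < Nat.card F) ?_
  rw [this]; ring

/-- There are exactly `q - 1` elements of the class group without fixed points. -/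
theorem card_free {m : Set Ω} (hm : IsLn φ m) :
    Nat.card {t : hG.classGroup m // ∀ z : Ω, (t : G) • z ≠ z} + 1 = Nat.card F := by
  classical
  obtain ⟨x, hx⟩ := hG.ln_nonempty hm
  haveI := Fintype.ofFinite Ω
  set W := hG.classGroup m with hW
  haveI := Fintype.ofFinite W
  set q := Nat.card F with hq
  let A := Finset.univ.filter fun w : W => w ≠ 1 ∧ ∃ z : Ω, (w : G) • z = z
  have e1 : Nat.card (Σ z : Ω, MulAction.stabilizer W z) = q ^ 3 * q ^ 2 := by
    rw [Nat.card_sigma, Finset.sum_congr rfl fun z _ => hG.card_stab_class hu hm z, Finset.sum_const,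
      smul_eq_mul, Finset.card_univ, ← Nat.card_eq_fintype_card, hG.card_omega' hu x]
  have e2 : Nat.card (Σ z : Ω, MulAction.stabilizer W z) =
      Nat.card (Σ w : W, {z : Ω // (w : G) • z = z}) :=
    Nat.card_congr
      { toFun := fun p => ⟨p.2.1, p.1, p.2.2⟩
        invFun := fun p => ⟨p.2.1, p.1, p.2.2⟩
        left_inv := fun _ => rfl
        right_inv := fun _ => rfl }
  have e3 : ∀ w : W, Nat.card {z : Ω // (w : G) • z = z} =
      (if w = 1 then q ^ 3 else 0) + (if w ∈ A then q ^ 2 else 0) := by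
    intro w
    by_cases h1 : w = 1
    · subst h1
      simp [A, ← hG.card_omega' hu x, hq]
    rw [if_neg h1, zero_add]
    by_cases hA : w ∈ A
    · rw [if_pos hA]
      obtain ⟨-, -, z, hz⟩ := Finset.mem_filter.1 hA
      have hne : (w : G) ≠ 1 := fun e => h1 (Subtype.ext e)
      exact (Nat.card_coe_set_eq _).trans (IsPl.ncard' hG hu (hG.fixed_plane hu hm w.2 hne hz).1)
    · rw [if_neg hA]
      haveI : IsEmpty {z : Ω // (w : G) • z = z} :=
        ⟨fun z => hA (Finset.mem_filter.2 ⟨Finset.mem_univ _, h1, z.1, z.2⟩)⟩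
      exact Nat.card_of_isEmpty
  rw [e2, Nat.card_sigma, Finset.sum_congr rfl fun w _ => e3 w, Finset.sum_add_distrib,
    Finset.sum_ite_eq' Finset.univ 1, if_pos (Finset.mem_univ _), Finset.sum_ite_mem,
    Finset.univ_inter, Finset.sum_const, smul_eq_mul] at e1
  have hsplit : Nat.card {t : W // ∀ z : Ω, (t : G) • z ≠ z} + (A.card + 1) = q ^ 3 := by
    have hcompl : (Finset.univ.filter fun w : W => ∀ z : Ω, (w : G) • z ≠ z) = (insert 1 A)ᶜ := by
      ext w
      simp only [Finset.mem_filter, Finset.mem_univ, true_and, Finset.mem_compl, Finset.mem_insert, A,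
        not_or, not_and, not_exists]
      exact ⟨fun h => ⟨fun e => h x (by rw [e, OneMemClass.coe_one, one_smul]), fun _ z => h z⟩,
        fun h => h.2 h.1⟩
    rw [Nat.card_eq_fintype_card, Fintype.card_subtype, hcompl, Finset.card_compl,
      ← Finset.card_insert_of_notMem (show (1 : W) ∉ A by simp [A]),
      Nat.sub_add_cancel (Finset.card_le_univ _), ← Nat.card_eq_fintype_card]
    exact (hG.card_classGroup hu hm).1
  have hq2 := two_le_card (F := F)
  have h32 : q ^ 3 + A.card * q ^ 2 = q ^ 5 := by rw [e1]; ring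
  have hA : A.card + q = q ^ 3 := by
    refine Nat.eq_of_mul_eq_mul_right (show 0 < q ^ 2 by positivity) ?_
    rw [add_mul]
    calc A.card * q ^ 2 + q * q ^ 2 = q ^ 3 + A.card * q ^ 2 := by ring
      _ = q ^ 5 := h32
      _ = q ^ 3 * q ^ 2 := by ring
  omega

/-- The translations of a class form a group of order `q`. -/
theorem exists_translation_group {m : Set Ω} (hm : IsLn φ m) :
    ∃ T : Subgroup G, Nat.card T = Nat.card F ∧ T ≤ hG.classGroup m ∧
      ∀ t ∈ T, t ≠ 1 → ∀ z : Ω, t • z ≠ z := by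
  classical
  obtain ⟨x, hx⟩ := hG.ln_nonempty hm
  obtain ⟨k, hk⟩ := hG.exists_conj_dir hm hx
  obtain ⟨x', hx', hx'x⟩ := hG.exists_ne_mem hm x
  obtain ⟨τ, hτ, hroot⟩ := exists_rootless (F := F)
  set h₀ : L F := uu 0 1 0 * ll 0 1 0 * uu 0 1 0 * uu 0 τ 0 with hh₀
  set h := φ x (k * h₀ * k⁻¹) with hh
  have h0c : (h₀ : Matrix (Fin 3) (Fin 3) F) = !![1, 0, 0; 0, 0, 1; 0, 1, τ] := by
    simp only [hh₀, Matrix.SpecialLinearGroup.coe_mul, uu_coe, ll_coe]
    ext i j
    fin_cases i <;> fin_cases j <;>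
      simp [Matrix.mul_apply, Fin.sum_univ_three, CharTwo.add_self_eq_zero]
  have hdir : ∀ g : L F, g • p0 F = p0 F → g ^ 4 = 1 → ∀ z ∈ m, φ x (k * g * k⁻¹) • z = z := by
    intro g hg0 hg4 z hz
    rcases eq_or_ne z x with rfl | hzx
    · exact hG.plane.fix _ _
    · refine (hG.dir_iff hzx (conj_four k g hg4)).2 ?_
      rw [← hk z hz hzx, mul_smul, mul_smul, inv_smul_smul, hg0]
  have hfix : ∀ z ∈ m, h • z = z := by
    intro z hz
    have hll : ∀ b : F, (ll 0 b 0 : L F) • p0 F = p0 F ∧ (ll 0 b 0 : L F) ^ 4 = 1 := by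
      intro b
      refine ⟨?_, ?_⟩
      · rw [smul_pt, Projectivization.mk_eq_mk_iff']
        refine ⟨1, ?_⟩
        rw [mv_ll]
        ext i
        fin_cases i <;> simp
      · rw [show (ll 0 b 0 : L F) = dv (uu 0 b 0) by rw [dv, dv_uu, zero_mul, add_zero]]
        exact dv_uu_pow_four _ _ _
    have hu0 : ∀ b : F, φ x (k * uu 0 b 0 * k⁻¹) • z = z := fun b =>
      hdir _ (upper_fix_p0 (uu_mem _ _ _)).1 (uu_pow_four _ _ _) z hz
    have e : k * h₀ * k⁻¹ = k * uu 0 1 0 * k⁻¹ * (k * ll 0 1 0 * k⁻¹) * (k * uu 0 1 0 * k⁻¹) *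
        (k * uu 0 τ 0 * k⁻¹) := by rw [hh₀]; group
    rw [hh, e, map_mul, map_mul, map_mul, mul_smul, mul_smul, mul_smul, hu0, hu0,
      hdir _ (hll 1).1 (hll 1).2 z hz, hu0]
  have hfix' : ∀ z ∈ m, h⁻¹ • z = z := fun z hz => by rw [inv_smul_eq_iff, hfix z hz]
  have himg : (h • ·) '' m = m := by
    ext z
    exact ⟨by rintro ⟨y, hy, rfl⟩; show h • y ∈ m; rwa [hfix y hy], fun hz => ⟨z, hz, hfix z hz⟩⟩
  set W := hG.classGroup m with hWdef
  have hnorm : ∀ w ∈ W, h * w * h⁻¹ ∈ W := by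
    have hle : W ≤ W.comap (MulAut.conj h).toMonoidHom := by
      refine (Subgroup.closure_le _).2 ?_
      rintro t ⟨n, hn, ht⟩
      have hp := Par.smul hG hn h
      rw [himg] at hp
      exact hG.shears_le_classGroup hu hp (hG.shears_smul hn.2.1 h ht)
    exact fun w hw => hle hw
  have hW2 : ∀ w ∈ W, w * w = 1 := fun w hw => hG.classGroup_sq hu hw
  let ρ : W →* W :=
    { toFun := fun w => w * ⟨h * w * h⁻¹, hnorm w w.2⟩
      map_one' := by ext; simp
      map_mul' := fun w v => by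
        ext
        show (w : G) * v * (h * (w * v) * h⁻¹) = w * (h * w * h⁻¹) * (v * (h * v * h⁻¹))
        rw [show h * ((w : G) * v) * h⁻¹ = h * w * h⁻¹ * (h * v * h⁻¹) by group,
          mul_assoc (w : G) v, ← mul_assoc (v : G),
          (hG.classGroup_comm hu v.2 (hnorm w w.2)).eq]
        group }
  have hrange : ρ.range ≤ MulAction.stabilizer W x := by
    rintro _ ⟨w, rfl⟩
    show ((w : G) * (h * w * h⁻¹)) • x = x
    rw [mul_smul, mul_smul, mul_smul, hfix' x hx, hfix _ (hG.classGroup_par hu (hG.par_refl hm) w.2 hx),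
      ← mul_smul, hW2 w w.2, one_smul]
  have hker : ∀ w : W, w ∈ ρ.ker ↔ h * w * h⁻¹ = w := fun w => by
    rw [MonoidHom.mem_ker, Subtype.ext_iff]
    show (w : G) * (h * w * h⁻¹) = 1 ↔ _
    rw [← hW2 w w.2, mul_left_cancel_iff]
  have hinj : ∀ w : W, w ∈ ρ.ker → (w : G) • x = x → w = 1 := by
    intro w hwk hwx
    have hws := (hG.card_classGroup hu hm).2 w w.2 x hx hwx
    obtain ⟨g, ⟨a, c, rfl⟩, hg⟩ := (hG.inQ_iff hm hx hk _).1 (hG.inQ_of_mem hm hws)
    have hc := (hker w).1 hwk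
    rw [mul_inv_eq_iff_eq_mul, ← hg, hh] at hc
    have hcomm := comm_of_map (hG.plane.ker x) (conj_four k _ (uu_pow_four a 0 c)) hc.symm
    have h2 : uu a 0 c * h₀ = h₀ * uu a 0 c := by
      have e := congrArg (fun g => k⁻¹ * g * k) hcomm
      simpa [mul_assoc] using e
    have h3 := congrArg (fun g : L F => (g : Matrix (Fin 3) (Fin 3) F)) h2
    simp only [Matrix.SpecialLinearGroup.coe_mul, uu_coe, h0c] at h3
    have h31 := congrFun (congrFun h3 0) 1
    have h32 := congrFun (congrFun h3 0) 2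
    simp [Matrix.mul_apply, Fin.sum_univ_three] at h31 h32
    have ha : a = 0 := by
      refine (mul_eq_zero.1 (show τ * a = 0 from ?_)).resolve_left hτ
      grind
    have hc0 : c = 0 := by grind
    refine Subtype.ext ?_
    rw [← hg, ha, hc0, uu_zero, mul_one, mul_inv_cancel, map_one]
    rfl
  have hstab : Nat.card (MulAction.stabilizer W x) = Nat.card F ^ 2 := hG.card_stab_class hu hm x
  have hkcard : Nat.card ρ.ker = Nat.card F := by
    have h1 : Nat.card ρ.range ≤ Nat.card F ^ 2 := hstab ▸ Subgroup.card_le_of_le hrange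
    have h2 : Nat.card F ^ 2 ≤ Nat.card ρ.range := by
      rw [← hstab]
      refine Nat.card_le_card_of_injective (fun w : MulAction.stabilizer W x => (⟨ρ w, w, rfl⟩ : ρ.range))
        fun w w' e => ?_
      have e' : ρ w = ρ w' := congrArg Subtype.val e
      have := hinj ((w : W)⁻¹ * w') (by rw [MonoidHom.mem_ker, map_mul, map_inv, e', inv_mul_cancel])
        (mul_mem (inv_mem w.2) w'.2 : (w : W)⁻¹ * w' ∈ MulAction.stabilizer W x)
      exact Subtype.ext (inv_mul_eq_one.1 this)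
    have h3 := ρ.ker.card_mul_index
    rw [Subgroup.index_ker, le_antisymm h1 h2, (hG.card_classGroup hu hm).1] at h3
    refine Nat.eq_of_mul_eq_mul_right (show 0 < Nat.card F ^ 2 from pow_pos Nat.card_pos 2) ?_
    rw [h3]; ring
  refine ⟨ρ.ker.map W.subtype, ?_, ?_, ?_⟩
  · rw [Subgroup.card_map_of_injective W.subtype_injective, hkcard]
  · rintro _ ⟨w, -, rfl⟩; exact w.2
  rintro _ ⟨w, hwk, rfl⟩ hw1 b hb
  have hcomm := (hker w).1 hwk
  have hw1' : (w : G) ≠ 1 := hw1
  change (w : G) • b = b at hb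
  have hxb : ∀ z ∈ m, (w : G) • z ≠ z := fun z hz e =>
    hw1' (congrArg Subtype.val (hinj w hwk (hG.classGroup_fix hu (hG.par_refl hm) w.2 hz hx e)))
  obtain ⟨hR, n, hn, hbn, hnR⟩ := hG.fixed_plane hu hm w.2 hw1' hb
  set R := {z : Ω | (w : G) • z = z} with hRdef
  have hRm : ∀ r ∈ R, r ∉ m := fun r hr hrm => hxb r hrm hr
  have hxR : x ∉ R := fun e => hRm x e hx
  have hhR : ∀ r ∈ R, h • r ∈ R := by
    intro r hr
    show (w : G) • h • r = h • r
    rw [← mul_smul, ← mul_inv_eq_iff_eq_mul.1 hcomm, mul_smul, hr]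
  set d := k • p0 F with hd
  have hdx : hG.dirOf x x' = d := (hk x' hx' hx'x).symm
  haveI := Fintype.ofFinite Ω
  haveI := Fintype.ofFinite (Pt F)
  -- the lines through `d` whose planes meet `R`
  let B := {w : Pt F | inc d w ∧ ∃ r ∈ R, r ∈ hG.pl x w}
  have hBsub : B ⊆ {w | inc d w} := fun w hw => hw.1
  have hmsub : ∀ v, inc d v → m ⊆ hG.pl x v := fun v hv =>
    hG.ln_subset_pl hm ⟨x, v, rfl⟩ hx'x hx hx' (hG.self_mem_pl _ _) ((hG.mem_pl hx'x).2 (hdx ▸ hv))
  have hcount : B.ncard * Nat.card F = Nat.card F * Nat.card F := by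
    haveI := Fintype.ofFinite B
    have key : ∀ r : R, ∃ v, inc d v ∧ (r : Ω) ∈ hG.pl x v := by
      intro r
      have hrx : (r : Ω) ≠ x := fun e => hxR (e ▸ r.2)
      have hne : d ≠ hG.dirOf x r := fun e => hRm r r.2 (by
        rw [hG.ln_eq hm hx'x hx hx']
        exact (hG.mem_lin hx'x).2 (Or.inr ⟨hrx, by rw [← e, hdx]⟩))
      obtain ⟨v, hv1, hv2⟩ := exists_inc_pair hne
      exact ⟨v, hv1, (hG.mem_pl hrx).2 hv2⟩
    choose wr hwr1 hwr2 using key
    rw [← Nat.card_coe_set_eq, ← pow_two, ← IsPl.ncard' hG hu hR, ← Nat.card_coe_set_eq R,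
      ← Nat.card_congr (Equiv.sigmaFiberEquiv fun r : R =>
        (⟨wr r, hwr1 r, r, r.2, hwr2 r⟩ : B)), Nat.card_sigma,
      Finset.sum_const_nat (m := Nat.card F), Finset.card_univ, Nat.card_eq_fintype_card (α := B)]
    rintro ⟨v, hv, r₀, hr₀, hr₀v⟩ -
    obtain ⟨y, hy, e⟩ := hG.pl_inter ⟨x, v, rfl⟩ hR (fun e => hxR (e ▸ hG.self_mem_pl x v)) hr₀v hr₀
    rw [← hu, ← hG.ncard_lin hy, ← e, ← Nat.card_coe_set_eq]
    refine Nat.card_congr
      { toFun := fun r => ⟨r.1.1, ?_, r.1.2⟩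
        invFun := fun z => ⟨⟨z.1, z.2.2⟩, ?_⟩
        left_inv := fun _ => rfl
        right_inv := fun _ => rfl }
    · have he : wr r.1 = v := congrArg Subtype.val r.2
      exact he.subst (motive := fun z => (r.1 : Ω) ∈ hG.pl x z) (hwr2 r.1)
    · refine Subtype.ext ?_
      show wr ⟨z.1, z.2.2⟩ = v
      refine hG.pl_inj (x := x) (hG.pl_unique_ln hm ⟨x, _, rfl⟩ ⟨x, _, rfl⟩ (hRm _ z.2.2) ?_ (hwr2 ⟨z.1, z.2.2⟩) ?_ z.2.1)
      · exact hmsub _ (hwr1 _)
      · exact hmsub v hv
  have hcB : B.ncard = Nat.card F := Nat.eq_of_mul_eq_mul_right Nat.card_pos hcount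
  have hc1 : ({w | inc d w} \ B).ncard = 1 := by
    rw [Set.ncard_sdiff hBsub (Set.toFinite _), hcB, ← Nat.card_coe_set_eq]
    show Nat.card {w : Pt F // inc d w} - _ = 1
    rw [card_inc']; omega
  obtain ⟨v₀, hv₀⟩ := Set.ncard_eq_one.1 hc1
  have hv₀' : inc d v₀ ∧ v₀ ∉ B := by
    have : v₀ ∈ ({w | inc d w} \ B) := hv₀ ▸ rfl
    exact this
  have hg0d : (k * h₀ * k⁻¹) • d = d := by
    rw [hd, mul_smul, mul_smul, inv_smul_smul, smul_left_cancel_iff, smul_pt,
      Projectivization.mk_eq_mk_iff']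
    refine ⟨1, ?_⟩
    rw [mv, h0c, one_smul]
    ext i
    fin_cases i <;> simp [Matrix.mulVec, dotProduct, Fin.sum_univ_three]
  have hfixed : dv (k * h₀ * k⁻¹) • v₀ = v₀ := by
    have : dv (k * h₀ * k⁻¹) • v₀ ∈ ({w | inc d w} \ B) := by
      refine ⟨?_, ?_⟩
      · have := (inc_smul (k * h₀ * k⁻¹) _ _).2 hv₀'.1
        rwa [hg0d] at this
      · rintro ⟨-, r, hr, hrv⟩
        have hinvR : h⁻¹ • r ∈ R := by
          show (w : G) • h⁻¹ • r = h⁻¹ • r
          have e : (w : G) * h⁻¹ = h⁻¹ * w := by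
            rw [eq_inv_mul_iff_mul_eq, ← mul_assoc, hcomm]
          rw [← mul_smul, e, mul_smul, hr]
        refine hv₀'.2 ⟨hv₀'.1, h⁻¹ • r, hinvR, ?_⟩
        rw [← hG.smul_mem_pl (k * h₀ * k⁻¹), ← hh, smul_inv_smul]
        exact hrv
    rw [hv₀] at this
    exact this
  have h0 : dv h₀ • ((dv k)⁻¹ • v₀) = (dv k)⁻¹ • v₀ := by
    rw [dv_mul, dv_mul, dv_inv, mul_smul, mul_smul] at hfixed
    exact eq_inv_smul_iff.2 hfixed
  have hinc0 : inc (p0 F) ((dv k)⁻¹ • v₀) := by
    rw [← inc_smul k, smul_inv_smul]; exact hv₀'.1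
  revert h0 hinc0
  generalize (dv k)⁻¹ • v₀ = p
  induction p using Projectivization.ind with | _ v hv =>
  intro h0 hinc0
  rw [inc_mk] at hinc0
  simp [dotProduct, Fin.sum_univ_three] at hinc0
  rw [smul_pt, Projectivization.mk_eq_mk_iff'] at h0
  obtain ⟨e, he⟩ := h0
  -- `v` is an eigenvector of the transpose
  have hv' : (h₀ : Matrix (Fin 3) (Fin 3) F)ᵀ *ᵥ (e • v) = v := by
    have h5 : mv (dv h₀) v = e • v := he.symm
    have h6 := congrArg (fun z => (h₀ : Matrix (Fin 3) (Fin 3) F)ᵀ *ᵥ z) h5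
    simp only [mv, dv, AutPSL.invTransSL_coe, Matrix.mulVec_mulVec, ← Matrix.transpose_mul,
      ← Matrix.SpecialLinearGroup.coe_mul, inv_mul_cancel, Matrix.SpecialLinearGroup.coe_one,
      Matrix.transpose_one, Matrix.one_mulVec] at h6
    exact h6.symm
  rw [h0c] at hv'
  have hc1 := congrFun hv' 1
  have hc2 := congrFun hv' 2
  simp [Matrix.mulVec, dotProduct, Fin.sum_univ_three] at hc1 hc2
  have hne : v 1 ≠ 0 := by
    intro h1
    have he0 : e ≠ 0 := by
      rintro rfl
      simp at hc1 hc2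
      exact hv (by ext i; fin_cases i <;> simp [hinc0, ← hc1, ← hc2])
    have h2 : v 2 = 0 := by
      rw [h1] at hc1
      exact (mul_eq_zero.1 (by simpa using hc1)).resolve_left he0
    exact hv (by ext i; fin_cases i <;> simp [hinc0, h1, h2])
  refine hroot e ?_
  refine (mul_eq_zero.1 (show (e * e + τ * e + 1) * v 1 = 0 from ?_)).resolve_right hne
  grind

/-- The translations of a class. -/
theorem mem_translations {m : Set Ω} (hm : IsLn φ m) :
    Nat.card (hG.translations m) = Nat.card F ∧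
      ∀ t, t ∈ hG.translations m ↔ t ∈ hG.classGroup m ∧ (t = 1 ∨ ∀ z : Ω, t • z ≠ z) := by
  classical
  obtain ⟨T, hT, hTW, hTf⟩ := hG.exists_translation_group hu hm
  set W := hG.classGroup m
  haveI := Fintype.ofFinite W
  have key : ∀ t, t ∈ T ↔ t ∈ W ∧ (t = 1 ∨ ∀ z : Ω, t • z ≠ z) := by
    intro t
    refine ⟨fun h => ⟨hTW h, (eq_or_ne t 1).imp_right (hTf t h)⟩, ?_⟩
    rintro ⟨ht, rfl | hf⟩
    · exact one_mem T
    have hfree : Nat.card {t : W // ∀ z : Ω, (t : G) • z ≠ z} + 1 = Nat.card F := hG.card_free hu hm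
    let j : {t : T // (t : G) ≠ 1} → {t : W // ∀ z : Ω, (t : G) • z ≠ z} := fun s =>
      ⟨⟨s.1, hTW s.1.2⟩, hTf _ s.1.2 s.2⟩
    have hj : Function.Bijective j := by
      refine (Nat.bijective_iff_injective_and_card _).2 ⟨fun a b e => ?_, ?_⟩
      · exact Subtype.ext (Subtype.ext (congrArg (fun z : {t : W // ∀ z : Ω, (t : G) • z ≠ z} => ((z : W) : G)) e :))
      · haveI := Fintype.ofFinite T
        have : Nat.card {t : T // (t : G) ≠ 1} + 1 = Nat.card T := by
          simp only [Nat.card_eq_fintype_card]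
          rw [Fintype.card_subtype_compl (fun t : T => (t : G) = 1),
            Fintype.card_congr (Equiv.subtypeEquivRight (fun t : T =>
              (⟨fun e => Subtype.ext e, fun e => congrArg Subtype.val e⟩ : (t : G) = 1 ↔ t = 1))),
            Fintype.card_subtype_eq, Nat.sub_add_cancel Fintype.card_pos]
        omega
    obtain ⟨s, hs⟩ := hj.2 ⟨⟨t, ht⟩, hf⟩
    have : ((s : T) : G) = t := congrArg (fun z : {t : W // ∀ z : Ω, (t : G) • z ≠ z} => ((z : W) : G)) hs
    exact this ▸ (s : T).2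
  have hTeq : hG.translations m = T := by
    refine le_antisymm ((Subgroup.closure_le _).2 fun t ht => (key t).2 ⟨ht.1, Or.inr ht.2⟩) fun t ht => ?_
    rcases ((key t).1 ht).2 with rfl | hf
    · exact one_mem _
    · exact Subgroup.subset_closure ⟨hTW ht, hf⟩
  exact ⟨hTeq ▸ hT, fun t => hTeq ▸ key t⟩

theorem translations_smul {m : Set Ω} (hm : IsLn φ m) (g : G) {t : G} (ht : t ∈ hG.translations m) :
    g * t * g⁻¹ ∈ hG.translations ((g • ·) '' m) := by
  have hle : hG.classGroup m ≤ (hG.classGroup ((g • ·) '' m)).comap (MulAut.conj g).toMonoidHom := by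
    refine (Subgroup.closure_le _).2 ?_
    rintro s ⟨n, hn, hs⟩
    exact hG.shears_le_classGroup hu (Par.smul hG hn g) (hG.shears_smul hn.2.1 g hs)
  obtain ⟨ht1, ht2⟩ := ((hG.mem_translations hu hm).2 t).1 ht
  refine ((hG.mem_translations hu (hG.ln_smul hm g)).2 _).2 ⟨hle ht1, ht2.imp (fun e => by rw [e]; group)
    fun hf z e => hf (g⁻¹ • z) ?_⟩
  rw [mul_smul, mul_smul] at e
  exact eq_inv_smul_iff.2 e

theorem translations_eq {m m' : Set Ω} (h : hG.Par m m') : hG.translations m = hG.translations m' := by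
  rw [translations, translations, hG.classGroup_eq hu h]

/-- The translations of a class are transitive on each of its lines. -/
theorem translations_transitive {m : Set Ω} (hm : IsLn φ m) {y z : Ω} (hy : y ∈ m) (hz : z ∈ m) :
    ∃ t ∈ hG.translations m, t • y = z := by
  obtain ⟨hc, hmem⟩ := hG.mem_translations hu hm
  set T := hG.translations m
  have hinj : Function.Injective (fun t : T => (t : G) • y) := by
    intro a b e
    have hm' : (a : G)⁻¹ * b ∈ T := mul_mem (inv_mem a.2) b.2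
    rcases ((hmem _).1 hm').2 with h | h
    · exact Subtype.ext (inv_mul_eq_one.1 h)
    · exact absurd (by rw [mul_smul, inv_smul_eq_iff]; exact e.symm) (h y)
  let f : T → m := fun t => ⟨(t : G) • y, hG.classGroup_par hu (hG.par_refl hm) ((hmem _).1 t.2).1 hy⟩
  have hf : Function.Bijective f := (Nat.bijective_iff_injective_and_card f).2
    ⟨fun a b e => hinj (congrArg Subtype.val e), by rw [hc, Nat.card_coe_set_eq, hG.ncard_ln hm, hu]⟩
  obtain ⟨t, ht⟩ := hf.2 ⟨z, hz⟩
  exact ⟨t, t.2, congrArg Subtype.val ht⟩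

/-- Translations map every line to a parallel line. -/
theorem translations_par {m n : Set Ω} (hm : IsLn φ m) (hn : IsLn φ n) {t : G}
    (ht : t ∈ hG.translations m) : hG.Par n ((t • ·) '' n) := by
  obtain ⟨ht1, ht2⟩ := ((hG.mem_translations hu hm).2 t).1 ht
  rcases ht2 with rfl | hf
  · simpa using hG.par_refl hn
  by_cases hmn : hG.Par m n
  · have : (t • ·) '' n = n := by
      refine hG.ln_eq_of_subset (hG.ln_smul hn t) hn ?_
      rintro _ ⟨z, hz, rfl⟩
      exact hG.classGroup_par hu hmn ht1 hz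
    rw [this]; exact hG.par_refl hn
  obtain ⟨y, hy⟩ := hG.ln_nonempty hn
  obtain ⟨K, hK, hyK⟩ := hG.exists_par hu hm y
  have hKn : K ≠ n := fun e => hmn (e ▸ hK)
  obtain ⟨y', hy', hy'y⟩ := hG.exists_ne_mem hn y
  have hy'K : y' ∉ K := fun e => hKn (hG.ln_eq_of_two hK.2.1 hn hy'y hyK e hy hy')
  obtain ⟨S, hS, hKS, hy'S⟩ := hG.exists_pl_ln hK.2.1 hy'K
  have hnS : n ⊆ S := hG.ln_subset_pl hn hS hy'y hy hy' (hKS hyK) hy'S
  have himg : (t • ·) '' n ⊆ S := by
    rintro _ ⟨z, hz, rfl⟩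
    obtain ⟨K', hK', hzK'⟩ := hG.exists_par hu hK.2.1 z
    exact hG.par_subset_pl hu hK' hS hKS hzK' (hnS hz)
      (hG.classGroup_par hu (Par.trans hG hu hK hK') ht1 hzK')
  refine ⟨hn, hG.ln_smul hn t, Or.inr ⟨Set.disjoint_left.2 ?_, S, hS, hnS, himg⟩⟩
  rintro z hz ⟨z', hz', e⟩
  change t • z' = z at e
  obtain ⟨K', hK', hz'K'⟩ := hG.exists_par hu hm z'
  have hzK' : z ∈ K' := e ▸ hG.classGroup_par hu hK' ht1 hz'K'
  have hne : z ≠ z' := fun h => hf z' (e.trans h)
  exact hmn (hG.ln_eq_of_two hK'.2.1 hn hne hz'K' hzK' hz' hz ▸ hK')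

theorem translations_comm {m m' : Set Ω} (hm : IsLn φ m) (hm' : IsLn φ m') {t s : G}
    (ht : t ∈ hG.translations m) (hs : s ∈ hG.translations m') : Commute t s := by
  by_cases hmm : hG.Par m m'
  · rw [← hG.translations_eq hu hmm] at hs
    exact hG.classGroup_comm hu (((hG.mem_translations hu hm).2 t).1 ht).1
      (((hG.mem_translations hu hm).2 s).1 hs).1
  have h1 : t * s * t⁻¹ * s⁻¹ ∈ hG.translations m' := by
    refine mul_mem ?_ (inv_mem hs)
    rw [hG.translations_eq hu (hG.translations_par hu hm hm' ht)]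
    exact hG.translations_smul hu hm' t hs
  have h2 : t * s * t⁻¹ * s⁻¹ ∈ hG.translations m := by
    rw [show t * s * t⁻¹ * s⁻¹ = t * (s * t⁻¹ * s⁻¹) by group]
    refine mul_mem ht ?_
    rw [hG.translations_eq hu (hG.translations_par hu hm' hm hs)]
    exact hG.translations_smul hu hm s (inv_mem ht)
  obtain ⟨h1', -⟩ := ((hG.mem_translations hu hm').2 _).1 h1
  obtain ⟨h2', h2''⟩ := ((hG.mem_translations hu hm).2 _).1 h2
  rcases h2'' with h | h
  · show t * s = s * t
    calc t * s = t * s * t⁻¹ * s⁻¹ * (s * t) := by group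
      _ = s * t := by rw [h, one_mul]
  · exfalso
    obtain ⟨y, hy⟩ := hG.ln_nonempty hm
    set c := t * s * t⁻¹ * s⁻¹
    obtain ⟨K, hK, hyK⟩ := hG.exists_par hu hm' y
    exact hmm (Par.symm hG ((hG.ln_eq_of_two hm hK.2.1 (h y) hy
      (hG.classGroup_par hu (hG.par_refl hm) h2' hy) hyK (hG.classGroup_par hu hK h1' hyK)).symm ▸ hK))

/-- **All translations form a regular normal abelian group of order `q^3`.** -/
theorem allTranslations_spec [Nonempty Ω] :
    (hG.allTranslations).Normal ∧ Nat.card hG.allTranslations = Nat.card F ^ 3 ∧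
      (∀ r ∈ hG.allTranslations, r * r = 1) ∧
      (∀ r ∈ hG.allTranslations, ∀ s ∈ hG.allTranslations, Commute r s) ∧
      (∀ x y : Ω, ∃ r ∈ hG.allTranslations, r • x = y) ∧
      ∀ r ∈ hG.allTranslations, ∀ x : Ω, r • x = x → r = 1 := by
  set E := hG.allTranslations with hE
  have hcomm : ∀ r ∈ E, ∀ s ∈ E, Commute r s := by
    have : ∀ s ∈ E, ∀ r ∈ E, Commute r s := by
      intro s hs
      induction hs using Subgroup.closure_induction with
      | mem a ha =>
        intro r hr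
        induction hr using Subgroup.closure_induction with
        | mem b hb =>
          obtain ⟨m, hm, ha⟩ := ha
          obtain ⟨m', hm', hb⟩ := hb
          exact hG.translations_comm hu hm' hm hb ha
        | one => exact Commute.one_left _
        | mul _ _ _ _ h1 h2 => exact h1.mul_left h2
        | inv _ _ h1 => exact h1.inv_left
      | one => exact fun _ _ => Commute.one_right _
      | mul _ _ _ _ h1 h2 => exact fun r hr => (h1 r hr).mul_right (h2 r hr)
      | inv _ _ h1 => exact fun r hr => (h1 r hr).inv_right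
    exact fun r hr s hs => this s hs r hr
  have hsq : ∀ r ∈ E, r * r = 1 := by
    intro r hr
    have : r ∈ E ∧ r * r = 1 := by
      induction hr using Subgroup.closure_induction with
      | mem a ha =>
        refine ⟨Subgroup.subset_closure ha, ?_⟩
        obtain ⟨m, hm, ha⟩ := ha
        exact hG.classGroup_sq hu (((hG.mem_translations hu hm).2 a).1 ha).1
      | one => exact ⟨one_mem _, one_mul 1⟩
      | mul a b _ _ h1 h2 =>
        exact ⟨mul_mem h1.1 h2.1, by
          rw [mul_assoc, ← mul_assoc b a b, (hcomm b h2.1 a h1.1).eq, mul_assoc a b b, h2.2, mul_one, h1.2]⟩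
      | inv a _ h1 => exact ⟨inv_mem h1.1, by rw [← _root_.mul_inv_rev, h1.2, inv_one]⟩
    exact this.2
  have htr : ∀ x y : Ω, ∃ r ∈ E, r • x = y := by
    intro x y
    rcases eq_or_ne y x with rfl | h
    · exact ⟨1, one_mem _, one_smul _ _⟩
    · have hl : IsLn φ (lin φ x y) := ⟨x, y, h, rfl⟩
      obtain ⟨t, ht, e⟩ := hG.translations_transitive hu hl (hG.left_mem x y) (right_mem x y)
      exact ⟨t, Subgroup.subset_closure ⟨_, hl, ht⟩, e⟩
  have hfree : ∀ r ∈ E, ∀ x : Ω, r • x = x → r = 1 := by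
    intro r hr x hx
    refine eq_of_smul_eq_smul (α := Ω) fun y => ?_
    obtain ⟨s, hs, rfl⟩ := htr x y
    rw [one_smul, ← mul_smul, (hcomm r hr s hs).eq, mul_smul, hx]
  refine ⟨⟨fun r hr g => ?_⟩, ?_, hsq, hcomm, htr, hfree⟩
  · have hle : E ≤ E.comap (MulAut.conj g).toMonoidHom := by
      refine (Subgroup.closure_le _).2 ?_
      rintro t ⟨m, hm, ht⟩
      exact Subgroup.subset_closure ⟨_, hG.ln_smul hm g, hG.translations_smul hu hm g ht⟩
    exact hle hr
  · obtain ⟨x⟩ := ‹Nonempty Ω›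
    rw [← hG.card_omega' hu x]
    refine Nat.card_eq_of_bijective (fun r : E => (r : G) • x) ⟨fun a b e => Subtype.ext ?_, fun y => ?_⟩
    · exact inv_mul_eq_one.1 (hfree _ (mul_mem (inv_mem a.2) b.2) x
        (by rw [mul_smul, inv_smul_eq_iff]; exact e.symm))
    · obtain ⟨r, hr, e⟩ := htr x y
      exact ⟨⟨r, hr⟩, e⟩

end Geo

end CfsgLib.PlaneStab
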